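import Mathlib
import Cfsg.Agent.Lib.Perm.Trans.TensorCore
import Cfsg.Agent.Lib.Perm.Trans.SympMax
import Cfsg.Agent.Lib.Perm.Trans.OrthB
import Cfsg.Agent.Lib.Perm.Asch.Forms.SpLemmas
import Cfsg.Agent.Lib.Perm.Elusive.SympPairs
import Cfsg.Agent.Lib.Classical.SymmDiag

/-!
# Overgroups of symplectic-orthogonal tensor decompositions: basic elements, and transvections give everything
-/

set_option autoImplicit false
set_option linter.all false

namespace CfsgLib.Perm.Trans.TensorSO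

open scoped Matrix Kronecker
open Matrix Cfsg.Geo CfsgLib.Perm.Asch CfsgLib.Perm.Trans CfsgLib.Perm.Trans.TensorFrame
open CfsgLib.Perm.Trans.TensorMax

/-! ### auxiliary elements -/

section Aux

variable {κ : Type} [Fintype κ] [DecidableEq κ] {F : Type*} [Field F]

/-- the invertible matrix of an injective linear map -/
noncomputable def glInj (φ : (κ → F) →ₗ[F] (κ → F)) (h : Function.Injective φ) : GL κ F :=
  (Matrix.GeneralLinearGroup.toLin (n := κ) (R := F)).symm
    (LinearMap.GeneralLinearGroup.ofLinearEquiv (LinearEquiv.ofInjectiveEndo φ h))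

theorem glInj_mulVec (φ : (κ → F) →ₗ[F] (κ → F)) (h : Function.Injective φ) (x : κ → F) :
    (glInj φ h : Matrix κ κ F) *ᵥ x = φ x :=
  congrArg (fun T : LinearMap.GeneralLinearGroup F (κ → F) => T.val x)
    (Matrix.GeneralLinearGroup.toLin.apply_symm_apply
      (LinearMap.GeneralLinearGroup.ofLinearEquiv (LinearEquiv.ofInjectiveEndo φ h)))

/-- similitudes of a symplectic form with any multiplier, moving any vector to any other -/
theorem exists_simil [Fintype F] {r : ℕ} {f : (Fin r → F) → (Fin r → F) → F} (hf : IsSymplecticForm f) {μ : F}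
    (hμ : μ ≠ 0) {a a' : Fin r → F} (ha : a ≠ 0) (ha' : a' ≠ 0) :
    ∃ A : GL (Fin r) F, (∀ x y, f ((A : Matrix (Fin r) (Fin r) F) *ᵥ x) ((A : Matrix (Fin r) (Fin r) F) *ᵥ y) = μ * f x y) ∧
      (A : Matrix (Fin r) (Fin r) F) *ᵥ a = a' := by
  obtain ⟨d, hd⟩ := isSymplecticForm_even hf
  obtain ⟨w, h1, h2, h3, h4⟩ := CfsgLib.Perm.Elusive.exists_hyperbolic_basis hf
    ((finCongr hd).trans finSumFinEquiv.symm)
  let φ : (Fin r → F) →ₗ[F] (Fin r → F) :=
    w.constr F (Sum.elim (fun i => w (Sum.inl i)) fun i => μ • w (Sum.inr i))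
  let B : LinearMap.BilinForm F (Fin r → F) :=
    LinearMap.mk₂ F f hf.bilinear.add_left hf.bilinear.smul_left hf.bilinear.add_right hf.bilinear.smul_right
  have hB : B.compl₁₂ φ φ = μ • B := LinearMap.ext_basis w w fun i j => by
    show f (φ (w i)) (φ (w j)) = μ * f (w i) (w j)
    simp only [φ, Module.Basis.constr_basis]
    rcases i with i | i <;> rcases j with j | j <;>
      simp only [Sum.elim_inl, Sum.elim_inr, hf.bilinear.smul_left, hf.bilinear.smul_right, h1, h2, h3, h4, mul_zero]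
  have hφ : ∀ x y, f (φ x) (φ y) = μ * f x y := fun x y => LinearMap.congr_fun (LinearMap.congr_fun hB x) y
  have hinj : Function.Injective φ := (injective_iff_map_eq_zero φ).2 fun x hx => by
    by_contra hne
    obtain ⟨y, hy⟩ := (hf.nondegenerate x hne).2
    have h := hφ x y
    rw [hx, Symp.zero_left hf] at h
    exact mul_ne_zero hμ hy h.symm
  have hv : φ a ≠ 0 := fun h => ha (hinj (by rw [h, map_zero]))
  obtain ⟨t, ht, hta⟩ := Symp.move_vec hf (M := Symp.isoSub f) (W := ⊤) (fun u _ c => Symp.stv_iso hf u c)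
    (Symp.isNondegenerateOn_top hf) trivial trivial hv ha'
  refine ⟨t * glInj φ hinj, fun x y => ?_, by rw [gl_mul_mulVec, glInj_mulVec, hta]⟩
  rw [gl_mul_mulVec, gl_mul_mulVec, Symp.mem_isoSub.1 ht.1, glInj_mulVec, glInj_mulVec, hφ]

variable {f : (κ → F) → (κ → F) → F}

/-- the reflection along `d` -/
noncomputable def refl (hf : IsSymmetricForm f) (d : κ → F) (hd : f d d ≠ 0) : GL κ F :=
  glInj (LinearMap.id - (2 / f d d) • (Orth.sfl hf d).smulRight d)
    ((Function.LeftInverse.injective (g := fun x => x - (2 / f d d) • (f x d • d)) fun x => by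
      simp only [LinearMap.sub_apply, LinearMap.id_apply, LinearMap.smul_apply, LinearMap.smulRight_apply,
        show ∀ y, Orth.sfl hf d y = f y d from fun y => rfl, Orth.sym_sub_left hf, hf.bilinear.smul_left]
      match_scalars <;> field_simp <;> ring))

theorem refl_mulVec (hf : IsSymmetricForm f) (d : κ → F) (hd : f d d ≠ 0) (x : κ → F) :
    (refl hf d hd : Matrix κ κ F) *ᵥ x = x - (2 / f d d * f x d) • d := by
  rw [refl, glInj_mulVec, LinearMap.sub_apply, LinearMap.id_apply, LinearMap.smul_apply, LinearMap.smulRight_apply,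
    smul_smul]
  rfl

theorem refl_iso (hf : IsSymmetricForm f) (d : κ → F) (hd : f d d ≠ 0) (x y : κ → F) :
    f ((refl hf d hd : Matrix κ κ F) *ᵥ x) ((refl hf d hd : Matrix κ κ F) *ᵥ y) = f x y := by
  simp only [refl_mulVec, Orth.sym_sub_left hf, Orth.sym_sub_right hf, hf.bilinear.smul_left, hf.bilinear.smul_right,
    hf.symm d y]
  field_simp
  ring

theorem exists_dot_ne_zero {x : κ → F} (hx : x ≠ 0) (hf : IsSymmetricForm f) : ∃ y, f x y ≠ 0 :=
  (hf.nondegenerate x hx).2

theorem sym_eq_zero (hf : IsSymmetricForm f) {x : κ → F} (h : ∀ y, f x y = 0) : x = 0 := by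
  by_contra hne
  obtain ⟨y, hy⟩ := exists_dot_ne_zero hne hf
  exact hy (h y)

/-- a totally isotropic subspace of a nondegenerate space is proper -/
theorem exists_aniso_of_perp (hf : IsSymmetricForm f) (h2 : (2 : F) ≠ 0) {C : Submodule F (κ → F)} {y₀ : κ → F}
    (hy₀ : y₀ ∈ C) {z : κ → F} (hz : z ∈ C) (h : f y₀ z ≠ 0) : ∃ x ∈ C, f x x ≠ 0 := by
  by_contra hcon
  push Not at hcon
  have h1 := hcon _ (C.add_mem hy₀ hz)
  rw [hf.bilinear.add_left, hf.bilinear.add_right, hf.bilinear.add_right, hcon _ hy₀, hcon _ hz, hf.symm z y₀] at h1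
  exact h ((mul_eq_zero.1 (show (2 : F) * f y₀ z = 0 by linear_combination h1)).resolve_left h2)

end Aux

/-! ### the setting -/

variable {ι : Type} [Fintype ι] [DecidableEq ι] {F : Type*} [Field F] [Fintype F] {r s : ℕ}
variable {e : ι ≃ Fin r × Fin s} {P : GL ι F}
variable {f : (ι → F) → (ι → F) → F} {f₁ : (Fin r → F) → (Fin r → F) → F} {f₂ : (Fin s → F) → (Fin s → F) → F}
variable {k : F} {M : Subgroup (GL ι F)}

/-- an overgroup of the stabiliser of a symplectic-orthogonal decomposition -/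
structure SO (f : (ι → F) → (ι → F) → F) (f₁ : (Fin r → F) → (Fin r → F) → F) (f₂ : (Fin s → F) → (Fin s → F) → F)
    (e : ι ≃ Fin r × Fin s) (P : GL ι F) (k : F) (M : Subgroup (GL ι F)) : Prop where
  hf : IsSymplecticForm f
  s1 : IsSymplecticForm f₁
  s2 : IsSymmetricForm f₂
  two : (2 : F) ≠ 0
  kne : k ≠ 0
  rpos : 0 < r
  three : 3 ≤ s
  pol : ∀ x y x' y', f (tvec e P x y) (tvec e P x' y') = k * (f₁ x x' * f₂ y y')
  le : M ≤ Symp.isoSub f
  mem : tensorProductSubgroup r s e P ⊓ Symp.isoSub f ≤ M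

local notation "T" => tvec e P

variable (D : SO f f₁ f₂ e P k M)

/-- the left insertion -/
def tL (e : ι ≃ Fin r × Fin s) (P : GL ι F) (a : Fin r → F) : (Fin s → F) →ₗ[F] (ι → F) where
  toFun y := tvec e P a y
  map_add' := tvec_add_right a
  map_smul' c y := tvec_smul_right c a y

/-- the right insertion -/
def tR (e : ι ≃ Fin r × Fin s) (P : GL ι F) (b : Fin s → F) : (Fin r → F) →ₗ[F] (ι → F) where
  toFun x := tvec e P x b
  map_add' x x' := tvec_add_left x x' b
  map_smul' c x := tvec_smul_left c x b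

theorem tL_apply (a : Fin r → F) (y : Fin s → F) : tL e P a y = T a y := rfl

theorem tR_apply (b : Fin s → F) (x : Fin r → F) : tR e P b x = T x b := rfl

theorem tvec_neg_right (a : Fin r → F) (y : Fin s → F) : T a (-y) = -T a y := map_neg (tL e P a) y

theorem tvec_sub_right (a : Fin r → F) (y y' : Fin s → F) : T a (y - y') = T a y - T a y' := map_sub (tL e P a) y y'

theorem tvec_neg_left (a : Fin r → F) (y : Fin s → F) : T (-a) y = -T a y := map_neg (tR e P y) a

theorem tvec_sub_left (a a' : Fin r → F) (y : Fin s → F) : T (a - a') y = T a y - T a' y := map_sub (tR e P y) a a'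

include D

theorem SO.form_ext {g : GL ι F} (h : ∀ x y x' y', f ((g : Matrix ι ι F) *ᵥ T x y) ((g : Matrix ι ι F) *ᵥ T x' y') =
    f (T x y) (T x' y')) : g ∈ Symp.isoSub f := by
  let B : LinearMap.BilinForm F (ι → F) := LinearMap.mk₂ F f D.hf.bilinear.add_left D.hf.bilinear.smul_left
    D.hf.bilinear.add_right D.hf.bilinear.smul_right
  have key : B.compl₁₂ (Matrix.mulVecLin (g : Matrix ι ι F)) (Matrix.mulVecLin (g : Matrix ι ι F)) = B :=
    lin_ext (e := e) (P := P) fun x y => lin_ext (e := e) (P := P) fun x' y' => h x y x' y'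
  exact Symp.mem_isoSub.2 fun u w => LinearMap.congr_fun (LinearMap.congr_fun key u) w

theorem SO.kg_mem_M {A : GL (Fin r) F} {B : GL (Fin s) F} {μ ν : F} (hμν : μ * ν = 1)
    (hA : ∀ x x', f₁ ((A : Matrix (Fin r) (Fin r) F) *ᵥ x) ((A : Matrix (Fin r) (Fin r) F) *ᵥ x') = μ * f₁ x x')
    (hB : ∀ y y', f₂ ((B : Matrix (Fin s) (Fin s) F) *ᵥ y) ((B : Matrix (Fin s) (Fin s) F) *ᵥ y') = ν * f₂ y y') :
    kg e P A B ∈ M :=
  D.mem ⟨kg_mem A B, D.form_ext fun x y x' y' => by
    rw [kg_tvec, kg_tvec, D.pol, D.pol, hA, hB]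
    linear_combination (k * (f₁ x x' * f₂ y y')) * hμν⟩

theorem SO.kg_left_mem {A : GL (Fin r) F} (hA : A ∈ Symp.isoSub f₁) : kg e P A 1 ∈ M :=
  D.kg_mem_M (μ := 1) (ν := 1) (one_mul 1) (fun x x' => by rw [Symp.mem_isoSub.1 hA, one_mul])
    fun y y' => by simp

theorem SO.kg_right_mem {B : GL (Fin s) F}
    (hB : ∀ y y', f₂ ((B : Matrix (Fin s) (Fin s) F) *ᵥ y) ((B : Matrix (Fin s) (Fin s) F) *ᵥ y') = f₂ y y') :
    kg e P 1 B ∈ M :=
  D.kg_mem_M (μ := 1) (ν := 1) (one_mul 1) (fun x x' => by simp) fun y y' => by rw [hB, one_mul]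

/-- contraction of the first factor -/
def SO.cob (D : SO f f₁ f₂ e P k M) (a : Fin r → F) : (ι → F) →ₗ[F] (Fin s → F) := rc e P (Symp.sv D.s1 a)

/-- contraction of the second factor -/
def SO.cod (D : SO f f₁ f₂ e P k M) (d : Fin s → F) : (ι → F) →ₗ[F] (Fin r → F) := co e P (Orth.ov D.s2 d)

theorem SO.cob_tvec (a x : Fin r → F) (y : Fin s → F) : D.cob a (T x y) = f₁ x a • y := by
  rw [SO.cob, rc_tvec, Symp.sv_dot]

theorem SO.cod_tvec (d : Fin s → F) (x : Fin r → F) (y : Fin s → F) : D.cod d (T x y) = f₂ y d • x := by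
  rw [SO.cod, co_tvec, Orth.ov_dot]

theorem SO.cob_self (a : Fin r → F) (y : Fin s → F) : D.cob a (T a y) = 0 := by
  rw [D.cob_tvec, D.s1.alternating, zero_smul]

theorem SO.pol_cob (a : Fin r → F) (y : Fin s → F) (z : ι → F) : f z (T a y) = k * f₂ (D.cob a z) y := by
  have h : Symp.sfun D.hf (T a y) = k • (Orth.sfl D.s2 y).comp (D.cob a) := lin_ext (e := e) (P := P) fun x' y' => by
    show f (T x' y') (T a y) = k * f₂ (D.cob a (T x' y')) y
    rw [D.pol, D.cob_tvec, D.s2.bilinear.smul_left]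
  exact LinearMap.congr_fun h z

theorem SO.pol_cod (x : Fin r → F) (d : Fin s → F) (z : ι → F) : f z (T x d) = k * f₁ (D.cod d z) x := by
  have h : Symp.sfun D.hf (T x d) = k • (Symp.sfun D.s1 x).comp (D.cod d) := lin_ext (e := e) (P := P) fun x' y' => by
    show f (T x' y') (T x d) = k * f₁ (D.cod d (T x' y')) x
    rw [D.pol, D.cod_tvec, D.s1.bilinear.smul_left, mul_comm (f₁ x' x)]
  exact LinearMap.congr_fun h z

theorem SO.cob_cod (a : Fin r → F) (d : Fin s → F) (z : ι → F) : f₂ (D.cob a z) d = f₁ (D.cod d z) a :=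
  mul_left_cancel₀ D.kne ((D.pol_cob a d z).symm.trans (D.pol_cod a d z))

theorem SO.eq_zero_of_cob {z : ι → F} (h : ∀ a, D.cob a z = 0) : z = 0 := by
  by_contra hne
  obtain ⟨w, hw⟩ := (D.hf.nondegenerate z hne).2
  have h0 : Symp.sfun D.hf w z = 0 := by
    have : ∀ v, f z v = 0 := fun v => by
      induction tvec_span (e := e) (P := P) v using Submodule.span_induction with
      | mem u hu => obtain ⟨x, y, rfl⟩ := hu; rw [D.pol_cob, h, Orth.sym_zero_left D.s2, mul_zero]
      | zero => exact Symp.zero_right D.hf z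
      | add u v _ _ e1 e2 => rw [D.hf.bilinear.add_right, e1, e2, add_zero]
      | smul c u _ e1 => rw [D.hf.bilinear.smul_right, e1, mul_zero]
    exact this w
  exact hw h0

/-- the root `(x ↦ x + l f₁(x,a) a) ⊗ 1` -/
def SO.root (D : SO f f₁ f₂ e P k M) (a : Fin r → F) (l : F) : GL ι F := kg e P (Symp.stv D.s1 a l) 1

theorem SO.root_mem (a : Fin r → F) (l : F) : D.root a l ∈ M := D.kg_left_mem (Symp.stv_iso D.s1 a l)

theorem SO.root_mulVec (a : Fin r → F) (l : F) (z : ι → F) :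
    (D.root a l : Matrix ι ι F) *ᵥ z = z + T a (l • D.cob a z) := by
  have h : Matrix.mulVecLin (D.root a l : Matrix ι ι F) = LinearMap.id + (tL e P a).comp (l • D.cob a) :=
    lin_ext (e := e) (P := P) fun x y => by
      show (D.root a l : Matrix ι ι F) *ᵥ T x y = T x y + T a (l • D.cob a (T x y))
      rw [SO.root, kg_tvec, Symp.stv_mulVec, Units.val_one, one_mulVec, D.cob_tvec, smul_smul, tvec_smul_right,
        tvec_add_left, tvec_smul_left]
  exact LinearMap.congr_fun h z

theorem SO.cob_kg {A : GL (Fin r) F} {B : GL (Fin s) F} {μ : F}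
    (hA : ∀ x x', f₁ ((A : Matrix (Fin r) (Fin r) F) *ᵥ x) ((A : Matrix (Fin r) (Fin r) F) *ᵥ x') = μ * f₁ x x')
    (a : Fin r → F) (z : ι → F) : D.cob ((A : Matrix (Fin r) (Fin r) F) *ᵥ a) ((kg e P A B : Matrix ι ι F) *ᵥ z) =
      μ • ((B : Matrix (Fin s) (Fin s) F) *ᵥ D.cob a z) := by
  have h : (D.cob ((A : Matrix (Fin r) (Fin r) F) *ᵥ a)).comp (Matrix.mulVecLin (kg e P A B : Matrix ι ι F)) =
      μ • (Matrix.mulVecLin (B : Matrix (Fin s) (Fin s) F)).comp (D.cob a) := lin_ext (e := e) (P := P) fun x y => by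
    show D.cob _ ((kg e P A B : Matrix ι ι F) *ᵥ T x y) = μ • ((B : Matrix (Fin s) (Fin s) F) *ᵥ D.cob a (T x y))
    rw [kg_tvec, D.cob_tvec, D.cob_tvec, hA, mulVec_smul, smul_smul]
  exact LinearMap.congr_fun h z

/-- the element `1 ⊗ r_d` -/
noncomputable def SO.R (D : SO f f₁ f₂ e P k M) (d : Fin s → F) (hd : f₂ d d ≠ 0) : GL ι F :=
  kg e P 1 (refl D.s2 d hd)

theorem SO.R_mem (d : Fin s → F) (hd : f₂ d d ≠ 0) : D.R d hd ∈ M := D.kg_right_mem (refl_iso D.s2 d hd)

theorem SO.R_mulVec (d : Fin s → F) (hd : f₂ d d ≠ 0) (z : ι → F) :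
    (D.R d hd : Matrix ι ι F) *ᵥ z = z - T ((2 / f₂ d d) • D.cod d z) d := by
  have h : Matrix.mulVecLin (D.R d hd : Matrix ι ι F) =
      LinearMap.id - (tR e P d).comp ((2 / f₂ d d) • D.cod d) := lin_ext (e := e) (P := P) fun x y => by
    show (D.R d hd : Matrix ι ι F) *ᵥ T x y = T x y - T ((2 / f₂ d d) • D.cod d (T x y)) d
    rw [SO.R, kg_tvec, refl_mulVec, Units.val_one, one_mulVec, D.cod_tvec, smul_smul, tvec_sub_right,
      tvec_smul_left, tvec_smul_right]
  exact LinearMap.congr_fun h z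

/-- the special directions span -/
theorem SO.dirs_span {b : Fin s → F} (hb : b ≠ 0) (hbb : f₂ b b = 0) {B : Submodule F (Fin s → F)}
    (h : ∀ d, f₂ d d ≠ 0 → f₂ b d ≠ 0 → d ∈ B) : B = ⊤ := by
  obtain ⟨p, hp⟩ := exists_dot_ne_zero hb D.s2
  obtain ⟨c, hc⟩ : ∃ c, c = (f₂ b p)⁻¹ • (p - (f₂ p p / (2 * f₂ b p)) • b) := ⟨_, rfl⟩
  have h2 := D.two
  have hbc : f₂ b c = 1 := by
    rw [hc, D.s2.bilinear.smul_right, Orth.sym_sub_right D.s2, D.s2.bilinear.smul_right, hbb, mul_zero, sub_zero,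
      inv_mul_cancel₀ hp]
  have hcc : f₂ c c = 0 := by
    rw [hc]
    simp only [D.s2.bilinear.smul_right, D.s2.bilinear.smul_left, Orth.sym_sub_right D.s2, Orth.sym_sub_left D.s2, hbb,
      D.s2.symm p b]
    field_simp
    ring
  have hmem : ∀ y, f₂ y b = 0 → f₂ y c = 0 → ∀ t : F, f₂ y y + 2 * t ≠ 0 → y + c + t • b ∈ B := by
    intro y hyb hyc t ht
    refine h _ ?_ ?_
    · simp only [D.s2.bilinear.smul_right, D.s2.bilinear.smul_left, D.s2.bilinear.add_right,
        D.s2.bilinear.add_left, hbb, hyb, hyc, hbc, hcc, D.s2.symm b y, D.s2.symm c y, D.s2.symm c b]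
      ring_nf
      ring_nf at ht
      exact ht
    · simp only [D.s2.bilinear.smul_right, D.s2.bilinear.add_right, hbb, hbc, D.s2.symm b y, hyb]
      simp
  have h00 : f₂ (0 : Fin s → F) b = 0 := Orth.sym_zero_left D.s2 _
  have h0c : f₂ (0 : Fin s → F) c = 0 := Orth.sym_zero_left D.s2 _
  have e1 := hmem 0 h00 h0c 1 (by rw [Orth.sym_zero_left D.s2]; simp [h2])
  have e2 := hmem 0 h00 h0c (-1) (by rw [Orth.sym_zero_left D.s2]; simp [h2])
  have hbB : b ∈ B := by
    have := B.smul_mem (2 : F)⁻¹ (B.sub_mem e1 e2)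
    convert this using 1
    match_scalars <;> field_simp <;> ring
  have hcB : c ∈ B := by
    have := B.sub_mem e1 hbB
    convert this using 1
    module
  refine eq_top_iff.2 fun z _ => ?_
  obtain ⟨y, hy⟩ : ∃ y, y = z - f₂ z c • b - f₂ z b • c := ⟨_, rfl⟩
  have hyb : f₂ y b = 0 := by
    simp [hy, Orth.sym_sub_left D.s2, D.s2.bilinear.smul_left, hbb, D.s2.symm c b, hbc]
  have hyc : f₂ y c = 0 := by
    simp [hy, Orth.sym_sub_left D.s2, D.s2.bilinear.smul_left, hcc, hbc]
  obtain ⟨t, ht⟩ : ∃ t : F, f₂ y y + 2 * t ≠ 0 := by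
    by_cases h0 : f₂ y y = 0
    · exact ⟨1, by rw [h0, zero_add, mul_one]; exact h2⟩
    · exact ⟨0, by rw [mul_zero, add_zero]; exact h0⟩
  have e3 := hmem y hyb hyc t ht
  have : y ∈ B := by
    have := B.sub_mem (B.sub_mem e3 hcB) (B.smul_mem t hbB)
    convert this using 1
    module
  have := B.add_mem (B.add_mem this (B.smul_mem (f₂ z c) hbB)) (B.smul_mem (f₂ z b) hcB)
  convert this using 1
  rw [hy]
  module

/-- one transvection at a singular pure vector gives everything -/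
theorem SO.full_of_centre {a : Fin r → F} {b : Fin s → F} (ha : a ≠ 0) (hb : b ≠ 0) (hbb : f₂ b b = 0)
    (h : T a b ∈ Symp.centres D.hf M) : Symp.isoSub f ≤ M := by
  classical
  -- the pure vectors over `b`
  have hline : ∀ x, T x b ∈ Symp.centres D.hf M := by
    intro x
    rcases eq_or_ne x 0 with rfl | hx
    · rw [tvec_zero_left]; exact fun c => by rw [Symp.stv_zero_left]; exact M.one_mem
    obtain ⟨A, hA, hAa⟩ := exists_simil D.s1 one_ne_zero ha hx
    have := Symp.centres_conj D.hf D.le (D.kg_mem_M (B := 1) (μ := 1) (ν := 1) (one_mul 1) hA fun y y' => by simp) h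
    rwa [kg_tvec, hAa, Units.val_one, one_mulVec] at this
  have hlineR : ∀ x d (hd : f₂ d d ≠ 0), T x ((refl D.s2 d hd : Matrix (Fin s) (Fin s) F) *ᵥ b) ∈ Symp.centres D.hf M :=
    fun x d hd => by
      have := Symp.centres_conj D.hf D.le (D.R_mem d hd) (hline x)
      rwa [SO.R, kg_tvec, Units.val_one, one_mulVec] at this
  have hdir : ∀ B : Submodule F (Fin s → F), b ∈ B →
      (∀ d (hd : f₂ d d ≠ 0), f₂ b d ≠ 0 → (refl D.s2 d hd : Matrix (Fin s) (Fin s) F) *ᵥ b ∈ B) → B = ⊤ := by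
    intro B hbB hrB
    refine D.dirs_span hb hbb fun d hd hbd => ?_
    have := B.smul_mem (2 / f₂ d d * f₂ b d)⁻¹ (B.sub_mem hbB (hrB d hd hbd))
    rwa [refl_mulVec, sub_sub_cancel, smul_smul, inv_mul_cancel₀ (mul_ne_zero (div_ne_zero D.two hd) hbd),
      one_smul] at this
  -- the centres span
  have hspan : ∀ ρ, (∀ w ∈ Symp.centres D.hf M, f ρ w = 0) → ρ = 0 := by
    intro ρ hρ
    let L : (ι → F) →ₗ[F] F :=
      { toFun := fun w => f ρ w, map_add' := D.hf.bilinear.add_right ρ, map_smul' := fun c w => D.hf.bilinear.smul_right c ρ w }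
    let B : Submodule F (Fin s → F) := ⨅ x : Fin r → F, (LinearMap.ker L).comap (tL e P x)
    have hBtop : B = ⊤ := hdir B (by simp [B, Submodule.mem_iInf, tL_apply, L]; exact fun x => hρ _ (hline x))
      fun d hd _ => by simp [B, Submodule.mem_iInf, tL_apply, L]; exact fun x => hρ _ (hlineR x d hd)
    have hL : ∀ w, f ρ w = 0 := fun w => by
      induction tvec_span (e := e) (P := P) w using Submodule.span_induction with
      | mem u hu =>
        obtain ⟨x, y, rfl⟩ := hu
        have : y ∈ B := hBtop ▸ Submodule.mem_top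
        simp [B, Submodule.mem_iInf, tL_apply, L] at this
        exact this x
      | zero => exact Symp.zero_right D.hf ρ
      | add u v _ _ e1 e2 => rw [D.hf.bilinear.add_right, e1, e2, add_zero]
      | smul c u _ e1 => rw [D.hf.bilinear.smul_right, e1, mul_zero]
    by_contra hne
    obtain ⟨w, hw⟩ := (D.hf.nondegenerate ρ hne).2
    exact hw (hL w)
  -- adjoining a vector to a subspace of centres
  have adj : ∀ X : Submodule F (ι → F), (∀ u ∈ X, u ∈ Symp.centres D.hf M) → ∀ v ∈ Symp.centres D.hf M,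
      (∃ x ∈ X, f v x ≠ 0) → ∀ u ∈ X ⊔ Submodule.span F {v}, u ∈ Symp.centres D.hf M := by
    intro X hX v hv hvx u hu
    obtain ⟨y, hy, z, hz, rfl⟩ := Submodule.mem_sup.1 hu
    obtain ⟨t, rfl⟩ := Submodule.mem_span_singleton.1 hz
    rcases eq_or_ne t 0 with rfl | ht
    · rw [zero_smul, add_zero]; exact hX y hy
    obtain ⟨x, hx, hfx⟩ := hvx
    suffices ∀ y ∈ X, v + y ∈ Symp.centres D.hf M by
      have h1 := Symp.centres_smul D.hf (this _ (X.smul_mem t⁻¹ hy)) t
      rwa [smul_add, smul_smul, mul_inv_cancel₀ ht, one_smul, add_comm] at h1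
    intro y hy
    by_cases hvy : f v y = 0
    swap
    · have h1 := Symp.centres_line D.hf D.le hv (hX y hy) hvy 1
      rwa [one_smul] at h1
    have hu : ∀ l : F, l ≠ 0 → v + (y + l • x) ∈ Symp.centres D.hf M := fun l hl => by
      have h1 := Symp.centres_line D.hf D.le hv (hX _ (X.add_mem hy (X.smul_mem l hx)))
        (by rw [D.hf.bilinear.add_right, hvy, zero_add, D.hf.bilinear.smul_right]; exact mul_ne_zero hl hfx) 1
      rwa [one_smul] at h1
    by_cases h2 : f (v + y) x = 0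
    swap
    · have h3 := Symp.centres_line D.hf D.le (hu 1 one_ne_zero) (hX _ hx)
        (by rwa [← add_assoc, one_smul, D.hf.bilinear.add_left, D.hf.alternating, add_zero]) (-1)
      convert h3 using 1
      module
    rcases eq_or_ne (v + y) 0 with h0 | h0
    · rw [h0]; exact fun c => by rw [Symp.stv_zero_left]; exact M.one_mem
    -- a centre separating `v + y` and meeting `x`
    obtain ⟨w₀, hw₀, hρw₀⟩ : ∃ w ∈ Symp.centres D.hf M, f (v + y) w ≠ 0 := by
      by_contra hcon
      push Not at hcon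
      exact h0 (hspan _ hcon)
    obtain ⟨w, hw, hρw, hxw⟩ : ∃ w ∈ Symp.centres D.hf M, f (v + y) w ≠ 0 ∧ f x w ≠ 0 := by
      by_cases hxw : f x w₀ = 0
      swap
      · exact ⟨w₀, hw₀, hρw₀, hxw⟩
      have hxv : f x v ≠ 0 := Symp.swap_ne D.hf hfx
      by_cases hwv : f w₀ v = 0
      swap
      · refine ⟨w₀ + (1 : F) • v, Symp.centres_line D.hf D.le hw₀ hv hwv 1, ?_, ?_⟩
        · rwa [one_smul, D.hf.bilinear.add_right, D.hf.bilinear.add_left v y v, D.hf.alternating,
            Symp.swap_zero D.hf hvy, add_zero, add_zero]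
        · rwa [one_smul, D.hf.bilinear.add_right, hxw, zero_add]
      have hwy : f w₀ y ≠ 0 := fun h => hρw₀ (by
        rw [D.hf.bilinear.add_left, Symp.swap_zero D.hf hwv, Symp.swap_zero D.hf h, add_zero])
      have hxy : f x y ≠ 0 := fun h => hfx (by
        rw [D.hf.bilinear.add_left, Symp.swap_zero D.hf h, add_zero] at h2
        exact h2)
      refine ⟨w₀ + (1 : F) • y, Symp.centres_line D.hf D.le hw₀ (hX y hy) hwy 1, ?_, ?_⟩
      · rwa [one_smul, D.hf.bilinear.add_right, D.hf.bilinear.add_left v y y, D.hf.alternating, hvy, add_zero, add_zero]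
      · rwa [one_smul, D.hf.bilinear.add_right, hxw, zero_add]
    obtain ⟨l, hl, huw⟩ : ∃ l : F, l ≠ 0 ∧ f (v + (y + l • x)) w ≠ 0 := by
      by_contra hcon
      push Not at hcon
      have e1 := hcon 1 one_ne_zero
      have e2 := hcon (-1) (neg_ne_zero.2 one_ne_zero)
      simp only [D.hf.bilinear.add_left, D.hf.bilinear.smul_left] at e1 e2
      have : (2 : F) * f x w = 0 := by linear_combination e1 - e2
      exact hxw ((mul_eq_zero.1 this).resolve_left D.two)
    have h3 := Symp.centres_line D.hf D.le (hu l hl) hw huw 1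
    have h4 := Symp.centres_line D.hf D.le h3 (hX _ hx) (by
      rw [← add_assoc, one_smul, D.hf.bilinear.add_left, D.hf.bilinear.add_left, D.hf.bilinear.smul_left, h2,
        D.hf.alternating, mul_zero, add_zero, zero_add]
      exact Symp.swap_ne D.hf hxw) (-l)
    have h5 := Symp.centres_line D.hf D.le h4 hw (by
      simp only [D.hf.bilinear.add_left, D.hf.bilinear.smul_left, D.hf.alternating]
      rw [D.hf.bilinear.add_left] at hρw
      ring_nf
      ring_nf at hρw
      exact hρw) (-1)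
    convert h5 using 1
    module
  obtain ⟨X, hX, hmax⟩ := (wellFounded_gt (α := Submodule F (ι → F))).has_min
    {X | (∀ u ∈ X, u ∈ Symp.centres D.hf M) ∧ LinearMap.range (tR e P b) ≤ X}
    ⟨_, fun u hu => by obtain ⟨x, rfl⟩ := hu; exact hline x, le_rfl⟩
  have hgrow : ∀ v ∈ Symp.centres D.hf M, (∃ x ∈ X, f v x ≠ 0) → v ∈ X := fun v hv hx => by
    by_contra hvX
    refine hmax (X ⊔ Submodule.span F {v}) ⟨adj X hX.1 v hv hx, le_trans hX.2 le_sup_left⟩ ?_
    exact lt_of_le_of_ne le_sup_left fun he =>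
      hvX (he ▸ Submodule.mem_sup_right (Submodule.mem_span_singleton_self v))
  let B : Submodule F (Fin s → F) := ⨅ x : Fin r → F, X.comap (tL e P x)
  have hmemB : ∀ {y}, (∀ x, T x y ∈ X) → y ∈ B := fun h => by
    simpa [B, Submodule.mem_iInf, tL_apply] using h
  have hB : ∀ {y}, y ∈ B → ∀ x, T x y ∈ X := fun h => by
    simpa [B, Submodule.mem_iInf, tL_apply] using h
  have hbB : b ∈ B := hmemB fun x => hX.2 ⟨x, rfl⟩
  have hBtop : B = ⊤ := hdir B hbB fun d hd hbd => hmemB fun x => by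
    rcases eq_or_ne x 0 with rfl | hx
    · rw [tvec_zero_left]; exact X.zero_mem
    obtain ⟨x', hx'⟩ := (D.s1.nondegenerate x hx).2
    refine hgrow _ (hlineR x d hd) ⟨T x' b, hX.2 ⟨x', rfl⟩, ?_⟩
    rw [D.pol, refl_mulVec, Orth.sym_sub_left D.s2, D.s2.bilinear.smul_left, hbb, D.s2.symm d b, zero_sub]
    exact mul_ne_zero D.kne (mul_ne_zero hx' (neg_ne_zero.2 (mul_ne_zero (mul_ne_zero
      (div_ne_zero D.two hd) hbd) hbd)))
  have hXtop : ∀ z, z ∈ X := fun z =>
    (Submodule.span_le.2 (by rintro _ ⟨x, y, rfl⟩; exact hB (hBtop ▸ Submodule.mem_top) x) :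
      Submodule.span F {w | ∃ x y, T x y = w} ≤ X) (tvec_span z)
  exact (Symp.eq_isoSub_of_centres D.hf D.le fun u => hX.1 u (hXtop u)).ge

end CfsgLib.Perm.Trans.TensorSO
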