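import Mathlib
import Cfsg.Agent.Lib.Perm.Trans.TensorSO.Basic
import Cfsg.Agent.Lib.Classical.SpInvolClasses

/-!
# Elements centralising the hyperplane of a root are scalar roots
-/

set_option autoImplicit false
set_option linter.all false

namespace CfsgLib.Perm.Trans.TensorSO

open scoped Matrix Kronecker
open Matrix Cfsg.Geo CfsgLib.Perm.Asch CfsgLib.Perm.Trans CfsgLib.Perm.Trans.TensorFrame
open CfsgLib.Perm.Trans.TensorMax

variable {ι : Type} [Fintype ι] [DecidableEq ι] {F : Type*} [Field F] [Fintype F] {r s : ℕ}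
variable {e : ι ≃ Fin r × Fin s} {P : GL ι F}
variable {f : (ι → F) → (ι → F) → F} {f₁ : (Fin r → F) → (Fin r → F) → F} {f₂ : (Fin s → F) → (Fin s → F) → F}
variable {k : F} {M : Subgroup (GL ι F)}

local notation "T" => tvec e P

/-- the symmetric product of two vectors, as an operator -/
def sdot (hg : IsSymmetricForm f₂) (p q : Fin s → F) : (Fin s → F) →ₗ[F] (Fin s → F) :=
  (Orth.sfl hg p).smulRight q + (Orth.sfl hg q).smulRight p

theorem sdot_apply (hg : IsSymmetricForm f₂) (p q y : Fin s → F) : sdot hg p q y = f₂ y p • q + f₂ y q • p := rfl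

theorem sdot_comm (hg : IsSymmetricForm f₂) (p q : Fin s → F) : sdot hg p q = sdot hg q p := add_comm _ _

/-- independence of a nondegenerate pair -/
theorem exists_perp_pair (hg : IsSymmetricForm f₂) (hs : 3 ≤ s) (u v : Fin s → F) :
    ∃ y, y ≠ 0 ∧ f₂ y u = 0 ∧ f₂ y v = 0 := by
  have h := LinearMap.ker_ne_bot_of_finrank_lt (f := (Orth.sfl hg u).prod (Orth.sfl hg v)) (by simp; omega)
  obtain ⟨y, hy, hy0⟩ := Submodule.exists_mem_ne_zero_of_ne_bot h
  exact ⟨y, hy0, congrArg Prod.fst hy, congrArg Prod.snd hy⟩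

variable (D : SO f f₁ f₂ e P k M)
include D

/-- a subspace of `d⊥` invariant under the reflections of `d⊥` is trivial or everything -/
theorem SO.perp_span (hex : 4 ≤ s ∨ ∃ t : F, t ≠ 0 ∧ t * t ≠ 1) {d v : Fin s → F} (hd : f₂ d d ≠ 0)
    (hv : v ≠ 0) (hvd : f₂ v d = 0) (S : Submodule F (Fin s → F)) (hvS : v ∈ S)
    (hS : ∀ u, f₂ u d = 0 → f₂ u u ≠ 0 → f₂ v u ≠ 0 → u ∈ S) {y : Fin s → F} (hyd : f₂ y d = 0) : y ∈ S := by
  have hg := D.s2
  have h2 := D.two
  by_cases hvv : f₂ v v = 0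
  · obtain ⟨p, hp⟩ := exists_dot_ne_zero hv hg
    obtain ⟨c, hc⟩ : ∃ c, c = p - (f₂ p d / f₂ d d) • d := ⟨_, rfl⟩
    have hcd : f₂ c d = 0 := by
      rw [hc, Orth.sym_sub_left hg, hg.bilinear.smul_left, div_mul_cancel₀ _ hd, sub_self]
    have hvc : f₂ v c ≠ 0 := by
      rwa [hc, Orth.sym_sub_right hg, hg.bilinear.smul_right, hvd, mul_zero, sub_zero]
    have hcS : c ∈ S := by
      by_cases hcc : f₂ c c = 0
      · have h1 := hS (c + v) (by rw [hg.bilinear.add_left, hcd, hvd, add_zero])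
          (by rw [hg.bilinear.add_left, hg.bilinear.add_right, hg.bilinear.add_right, hcc, hvv, hg.symm c v,
            zero_add, add_zero, ← two_mul]; exact mul_ne_zero h2 hvc)
          (by rwa [hg.bilinear.add_right, hvv, add_zero])
        simpa using S.sub_mem h1 hvS
      · exact hS c hcd hcc hvc
    have key : ∀ y, f₂ y d = 0 → f₂ v y ≠ 0 → y ∈ S := fun y hyd hy => by
      by_cases hyy : f₂ y y = 0
      · have h1 := hS (y + v) (by rw [hg.bilinear.add_left, hyd, hvd, add_zero])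
          (by rw [hg.bilinear.add_left, hg.bilinear.add_right, hg.bilinear.add_right, hyy, hvv, hg.symm y v,
            zero_add, add_zero, ← two_mul]; exact mul_ne_zero h2 hy)
          (by rwa [hg.bilinear.add_right, hvv, add_zero])
        simpa using S.sub_mem h1 hvS
      · exact hS y hyd hyy hy
    by_cases hy : f₂ v y = 0
    · simpa using S.sub_mem (key (y + c) (by rw [hg.bilinear.add_left, hyd, hcd, add_zero])
        (by rwa [hg.bilinear.add_right, hy, zero_add])) hcS
    · exact key y hyd hy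
  -- an anisotropic start
  have good : ∀ y, f₂ y d = 0 → f₂ y v = 0 → (∃ t : F, t ≠ 0 ∧ f₂ v v + t * t * f₂ y y ≠ 0) → y ∈ S := by
    rintro y hyd hyv ⟨t, ht, hne⟩
    have h1 := hS (v + t • y) (by rw [hg.bilinear.add_left, hg.bilinear.smul_left, hyd, hvd, mul_zero, add_zero])
      (by
        simp only [hg.bilinear.add_left, hg.bilinear.add_right, hg.bilinear.smul_left, hg.bilinear.smul_right, hyv,
          hg.symm v y]
        ring_nf
        ring_nf at hne
        exact hne)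
      (by rwa [hg.bilinear.add_right, hg.bilinear.smul_right, hg.symm v y, hyv, mul_zero, add_zero])
    have h2 := S.smul_mem t⁻¹ (S.sub_mem h1 hvS)
    rwa [add_sub_cancel_left, smul_smul, inv_mul_cancel₀ ht, one_smul] at h2
  have hperp : ∀ y, f₂ y d = 0 → f₂ y v = 0 → y ∈ S := by
    intro y hyd hyv
    by_cases h1 : f₂ v v + f₂ y y = 0
    swap
    · exact good y hyd hyv ⟨1, one_ne_zero, by rwa [one_mul, one_mul]⟩
    rcases hex with hs | ⟨t, ht, ht1⟩
    swap
    · refine good y hyd hyv ⟨t, ht, fun h => ht1 ?_⟩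
      have hyy : f₂ y y = -f₂ v v := eq_neg_of_add_eq_zero_right h1
      rw [hyy] at h
      have : f₂ v v * (1 - t * t) = 0 := by linear_combination h
      exact (sub_eq_zero.1 ((mul_eq_zero.1 this).resolve_left hvv)).symm
    have hyy : f₂ y y ≠ 0 := fun h => hvv (by rwa [h, add_zero] at h1)
    -- an anisotropic vector orthogonal to the three
    have hker := LinearMap.ker_ne_bot_of_finrank_lt
      (f := (Orth.sfl hg d).prod ((Orth.sfl hg v).prod (Orth.sfl hg y))) (by simp; omega)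
    obtain ⟨z, hz, hz0⟩ := Submodule.exists_mem_ne_zero_of_ne_bot hker
    have hzd : f₂ z d = 0 := congrArg Prod.fst hz
    have hzv : f₂ z v = 0 := congrArg (fun w => w.2.1) hz
    have hzy : f₂ z y = 0 := congrArg (fun w => w.2.2) hz
    obtain ⟨w, hw⟩ := exists_dot_ne_zero hz0 hg
    obtain ⟨w', hw'⟩ : ∃ w', w' = w - (f₂ w d / f₂ d d) • d - (f₂ w v / f₂ v v) • v - (f₂ w y / f₂ y y) • y :=
      ⟨_, rfl⟩
    have hdv : f₂ d v = 0 := by rw [hg.symm, hvd]
    have hdy : f₂ d y = 0 := by rw [hg.symm, hyd]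
    have hvy : f₂ v y = 0 := by rw [hg.symm, hyv]
    have hz' : f₂ z w' ≠ 0 := by
      simpa [hw', Orth.sym_sub_right hg, hg.bilinear.smul_right, hzd, hzv, hzy] using hw
    have hw1 : f₂ w' d = 0 := by
      simp [hw', Orth.sym_sub_left hg, hg.bilinear.smul_left, hvd, hyd, div_mul_cancel₀ _ hd]
    have hw2 : f₂ w' v = 0 := by
      simp [hw', Orth.sym_sub_left hg, hg.bilinear.smul_left, hdv, hyv, div_mul_cancel₀ _ hvv]
    have hw3 : f₂ w' y = 0 := by
      simp [hw', Orth.sym_sub_left hg, hg.bilinear.smul_left, hdy, hvy, div_mul_cancel₀ _ hyy]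
    let C : Submodule F (Fin s → F) :=
      LinearMap.ker ((Orth.sfl hg d).prod ((Orth.sfl hg v).prod (Orth.sfl hg y)))
    have hC : ∀ x, x ∈ C ↔ f₂ x d = 0 ∧ f₂ x v = 0 ∧ f₂ x y = 0 := fun x => by
      show (f₂ x d, f₂ x v, f₂ x y) = 0 ↔ _
      simp [Prod.ext_iff]
    obtain ⟨x, hxC, hxx⟩ := exists_aniso_of_perp hg h2 (C := C) ((hC z).2 ⟨hzd, hzv, hzy⟩)
      ((hC w').2 ⟨hw1, hw2, hw3⟩) hz'
    obtain ⟨hxd, hxv, hxy⟩ := (hC x).1 hxC
    have hsum : f₂ (y + x) (y + x) = f₂ y y + f₂ x x := by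
      simp [hg.bilinear.add_left, hg.bilinear.add_right, hxy, hg.symm y x]
    have hsub : f₂ (y - x) (y - x) = f₂ y y + f₂ x x := by
      simp [Orth.sym_sub_left hg, Orth.sym_sub_right hg, hxy, hg.symm y x]
    have hne : f₂ v v + 1 * 1 * (f₂ y y + f₂ x x) ≠ 0 := fun h => hxx (by linear_combination h - h1)
    have ha := good (y + x) (by rw [hg.bilinear.add_left, hyd, hxd, add_zero])
      (by rw [hg.bilinear.add_left, hyv, hxv, add_zero]) ⟨1, one_ne_zero, by rwa [hsum]⟩
    have hb := good (y - x) (by rw [Orth.sym_sub_left hg, hyd, hxd, sub_zero])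
      (by rw [Orth.sym_sub_left hg, hyv, hxv, sub_zero]) ⟨1, one_ne_zero, by rwa [hsub]⟩
    have := S.smul_mem (2 : F)⁻¹ (S.add_mem ha hb)
    convert this using 1
    match_scalars <;> field_simp <;> ring
  have h3 := S.add_mem (hperp (y - (f₂ y v / f₂ v v) • v)
    (by rw [Orth.sym_sub_left hg, hg.bilinear.smul_left, hyd, hvd, mul_zero, sub_zero])
    (by rw [Orth.sym_sub_left hg, hg.bilinear.smul_left, div_mul_cancel₀ _ hvv, sub_self]))
    (S.smul_mem (f₂ y v / f₂ v v) hvS)
  rwa [sub_add_cancel] at h3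

/-- the operators occurring at a root -/
def SO.cenSet (D : SO f f₁ f₂ e P k M) (a : Fin r → F) : Set ((Fin s → F) →ₗ[F] (Fin s → F)) :=
  {S | ∃ m ∈ M, ∀ z, (m : Matrix ι ι F) *ᵥ z = z + T a (S (D.cob a z))}

theorem SO.cenSet_add {a : Fin r → F} {S S' : (Fin s → F) →ₗ[F] (Fin s → F)} (h : S ∈ D.cenSet a)
    (h' : S' ∈ D.cenSet a) : S + S' ∈ D.cenSet a := by
  obtain ⟨m, hm, hmz⟩ := h
  obtain ⟨m', hm', hmz'⟩ := h'
  refine ⟨m * m', mul_mem hm hm', fun z => ?_⟩
  rw [gl_mul_mulVec, hmz', hmz, map_add, D.cob_self, add_zero, LinearMap.add_apply, tvec_add_right]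
  abel

theorem SO.cenSet_neg {a : Fin r → F} {S : (Fin s → F) →ₗ[F] (Fin s → F)} (h : S ∈ D.cenSet a) :
    -S ∈ D.cenSet a := by
  obtain ⟨m, hm, hmz⟩ := h
  refine ⟨m⁻¹, inv_mem hm, fun z => ?_⟩
  have h1 : z = (m : Matrix ι ι F) *ᵥ (z + T a (-(S (D.cob a z)))) := by
    rw [hmz, map_add, D.cob_self, add_zero, tvec_neg_right]
    abel
  conv_lhs => rw [h1, gl_inv_mulVec]
  rfl

theorem SO.cenSet_smul {a : Fin r → F} (ha : a ≠ 0) {S : (Fin s → F) →ₗ[F] (Fin s → F)} (h : S ∈ D.cenSet a) (c : F) :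
    c • S ∈ D.cenSet a := by
  have hsq : ∀ l : F, ∀ {S}, S ∈ D.cenSet a → (l * l) • S ∈ D.cenSet a := by
    intro l S hS
    rcases eq_or_ne l 0 with rfl | hl
    · refine ⟨1, one_mem M, fun z => ?_⟩
      rw [Units.val_one, one_mulVec, mul_zero, zero_smul, LinearMap.zero_apply, tvec_zero_right, add_zero]
    obtain ⟨m, hm, hmz⟩ := hS
    obtain ⟨A, hA, hAa⟩ := exists_simil D.s1 one_ne_zero ha (a' := l • a) (smul_ne_zero hl ha)
    obtain ⟨g, hg⟩ : ∃ g, g = kg e P A 1 := ⟨_, rfl⟩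
    have hgM : g ∈ M := hg ▸ D.kg_left_mem (Symp.mem_isoSub.2 fun x y => by rw [hA, one_mul])
    refine ⟨g * m * g⁻¹, mul_mem (mul_mem hgM hm) (inv_mem hgM), fun z => ?_⟩
    obtain ⟨w, rfl⟩ : ∃ w, z = (g : Matrix ι ι F) *ᵥ w := ⟨_, (gl_mulVec_inv g z).symm⟩
    rw [gl_mul_mulVec, gl_mul_mulVec, gl_inv_mulVec, hmz, mulVec_add]
    congr 1
    have hc : D.cob (l • a) ((g : Matrix ι ι F) *ᵥ w) = D.cob a w := by
      rw [← hAa, hg, D.cob_kg hA, one_smul, Units.val_one, one_mulVec]
    have hl' : D.cob (l • a) ((g : Matrix ι ι F) *ᵥ w) = l • D.cob a ((g : Matrix ι ι F) *ᵥ w) := by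
      refine LinearMap.congr_fun (lin_ext (e := e) (P := P) (f := D.cob (l • a)) (g := l • D.cob a) fun x y => ?_) _
      rw [LinearMap.smul_apply, D.cob_tvec, D.cob_tvec, D.s1.bilinear.smul_right, smul_smul]
    rw [hl'] at hc
    rw [← hc]
    conv_lhs => rw [hg, kg_tvec, hAa, Units.val_one, one_mulVec, ← hg]
    rw [map_smul, LinearMap.smul_apply, tvec_smul_left, tvec_smul_right, tvec_smul_right, smul_smul]
  obtain ⟨u, v, huv⟩ := CfsgLib.Classical.SpInvolClasses.exists_two_sq D.two c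
  rw [← huv, sq, sq, add_smul]
  exact D.cenSet_add (hsq u h) (hsq v h)

theorem SO.cenSet_zero (a : Fin r → F) : (0 : (Fin s → F) →ₗ[F] (Fin s → F)) ∈ D.cenSet a :=
  ⟨1, one_mem M, fun z => by rw [Units.val_one, one_mulVec, LinearMap.zero_apply, tvec_zero_right, add_zero]⟩

theorem SO.cenSet_conj {a : Fin r → F} {S S' : (Fin s → F) →ₗ[F] (Fin s → F)} (h : S ∈ D.cenSet a)
    {B : GL (Fin s) F}
    (hB : ∀ y y', f₂ ((B : Matrix (Fin s) (Fin s) F) *ᵥ y) ((B : Matrix (Fin s) (Fin s) F) *ᵥ y') = f₂ y y')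
    (hS' : ∀ y, (B : Matrix (Fin s) (Fin s) F) *ᵥ S y = S' ((B : Matrix (Fin s) (Fin s) F) *ᵥ y)) :
    S' ∈ D.cenSet a := by
  obtain ⟨m, hm, hmz⟩ := h
  obtain ⟨g, hg⟩ : ∃ g, g = kg e P (1 : GL (Fin r) F) B := ⟨_, rfl⟩
  have hgM : g ∈ M := hg ▸ D.kg_right_mem hB
  refine ⟨g * m * g⁻¹, mul_mem (mul_mem hgM hm) (inv_mem hgM), fun z => ?_⟩
  obtain ⟨w, rfl⟩ : ∃ w, z = (g : Matrix ι ι F) *ᵥ w := ⟨_, (gl_mulVec_inv g z).symm⟩
  rw [gl_mul_mulVec, gl_mul_mulVec, gl_inv_mulVec, hmz, mulVec_add]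
  congr 1
  have h1 := D.cob_kg (A := (1 : GL (Fin r) F)) (B := B) (μ := 1) (fun x x' => by simp) a w
  rw [Units.val_one, one_mulVec, one_smul, ← hg] at h1
  rw [h1, ← hS']
  conv_lhs => rw [hg, kg_tvec, Units.val_one, one_mulVec]

theorem SO.cen_self_adjoint {a : Fin r → F} (ha : a ≠ 0) {S : (Fin s → F) →ₗ[F] (Fin s → F)} (h : S ∈ D.cenSet a)
    (y y' : Fin s → F) : f₂ (S y) y' = f₂ y (S y') := by
  obtain ⟨m, hm, hmz⟩ := h
  obtain ⟨p, hp⟩ := (D.s1.nondegenerate a ha).1
  have key : ∀ y, D.cob a (T ((f₁ p a)⁻¹ • p) y) = y := fun y => by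
    rw [D.cob_tvec, D.s1.bilinear.smul_left, inv_mul_cancel₀ hp, one_smul]
  obtain ⟨z, hz⟩ : ∃ z, z = T ((f₁ p a)⁻¹ • p) y := ⟨_, rfl⟩
  obtain ⟨z', hz'⟩ : ∃ z', z' = T ((f₁ p a)⁻¹ • p) y' := ⟨_, rfl⟩
  have h1 := Symp.mem_isoSub.1 (D.le hm) z z'
  rw [hmz, hmz, D.hf.bilinear.add_left, D.hf.bilinear.add_right, D.hf.bilinear.add_right, D.pol_cob, D.hf.skew (T a _) z',
    D.pol_cob, D.pol_cob, D.cob_self, Orth.sym_zero_left D.s2] at h1
  rw [hz, hz', key, key] at h1
  have h2 : k * (f₂ y (S y') - f₂ y' (S y)) = 0 := by linear_combination h1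
  rw [D.s2.symm (S y), ← sub_eq_zero.1 ((mul_eq_zero.1 h2).resolve_left D.kne)]

/-- elements centralising the hyperplane of a root are roots -/
theorem SO.cen_scalar (hM : ¬ Symp.isoSub f ≤ M) (hex : 4 ≤ s ∨ ∃ t : F, t ≠ 0 ∧ t * t ≠ 1) {a : Fin r → F}
    (ha : a ≠ 0) {S : (Fin s → F) →ₗ[F] (Fin s → F)} (hS : S ∈ D.cenSet a) : ∃ l : F, ∀ y, S y = l • y := by
  have hg := D.s2
  have h2 := D.two
  have hsub : ∀ {S S'}, S ∈ D.cenSet a → S' ∈ D.cenSet a → S - S' ∈ D.cenSet a := fun h h' => by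
    rw [sub_eq_add_neg]; exact D.cenSet_add h (D.cenSet_neg h')
  -- an anisotropic vector which is not an eigenvector
  by_contra hns
  obtain ⟨d, hd, hSd⟩ : ∃ d, f₂ d d ≠ 0 ∧ ∀ l : F, S d ≠ l • d := by
    by_contra hcon
    push Not at hcon
    let B : LinearMap.BilinForm F (Fin s → F) :=
      LinearMap.mk₂ F f₂ hg.bilinear.add_left hg.bilinear.smul_left hg.bilinear.add_right hg.bilinear.smul_right
    have hB : B.Nondegenerate := by
      constructor
      · intro x hx; exact sym_eq_zero hg hx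
      · intro x hx; exact sym_eq_zero hg fun y => by rw [hg.symm]; exact hx y
    obtain ⟨v, ho, hne⟩ := CfsgLib.Classical.exists_orthogonal_anisotropic h2 B ⟨fun x y => hg.symm x y⟩ hB
      (n := s) (by simp)
    have ho' : ∀ i j, i ≠ j → f₂ (v i) (v j) = 0 := ho
    have hne' : ∀ i, f₂ (v i) (v i) ≠ 0 := hne
    choose lam hlam using fun i => hcon (v i) (hne' i)
    -- comparing two eigenvalues through an anisotropic combination
    have coef : ∀ (x : Fin s → F) i, f₂ (S x) (v i) = lam i * f₂ x (v i) := fun x i => by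
      rw [D.cen_self_adjoint ha hS, hlam i, hg.bilinear.smul_right]
    have cmp : ∀ x, f₂ x x ≠ 0 → ∀ i j, f₂ x (v i) ≠ 0 → f₂ x (v j) ≠ 0 → lam i = lam j := by
      intro x hx i j hi hj
      obtain ⟨l, hl⟩ := hcon x hx
      have e1 := coef x i
      have e2 := coef x j
      rw [hl, hg.bilinear.smul_left] at e1 e2
      rw [← mul_right_cancel₀ hi e1, ← mul_right_cancel₀ hj e2]
    have hall : ∀ i j, lam i = lam j := by
      intro i j
      rcases eq_or_ne i j with rfl | hij
      · rfl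
      by_cases h1 : f₂ (v i) (v i) + f₂ (v j) (v j) = 0
      · obtain ⟨m, hmi, hmj⟩ : ∃ m : Fin s, m ≠ i ∧ m ≠ j := by
          by_contra hc
          push Not at hc
          have h1 := Finset.card_le_card (show (Finset.univ : Finset (Fin s)) ⊆ {i, j} from fun m _ => by
            simp only [Finset.mem_insert, Finset.mem_singleton]
            exact or_iff_not_imp_left.2 (hc m))
          rw [Finset.card_univ, Fintype.card_fin] at h1
          have := D.three
          have := (Finset.card_insert_le i ({j} : Finset (Fin s)))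
          rw [Finset.card_singleton] at this
          omega
        refine cmp (v i + v j + v m) ?_ i j ?_ ?_
        · simp [hg.bilinear.add_left, hg.bilinear.add_right, ho' i j hij, ho' j i hij.symm, ho' i m hmi.symm,
            ho' m i hmi, ho' j m hmj.symm, ho' m j hmj]
          rw [h1, zero_add]
          exact hne' m
        · simpa [hg.bilinear.add_left, ho' j i hij.symm, ho' m i hmi] using hne' i
        · simpa [hg.bilinear.add_left, ho' i j hij, ho' m j hmj] using hne' j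
      · refine cmp (v i + v j) ?_ i j ?_ ?_
        · simpa [hg.bilinear.add_left, hg.bilinear.add_right, ho' i j hij, ho' j i hij.symm] using h1
        · simpa [hg.bilinear.add_left, ho' j i hij.symm] using hne' i
        · simpa [hg.bilinear.add_left, ho' i j hij] using hne' j
    have hs := D.three
    let i0 : Fin s := ⟨0, by omega⟩
    refine hns ⟨lam i0, fun y => ?_⟩
    have hli : LinearIndependent F v := Fintype.linearIndependent_iff.2 fun g hsum i => by
      have h1 := congrArg (fun x => B x (v i)) hsum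
      rw [map_sum, LinearMap.sum_apply, Finset.sum_eq_single i
        (fun j _ hj => by rw [map_smul, LinearMap.smul_apply, ho j i hj, smul_zero])
        (fun h => absurd (Finset.mem_univ i) h), map_smul, LinearMap.smul_apply, map_zero, LinearMap.zero_apply,
        smul_eq_mul] at h1
      exact (mul_eq_zero.1 h1).resolve_right (hne i)
    have hy : y ∈ Submodule.span F (Set.range v) := by
      haveI : Nonempty (Fin s) := ⟨i0⟩
      rw [hli.span_eq_top_of_card_eq_finrank (by simp)]; trivial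
    induction hy using Submodule.span_induction with
    | mem u hu => obtain ⟨i, rfl⟩ := hu; rw [hlam i, hall i i0]
    | zero => rw [map_zero, smul_zero]
    | add u w _ _ e1 e2 => rw [map_add, e1, e2, smul_add]
    | smul c u _ e1 => rw [map_smul, e1, smul_comm]
  obtain ⟨v, hv⟩ : ∃ v, v = S d - (f₂ (S d) d / f₂ d d) • d := ⟨_, rfl⟩
  have hvd : f₂ v d = 0 := by
    rw [hv, Orth.sym_sub_left hg, hg.bilinear.smul_left, div_mul_cancel₀ _ hd, sub_self]
  have hv0 : v ≠ 0 := fun h => hSd _ (sub_eq_zero.1 (hv ▸ h))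
  have hrr : ∀ y, (refl hg d hd : Matrix (Fin s) (Fin s) F) *ᵥ ((refl hg d hd : Matrix (Fin s) (Fin s) F) *ᵥ y) = y :=
    fun y => by
      simp only [refl_mulVec, Orth.sym_sub_left hg, hg.bilinear.smul_left]
      match_scalars <;> field_simp <;> ring
  have hdv : sdot hg d v ∈ D.cenSet a := by
    obtain ⟨S', hS'⟩ : ∃ S', S' = S - (2 / f₂ d d) • sdot hg d v := ⟨_, rfl⟩
    have h1 : S' ∈ D.cenSet a := by
      refine D.cenSet_conj hS (refl_iso hg d hd) fun y => ?_
      simp only [hS', LinearMap.sub_apply, LinearMap.smul_apply, sdot_apply, refl_mulVec, map_sub, map_smul,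
        Orth.sym_sub_left hg, hg.bilinear.smul_left, hg.bilinear.smul_right, hv, Orth.sym_sub_right hg, hg.symm d y,
        D.cen_self_adjoint ha hS y d, hg.symm d (S d)]
      match_scalars <;> field_simp <;> ring
    have h3 := D.cenSet_smul ha (hsub hS h1) (2 / f₂ d d)⁻¹
    rwa [hS', sub_sub_cancel, smul_smul, inv_mul_cancel₀ (div_ne_zero h2 hd), one_smul] at h3
  -- spreading in the orthogonal
  have spread : ∀ {p q : Fin s → F}, f₂ p p ≠ 0 → f₂ q p = 0 → q ≠ 0 → sdot hg p q ∈ D.cenSet a →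
      ∀ y, f₂ y p = 0 → sdot hg p y ∈ D.cenSet a := by
    intro p q hp hqp hq hpq y hy
    let Sp : Submodule F (Fin s → F) :=
      { carrier := {y | sdot hg p y ∈ D.cenSet a}
        add_mem' := fun {u w} hu hw => by
          show sdot hg p (u + w) ∈ D.cenSet a
          rw [show sdot hg p (u + w) = sdot hg p u + sdot hg p w from LinearMap.ext fun y => by
            simp only [sdot_apply, LinearMap.add_apply, hg.bilinear.add_right, smul_add, add_smul]; abel]
          exact D.cenSet_add hu hw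
        zero_mem' := by
          show sdot hg p 0 ∈ D.cenSet a
          rw [show sdot hg p 0 = 0 from LinearMap.ext fun y => by simp [sdot_apply, Orth.sym_zero_right hg]]
          exact D.cenSet_zero a
        smul_mem' := fun c u hu => by
          show sdot hg p (c • u) ∈ D.cenSet a
          rw [show sdot hg p (c • u) = c • sdot hg p u from LinearMap.ext fun y => by
            simp only [sdot_apply, LinearMap.smul_apply, hg.bilinear.smul_right, smul_add, smul_smul, mul_comm c]]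
          exact D.cenSet_smul ha hu c }
    have hqS : q ∈ Sp := hpq
    refine D.perp_span hex hp hq hqp Sp hqS (fun u hup huu hqu => ?_) hy
    have hru : (refl hg u huu : Matrix (Fin s) (Fin s) F) *ᵥ q ∈ Sp := by
      refine D.cenSet_conj hpq (refl_iso hg u huu) fun y => ?_
      have hp' : (refl hg u huu : Matrix (Fin s) (Fin s) F) *ᵥ p = p := by
        rw [refl_mulVec, hg.symm p u, hup, mul_zero, zero_smul, sub_zero]
      rw [sdot_apply, sdot_apply, mulVec_add, mulVec_smul, mulVec_smul, hp']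
      conv_lhs => rw [← refl_iso hg u huu y p, ← refl_iso hg u huu y q, hp']
    have h3 := Sp.smul_mem (2 / f₂ u u * f₂ q u)⁻¹ (Sp.sub_mem hqS hru)
    rwa [refl_mulVec, sub_sub_cancel, smul_smul, inv_mul_cancel₀ (mul_ne_zero (div_ne_zero h2 huu) hqu),
      one_smul] at h3
  have hd0 : d ≠ 0 := fun h => hd (by rw [h, Orth.sym_zero_left hg])
  -- a singular vector seeing `d`
  obtain ⟨n, hn, hdn⟩ : ∃ n, f₂ n n = 0 ∧ f₂ d n ≠ 0 := by
    obtain ⟨b, hb, hbb⟩ : ∃ b, b ≠ 0 ∧ f₂ b b = 0 := by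
      obtain ⟨y, hy0, hyd, hy2⟩ := exists_perp_pair hg D.three d d
      obtain ⟨w, hw⟩ := exists_dot_ne_zero hy0 hg
      let C : Submodule F (Fin s → F) := LinearMap.ker (Orth.sfl hg d)
      obtain ⟨x, hxC, hxx⟩ := exists_aniso_of_perp hg h2 (C := C) (y₀ := y) hyd
        (z := w - (f₂ w d / f₂ d d) • d) (by
          show f₂ (w - (f₂ w d / f₂ d d) • d) d = 0
          rw [Orth.sym_sub_left hg, hg.bilinear.smul_left, div_mul_cancel₀ _ hd, sub_self])
        (by rwa [Orth.sym_sub_right hg, hg.bilinear.smul_right, hyd, mul_zero, sub_zero])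
      have hxd : f₂ x d = 0 := hxC
      obtain ⟨z, hz0, hzd, hzx⟩ := exists_perp_pair hg D.three d x
      by_cases hzz : f₂ z z = 0
      · exact ⟨z, hz0, hzz⟩
      obtain ⟨i, j, hij⟩ := CfsgLib.Classical.exists_binary_one (F := F) h2
        (div_ne_zero hd (neg_ne_zero.2 hzz)) (div_ne_zero hxx (neg_ne_zero.2 hzz))
      refine ⟨i • d + j • x + z, fun h => hzz ?_, ?_⟩
      · have := congrArg (fun w => f₂ w z) h
        simpa [hg.bilinear.add_left, hg.bilinear.smul_left, hg.symm d z, hzd, hg.symm x z, hzx,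
          Orth.sym_zero_left hg] using this
      · simp only [hg.bilinear.add_left, hg.bilinear.add_right, hg.bilinear.smul_left, hg.bilinear.smul_right,
          hg.symm d x, hxd, hg.symm d z, hzd, hg.symm x z, hzx]
        field_simp at hij
        linear_combination -hij
    by_contra hcon
    push Not at hcon
    have hperp : ∀ u, f₂ u u ≠ 0 → f₂ b u ≠ 0 → f₂ d u = 0 := by
      intro u hu hbu
      have hbd := hcon b hbb
      have hsing : f₂ ((refl hg u hu : Matrix (Fin s) (Fin s) F) *ᵥ b) ((refl hg u hu : Matrix (Fin s) (Fin s) F) *ᵥ b) = 0 := by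
        rw [refl_iso hg, hbb]
      have h4 := hcon _ hsing
      rw [refl_mulVec, Orth.sym_sub_right hg, hg.bilinear.smul_right, hbd, zero_sub, neg_eq_zero] at h4
      exact (mul_eq_zero.1 h4).resolve_left (mul_ne_zero (div_ne_zero h2 hu) hbu)
    have htop := D.dirs_span hb hbb (B := LinearMap.ker (Orth.sfl hg d)) fun u hu hbu => by
      show f₂ u d = 0
      rw [hg.symm, hperp u hu hbu]
    exact hd (show d ∈ LinearMap.ker (Orth.sfl hg d) by rw [htop]; trivial)
  -- an anisotropic vector orthogonal to `d` and `n`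
  obtain ⟨x, hxd, hxn, hxx⟩ : ∃ x, f₂ x d = 0 ∧ f₂ x n = 0 ∧ f₂ x x ≠ 0 := by
    obtain ⟨y, hy0, hyd, hyn⟩ := exists_perp_pair hg D.three d n
    obtain ⟨w, hw⟩ := exists_dot_ne_zero hy0 hg
    let C : Submodule F (Fin s → F) := LinearMap.ker ((Orth.sfl hg d).prod (Orth.sfl hg n))
    obtain ⟨w', hw'⟩ : ∃ w', w' = w - (f₂ w n / f₂ d n) • d -
        ((f₂ w d - f₂ w n / f₂ d n * f₂ d d) / f₂ d n) • n := ⟨_, rfl⟩
    have e1 : f₂ w' d = 0 := by
      simp only [hw', Orth.sym_sub_left hg, hg.bilinear.smul_left, hg.symm n d]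
      field_simp
      ring
    have e2 : f₂ w' n = 0 := by
      simp only [hw', Orth.sym_sub_left hg, hg.bilinear.smul_left, hn]
      field_simp
      ring
    obtain ⟨x, hx, hxx⟩ := exists_aniso_of_perp hg h2 (C := C) (y₀ := y) (Prod.ext hyd hyn) (z := w')
      (Prod.ext e1 e2)
      (by simp only [hw', Orth.sym_sub_right hg, hg.bilinear.smul_right, hyd, hyn]; simpa using hw)
    exact ⟨x, congrArg Prod.fst hx, congrArg Prod.snd hx, hxx⟩
  have hn0 : n ≠ 0 := fun h => hdn (by rw [h, Orth.sym_zero_right hg])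
  have hdx := spread hd hvd hv0 hdv x hxd
  rw [sdot_comm] at hdx
  have hxnS := spread hxx (by rw [hg.symm, hxd]) hd0 hdx n (by rw [hg.symm, hxn])
  -- moving `x` by an Eichler transformation
  have hu : f₂ (x + n) (x + n) ≠ 0 := by
    simpa [hg.bilinear.add_left, hg.bilinear.add_right, hxn, hg.symm n x, hn] using hxx
  obtain ⟨B, hB⟩ : ∃ B, B = refl hg x hxx * refl hg (x + n) hu := ⟨_, rfl⟩
  have hBn : (B : Matrix (Fin s) (Fin s) F) *ᵥ n = n := by
    rw [hB, gl_mul_mulVec, refl_mulVec, refl_mulVec]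
    simp [hg.bilinear.add_right, hg.symm n x, hxn, hn]
  have hBx : (B : Matrix (Fin s) (Fin s) F) *ᵥ x = x + (-2 : F) • n := by
    simp only [hB, gl_mul_mulVec, refl_mulVec, hg.bilinear.add_right, hg.bilinear.add_left, Orth.sym_sub_left hg,
      hg.bilinear.smul_left, hxn, hg.symm n x, hn, add_zero, zero_add, mul_zero, sub_zero]
    match_scalars <;> field_simp <;> ring
  have hBiso : ∀ y y', f₂ ((B : Matrix (Fin s) (Fin s) F) *ᵥ y) ((B : Matrix (Fin s) (Fin s) F) *ᵥ y') = f₂ y y' :=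
    fun y y' => by rw [hB, gl_mul_mulVec, gl_mul_mulVec, refl_iso hg, refl_iso hg]
  have hnew : sdot hg (x + (-2 : F) • n) n ∈ D.cenSet a := by
    refine D.cenSet_conj hxnS hBiso fun y => ?_
    rw [sdot_apply, sdot_apply, mulVec_add, mulVec_smul, mulVec_smul, hBn, hBx]
    conv_lhs => rw [← hBiso y x, ← hBiso y n, hBn, hBx]
  have hnn : sdot hg n n ∈ D.cenSet a := by
    have := D.cenSet_smul ha (hsub hnew hxnS) (-2 : F)⁻¹
    rwa [show sdot hg (x + (-2 : F) • n) n - sdot hg x n = (-2 : F) • sdot hg n n from LinearMap.ext fun y => by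
      simp only [sdot_apply, LinearMap.sub_apply, LinearMap.smul_apply, hg.bilinear.add_right, hg.bilinear.smul_right]
      module, smul_smul, inv_mul_cancel₀ (neg_ne_zero.2 h2), one_smul] at this
  refine hM (D.full_of_centre ha hn0 hn fun c => ?_)
  obtain ⟨m, hm, hmz⟩ := D.cenSet_smul ha hnn (k * c / 2)
  convert hm using 1
  refine gl_ext_vec fun z => ?_
  rw [hmz, Symp.stv_mulVec, D.pol_cob, LinearMap.smul_apply, sdot_apply, ← two_smul F, smul_smul, smul_smul,
    tvec_smul_right]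
  congr 2
  field_simp

end CfsgLib.Perm.Trans.TensorSO
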