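import Mathlib
import Cfsg.Agent.Lib.Perm.Trans.TensorSO.Cen

/-!
# Elements in the radical of the stabiliser of a pure subspace lie in the tensor product subgroup
-/

set_option autoImplicit false
set_option linter.all false

namespace CfsgLib.Perm.Trans.TensorSO

open scoped Matrix Kronecker
open Matrix Cfsg.Geo CfsgLib.Perm.Asch CfsgLib.Perm.Trans CfsgLib.Perm.Trans.TensorFrame
open CfsgLib.Perm.Trans.TensorMax

/-- all anisotropic vectors eigen gives scalar -/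
theorem eigen_scalar {F : Type*} [Field F] [Finite F] {s : ℕ} (hs : 3 ≤ s) {f₂ : (Fin s → F) → (Fin s → F) → F}
    (hg : IsSymmetricForm f₂) (h2 : (2 : F) ≠ 0) {S : (Fin s → F) →ₗ[F] (Fin s → F)}
    (h : ∀ d, f₂ d d ≠ 0 → ∃ l : F, S d = l • d) : ∃ l : F, ∀ y, S y = l • y := by
  classical
  let B : LinearMap.BilinForm F (Fin s → F) :=
    LinearMap.mk₂ F f₂ hg.bilinear.add_left hg.bilinear.smul_left hg.bilinear.add_right hg.bilinear.smul_right
  have hB : B.Nondegenerate :=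
    ⟨fun x hx => sym_eq_zero hg hx, fun x hx => sym_eq_zero hg fun y => by rw [hg.symm]; exact hx y⟩
  obtain ⟨v, ho, hne⟩ := CfsgLib.Classical.exists_orthogonal_anisotropic h2 B ⟨fun x y => hg.symm x y⟩ hB
    (n := s) (by simp)
  have ho' : ∀ i j, i ≠ j → f₂ (v i) (v j) = 0 := ho
  have hne' : ∀ i, f₂ (v i) (v i) ≠ 0 := hne
  choose lam hlam using fun i => h (v i) (hne' i)
  have hall : ∀ i j, lam i = lam j := by
    intro i j
    rcases eq_or_ne i j with rfl | hij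
    · rfl
    by_cases h1 : f₂ (v i) (v i) + f₂ (v j) (v j) = 0
    · obtain ⟨m, hmi, hmj⟩ : ∃ m : Fin s, m ≠ i ∧ m ≠ j := by
        by_contra hc
        push Not at hc
        have h1 := Finset.card_le_card (show (Finset.univ : Finset (Fin s)) ⊆ {i, j} from fun m _ => by
          simp only [Finset.mem_insert, Finset.mem_singleton]
          exact or_iff_not_imp_left.2 (hc m))
        rw [Finset.card_univ, Fintype.card_fin] at h1
        have := (Finset.card_insert_le i ({j} : Finset (Fin s)))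
        rw [Finset.card_singleton] at this
        omega
      obtain ⟨l, hl⟩ := h (v i + v j + v m) (by
        simp [hg.bilinear.add_left, hg.bilinear.add_right, ho' i j hij, ho' j i hij.symm, ho' i m hmi.symm,
          ho' m i hmi, ho' j m hmj.symm, ho' m j hmj]
        rw [h1, zero_add]
        exact hne' m)
      rw [map_add, map_add, hlam, hlam, hlam] at hl
      have ei := congrArg (fun x => f₂ x (v i)) hl
      have ej := congrArg (fun x => f₂ x (v j)) hl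
      simp [hg.bilinear.add_left, hg.bilinear.smul_left, ho' j i hij.symm, ho' m i hmi, hne' i] at ei
      simp [hg.bilinear.add_left, hg.bilinear.smul_left, ho' i j hij, ho' m j hmj, hne' j] at ej
      rw [ei, ej]
    · obtain ⟨l, hl⟩ := h (v i + v j) (by
        simpa [hg.bilinear.add_left, hg.bilinear.add_right, ho' i j hij, ho' j i hij.symm] using h1)
      rw [map_add, hlam, hlam] at hl
      have ei := congrArg (fun x => f₂ x (v i)) hl
      have ej := congrArg (fun x => f₂ x (v j)) hl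
      simp [hg.bilinear.add_left, hg.bilinear.smul_left, ho' j i hij.symm, hne' i] at ei
      simp [hg.bilinear.add_left, hg.bilinear.smul_left, ho' i j hij, hne' j] at ej
      rw [ei, ej]
  let i0 : Fin s := ⟨0, by omega⟩
  refine ⟨lam i0, fun y => ?_⟩
  have hli : LinearIndependent F v := Fintype.linearIndependent_iff.2 fun g hsum i => by
    have h1 := congrArg (fun x => B x (v i)) hsum
    rw [map_sum, LinearMap.sum_apply, Finset.sum_eq_single i
      (fun j _ hj => by rw [map_smul, LinearMap.smul_apply, ho j i hj, smul_zero])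
      (fun h => absurd (Finset.mem_univ i) h), map_smul, LinearMap.smul_apply, map_zero, LinearMap.zero_apply,
      smul_eq_mul] at h1
    exact (mul_eq_zero.1 h1).resolve_right (hne i)
  have hy : y ∈ Submodule.span F (Set.range v) := by
    haveI : Nonempty (Fin s) := ⟨i0⟩
    rw [hli.span_eq_top_of_card_eq_finrank (by simp)]; trivial
  induction hy using Submodule.span_induction with
  | mem u hu => obtain ⟨i, rfl⟩ := hu; rw [hlam i, hall i i0]
  | zero => rw [map_zero, smul_zero]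
  | add u w _ _ e1 e2 => rw [map_add, e1, e2, smul_add]
  | smul c u _ e1 => rw [map_smul, e1, smul_comm]

variable {ι : Type} [Fintype ι] [DecidableEq ι] {F : Type*} [Field F] [Fintype F] {r s : ℕ}
variable {e : ι ≃ Fin r × Fin s} {P : GL ι F}
variable {f : (ι → F) → (ι → F) → F} {f₁ : (Fin r → F) → (Fin r → F) → F} {f₂ : (Fin s → F) → (Fin s → F) → F}
variable {k : F} {M : Subgroup (GL ι F)}

local notation "T" => tvec e P

variable (D : SO f f₁ f₂ e P k M)

/-- elements of `M` in the radical of the stabiliser of `a ⊗ W` -/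
structure SO.IsRad (D : SO f f₁ f₂ e P k M) (a : Fin r → F) (m : GL ι F) : Prop where
  mem : m ∈ M
  fix : ∀ y, (m : Matrix ι ι F) *ᵥ T a y = T a y
  low : ∀ z, D.cob a z = 0 → ∃ η, (m : Matrix ι ι F) *ᵥ z = z + T a η
  quo : ∀ z, D.cob a ((m : Matrix ι ι F) *ᵥ z) = D.cob a z

include D

/-- the displacement of `c ⊗ W` -/
def SO.Phi (D : SO f f₁ f₂ e P k M) (c : Fin r → F) (m : GL ι F) : (Fin s → F) →ₗ[F] (ι → F) :=
  (Matrix.mulVecLin (m : Matrix ι ι F) - LinearMap.id).comp (tL e P c)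

theorem SO.Phi_apply (c : Fin r → F) (m : GL ι F) (y : Fin s → F) :
    D.Phi c m y = (m : Matrix ι ι F) *ᵥ T c y - T c y := rfl

theorem SO.cob_add_left (a b : Fin r → F) (z : ι → F) : D.cob (a + b) z = D.cob a z + D.cob b z :=
  LinearMap.congr_fun (lin_ext (e := e) (P := P) (f := D.cob (a + b)) (g := D.cob a + D.cob b) fun x y => by
    rw [LinearMap.add_apply, D.cob_tvec, D.cob_tvec, D.cob_tvec, D.s1.bilinear.add_right, add_smul]) z

theorem SO.cob_smul_left (t : F) (a : Fin r → F) (z : ι → F) : D.cob (t • a) z = t • D.cob a z :=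
  LinearMap.congr_fun (lin_ext (e := e) (P := P) (f := D.cob (t • a)) (g := t • D.cob a) fun x y => by
    rw [LinearMap.smul_apply, D.cob_tvec, D.cob_tvec, D.s1.bilinear.smul_right, smul_smul]) z

/-- maps agreeing on the `w ⊗ W` with `w ⊥ a` agree on the kernel of the contraction with `a` -/
theorem SO.ker_ext {a c : Fin r → F} (hca : f₁ c a = 1) {N : Type*} [AddCommGroup N] [Module F N]
    {L L' : (ι → F) →ₗ[F] N} (h : ∀ w y, f₁ w a = 0 → L (T w y) = L' (T w y)) {z : ι → F} (hz : D.cob a z = 0) :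
    L z = L' z := by
  have key : (L - L').comp (LinearMap.id - (tL e P c).comp (D.cob a)) = 0 := lin_ext (e := e) (P := P) fun x y => by
    simp only [LinearMap.comp_apply, LinearMap.sub_apply, LinearMap.id_apply, LinearMap.zero_apply, tL_apply]
    rw [D.cob_tvec, tvec_smul_right, ← tvec_smul_left, ← tvec_sub_left, sub_eq_zero]
    exact h _ _ (by rw [Symp.sub_left D.s1, D.s1.bilinear.smul_left, hca, mul_one, sub_self])
  have h1 := LinearMap.congr_fun key z
  simp only [LinearMap.comp_apply, LinearMap.sub_apply, LinearMap.id_apply, LinearMap.zero_apply, hz, map_zero,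
    sub_zero] at h1
  exact sub_eq_zero.1 h1

theorem SO.IsRad.cob_Phi {a : Fin r → F} {m : GL ι F} (h : D.IsRad a m) (c : Fin r → F) (y : Fin s → F) :
    D.cob a (D.Phi c m y) = 0 := by
  rw [D.Phi_apply, map_sub, h.quo, sub_self]

/-- the displacement of the kernel is dual to that of `c ⊗ W` -/
theorem SO.IsRad.low_eq {a c : Fin r → F} (hca : f₁ c a = 1) {m : GL ι F} (h : D.IsRad a m) {z : ι → F}
    (hz : D.cob a z = 0) : ∃ η, (m : Matrix ι ι F) *ᵥ z = z + T a η ∧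
      ∀ y, k * f₂ η y = f z (D.Phi c m y) := by
  obtain ⟨η, hη⟩ := h.low z hz
  refine ⟨η, hη, fun y => ?_⟩
  have h1 := Symp.mem_isoSub.1 (D.le h.mem) z (T c y)
  rw [show (m : Matrix ι ι F) *ᵥ T c y = T c y + D.Phi c m y by rw [D.Phi_apply]; abel, hη,
    D.hf.bilinear.add_left, D.hf.bilinear.add_right, D.hf.bilinear.add_right, D.hf.skew (T a η) (D.Phi c m y),
    D.pol_cob a η, h.cob_Phi D c y, Orth.sym_zero_left D.s2, D.pol, D.s1.skew a c, hca] at h1
  linear_combination -h1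

theorem SO.IsRad.mul {a : Fin r → F} {m m' : GL ι F} (h : D.IsRad a m) (h' : D.IsRad a m') : D.IsRad a (m * m') where
  mem := mul_mem h.mem h'.mem
  fix y := by rw [gl_mul_mulVec, h'.fix, h.fix]
  low z hz := by
    obtain ⟨η', hη'⟩ := h'.low z hz
    obtain ⟨η, hη⟩ := h.low z hz
    exact ⟨η + η', by rw [gl_mul_mulVec, hη', mulVec_add, hη, h.fix, tvec_add_right]; abel⟩
  quo z := by rw [gl_mul_mulVec, h.quo, h'.quo]

theorem SO.IsRad.inv {a : Fin r → F} {m : GL ι F} (h : D.IsRad a m) : D.IsRad a m⁻¹ where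
  mem := inv_mem h.mem
  fix y := by conv_lhs => rw [← h.fix y, gl_inv_mulVec]
  low z hz := by
    obtain ⟨η, hη⟩ := h.low z hz
    refine ⟨-η, ?_⟩
    have : z = (m : Matrix ι ι F) *ᵥ (z + T a (-η)) := by
      rw [mulVec_add, hη, h.fix, tvec_neg_right]; abel
    conv_lhs => rw [this, gl_inv_mulVec]
  quo z := by conv_rhs => rw [← gl_mulVec_inv m z, h.quo]

/-- contraction of the displacement, additive -/
theorem SO.G_mul {a c w : Fin r → F} (hw : f₁ w a = 0) {m m' : GL ι F} (h : D.IsRad a m) (h' : D.IsRad a m')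
    (y : Fin s → F) : D.cob w (D.Phi c (m * m') y) = D.cob w (D.Phi c m y) + D.cob w (D.Phi c m' y) := by
  obtain ⟨η, hη⟩ := h.low (D.Phi c m' y) (h'.cob_Phi D c y)
  rw [D.Phi_apply, gl_mul_mulVec, show (m' : Matrix ι ι F) *ᵥ T c y = T c y + D.Phi c m' y by rw [D.Phi_apply]; abel,
    mulVec_add, hη, map_sub, map_add, map_add, D.cob_tvec w a, D.s1.skew a w, hw, neg_zero, zero_smul, add_zero,
    D.Phi_apply c m, map_sub]
  abel

theorem SO.G_inv {a c w : Fin r → F} (hw : f₁ w a = 0) {m : GL ι F} (h : D.IsRad a m)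
    (y : Fin s → F) : D.cob w (D.Phi c m⁻¹ y) = -D.cob w (D.Phi c m y) := by
  have h1 := D.G_mul (c := c) hw (SO.IsRad.inv D h) h y
  rw [inv_mul_cancel, D.Phi_apply c 1, Units.val_one, one_mulVec, sub_self, map_zero] at h1
  exact eq_neg_of_add_eq_zero_left h1.symm

/-- conjugating by a member of the tensor subgroup fixing `a` and `c` -/
theorem SO.IsRad.conj {a c : Fin r → F} {m : GL ι F} (h : D.IsRad a m) {A : GL (Fin r) F} {B : GL (Fin s) F}
    (hA : ∀ x x', f₁ ((A : Matrix (Fin r) (Fin r) F) *ᵥ x) ((A : Matrix (Fin r) (Fin r) F) *ᵥ x') = f₁ x x')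
    (hB : ∀ y y', f₂ ((B : Matrix (Fin s) (Fin s) F) *ᵥ y) ((B : Matrix (Fin s) (Fin s) F) *ᵥ y') = f₂ y y')
    (hAa : (A : Matrix (Fin r) (Fin r) F) *ᵥ a = a) (hAc : (A : Matrix (Fin r) (Fin r) F) *ᵥ c = c) :
    D.IsRad a (kg e P A B * m * (kg e P A B)⁻¹) ∧ ∀ w y,
      D.cob ((A : Matrix (Fin r) (Fin r) F) *ᵥ w)
        (D.Phi c (kg e P A B * m * (kg e P A B)⁻¹) ((B : Matrix (Fin s) (Fin s) F) *ᵥ y)) =
      (B : Matrix (Fin s) (Fin s) F) *ᵥ D.cob w (D.Phi c m y) := by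
  obtain ⟨g, hg⟩ : ∃ g, g = kg e P A B := ⟨_, rfl⟩
  have hgM : g ∈ M := hg ▸ D.kg_mem_M (μ := 1) (ν := 1) (one_mul 1) (fun x x' => by rw [hA, one_mul])
    fun y y' => by rw [hB, one_mul]
  have hcob : ∀ z, D.cob a ((g : Matrix ι ι F) *ᵥ z) = (B : Matrix (Fin s) (Fin s) F) *ᵥ D.cob a z := fun z => by
    conv_lhs => rw [← hAa, hg, D.cob_kg (μ := 1) (fun x x' => by rw [hA, one_mul]), one_smul]
  have hga : ∀ y, (g : Matrix ι ι F) *ᵥ T a y = T a ((B : Matrix (Fin s) (Fin s) F) *ᵥ y) := fun y => by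
    rw [hg, kg_tvec, hAa]
  rw [← hg]
  refine ⟨⟨mul_mem (mul_mem hgM h.mem) (inv_mem hgM), fun y => ?_, fun z hz => ?_, fun z => ?_⟩, fun w y => ?_⟩
  · obtain ⟨y', rfl⟩ : ∃ y', y = (B : Matrix (Fin s) (Fin s) F) *ᵥ y' := ⟨_, (gl_mulVec_inv B y).symm⟩
    rw [gl_mul_mulVec, gl_mul_mulVec, ← hga, gl_inv_mulVec, h.fix]
  · obtain ⟨z', rfl⟩ : ∃ z', z = (g : Matrix ι ι F) *ᵥ z' := ⟨_, (gl_mulVec_inv g z).symm⟩
    rw [hcob, gl_mulVec_eq_zero] at hz
    obtain ⟨η, hη⟩ := h.low z' hz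
    exact ⟨(B : Matrix (Fin s) (Fin s) F) *ᵥ η, by rw [gl_mul_mulVec, gl_mul_mulVec, gl_inv_mulVec, hη, mulVec_add, hga]⟩
  · obtain ⟨z', rfl⟩ : ∃ z', z = (g : Matrix ι ι F) *ᵥ z' := ⟨_, (gl_mulVec_inv g z).symm⟩
    rw [gl_mul_mulVec, gl_mul_mulVec, gl_inv_mulVec, hcob, hcob, h.quo]
  · have hgc : (g : Matrix ι ι F) *ᵥ T c y = T c ((B : Matrix (Fin s) (Fin s) F) *ᵥ y) := by rw [hg, kg_tvec, hAc]
    rw [D.Phi_apply, D.Phi_apply, gl_mul_mulVec, gl_mul_mulVec, ← hgc, gl_inv_mulVec, ← mulVec_sub, hg,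
      D.cob_kg (μ := 1) (fun x x' => by rw [hA, one_mul]), one_smul]

/-- the commutator of two elements of the radical is a root -/
theorem SO.IsRad.comm (hM : ¬ Symp.isoSub f ≤ M) (hex : 4 ≤ s ∨ ∃ t : F, t ≠ 0 ∧ t * t ≠ 1) {a c : Fin r → F}
    (hca : f₁ c a = 1) {m m' : GL ι F} (h : D.IsRad a m) (h' : D.IsRad a m') : ∃ l : F, ∀ y y',
      f (D.Phi c m' y) (D.Phi c m y') - f (D.Phi c m y) (D.Phi c m' y') = l * f₂ y y' := by
  have ha : a ≠ 0 := fun h => by rw [h, Symp.zero_right D.s1] at hca; exact zero_ne_one hca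
  -- the displacements of the kernel as linear maps
  have hpsi : ∀ {m : GL ι F}, D.IsRad a m → ∀ z, D.cob a z = 0 →
      (m : Matrix ι ι F) *ᵥ z = z + T a (-(D.cob c ((m : Matrix ι ι F) *ᵥ z - z))) := fun {m} h z hz => by
    obtain ⟨η, hη⟩ := h.low z hz
    rw [hη, add_sub_cancel_left, D.cob_tvec, D.s1.skew a c, hca, neg_one_smul, neg_neg]
  let S : (Fin s → F) →ₗ[F] (Fin s → F) :=
    -((D.cob c).comp ((Matrix.mulVecLin (m : Matrix ι ι F) - LinearMap.id).comp (D.Phi c m'))) +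
      (D.cob c).comp ((Matrix.mulVecLin (m' : Matrix ι ι F) - LinearMap.id).comp (D.Phi c m))
  have hS : S ∈ D.cenSet a := by
    refine ⟨m * m' * (m' * m)⁻¹, mul_mem (mul_mem h.mem h'.mem) (inv_mem (mul_mem h'.mem h.mem)), fun z' => ?_⟩
    obtain ⟨z, rfl⟩ : ∃ z, z' = ((m' * m : GL ι F) : Matrix ι ι F) *ᵥ z := ⟨_, (gl_mulVec_inv _ z').symm⟩
    rw [gl_mul_mulVec (m * m'), gl_inv_mulVec, (SO.IsRad.mul D h' h).quo]
    obtain ⟨z0, hz0, hz⟩ : ∃ z0, D.cob a z0 = 0 ∧ z = z0 + T c (D.cob a z) :=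
      ⟨z - T c (D.cob a z), by rw [map_sub, D.cob_tvec, hca, one_smul, sub_self], (sub_add_cancel _ _).symm⟩
    obtain ⟨y, hy⟩ : ∃ y, y = D.cob a z := ⟨_, rfl⟩
    rw [← hy] at hz ⊢
    rw [hz]
    have exp : ∀ {u v : GL ι F}, D.IsRad a u → D.IsRad a v → ((u * v : GL ι F) : Matrix ι ι F) *ᵥ (z0 + T c y) =
        z0 + T c y + D.Phi c u y + D.Phi c v y + T a (-(D.cob c ((u : Matrix ι ι F) *ᵥ z0 - z0)) +
          -(D.cob c ((v : Matrix ι ι F) *ᵥ z0 - z0)) +
          -(D.cob c ((u : Matrix ι ι F) *ᵥ D.Phi c v y - D.Phi c v y))) := fun {u v} hu hv => by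
      obtain ⟨q1, hq1⟩ : ∃ q, q = -(D.cob c ((u : Matrix ι ι F) *ᵥ z0 - z0)) := ⟨_, rfl⟩
      obtain ⟨q2, hq2⟩ : ∃ q, q = -(D.cob c ((v : Matrix ι ι F) *ᵥ z0 - z0)) := ⟨_, rfl⟩
      obtain ⟨q3, hq3⟩ : ∃ q, q = -(D.cob c ((u : Matrix ι ι F) *ᵥ D.Phi c v y - D.Phi c v y)) := ⟨_, rfl⟩
      have e1 := hpsi hu z0 hz0
      have e2 := hpsi hv z0 hz0
      have e3 := hpsi hu _ (hv.cob_Phi D c y)
      rw [← hq1] at e1 ⊢
      rw [← hq2] at e2 ⊢
      rw [← hq3] at e3 ⊢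
      rw [gl_mul_mulVec, mulVec_add, e2,
        show (v : Matrix ι ι F) *ᵥ T c y = T c y + D.Phi c v y by rw [D.Phi_apply]; abel,
        mulVec_add, mulVec_add, mulVec_add, e1, hu.fix,
        show (u : Matrix ι ι F) *ᵥ T c y = T c y + D.Phi c u y by
          rw [D.Phi_apply]; abel, e3, tvec_add_right, tvec_add_right]
      abel
    rw [exp h h', exp h' h]
    simp only [S, LinearMap.add_apply, LinearMap.neg_apply, LinearMap.comp_apply, LinearMap.sub_apply,
      Matrix.mulVecLin_apply, LinearMap.id_apply, tvec_add_right, tvec_neg_right]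
    abel
  obtain ⟨l, hl⟩ := D.cen_scalar hM hex ha hS
  refine ⟨k * l, fun y y' => ?_⟩
  have key : ∀ {m : GL ι F}, D.IsRad a m → ∀ z, D.cob a z = 0 → ∀ y',
      k * f₂ (-(D.cob c ((m : Matrix ι ι F) *ᵥ z - z))) y' = f z (D.Phi c m y') := fun {m} h z hz y' => by
    obtain ⟨η, hη, hη'⟩ := SO.IsRad.low_eq D hca h hz
    rw [hη, add_sub_cancel_left, D.cob_tvec, D.s1.skew a c, hca, neg_one_smul, neg_neg, hη']
  rw [← key h _ (h'.cob_Phi D c y), ← key h' _ (h.cob_Phi D c y)]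
  have e := congrArg (fun x => f₂ x y') (hl y)
  simp only [S, LinearMap.add_apply, LinearMap.neg_apply, LinearMap.comp_apply, LinearMap.sub_apply,
    Matrix.mulVecLin_apply, LinearMap.id_apply, D.s2.bilinear.add_left, Orth.sym_neg_left D.s2,
    D.s2.bilinear.smul_left] at e ⊢
  linear_combination k * e

/-- the element `u_w` of the radical -/
theorem SO.exists_rad {a c w : Fin r → F} (hca : f₁ c a = 1) (hwa : f₁ w a = 0) :
    ∃ u, D.IsRad a u ∧ u ∈ tensorProductSubgroup r s e P ∧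
      ∀ y, D.Phi c u y = T w y + T a (f₁ c w • y) := by
  obtain ⟨A, hA⟩ : ∃ A, A = Symp.stv D.s1 (a + w) 1 * Symp.stv D.s1 a (-1) * Symp.stv D.s1 w (-1) := ⟨_, rfl⟩
  have haw : f₁ a w = 0 := Symp.swap_zero D.s1 hwa
  have hAv : ∀ x, (A : Matrix (Fin r) (Fin r) F) *ᵥ x = x + f₁ x a • w + f₁ x w • a := fun x => by
    rw [hA, Symp.siegel_mulVec D.s1 haw]
  have hAiso : A ∈ Symp.isoSub f₁ := hA ▸ mul_mem (mul_mem (Symp.stv_iso D.s1 _ _) (Symp.stv_iso D.s1 _ _))
    (Symp.stv_iso D.s1 _ _)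
  have hu : ∀ z, (kg e P A (1 : GL (Fin s) F) : Matrix ι ι F) *ᵥ z = z + T w (D.cob a z) + T a (D.cob w z) := by
    intro z
    refine LinearMap.congr_fun (lin_ext (e := e) (P := P) (f := Matrix.mulVecLin (kg e P A (1 : GL (Fin s) F) : Matrix ι ι F))
      (g := LinearMap.id + (tL e P w).comp (D.cob a) + (tL e P a).comp (D.cob w)) fun x y => ?_) z
    show _ = T x y + T w (D.cob a (T x y)) + T a (D.cob w (T x y))
    rw [Matrix.mulVecLin_apply, kg_tvec, Units.val_one, one_mulVec, hAv, D.cob_tvec, D.cob_tvec, tvec_smul_right,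
      tvec_smul_right, tvec_add_left, tvec_add_left, tvec_smul_left, tvec_smul_left]
  refine ⟨kg e P A 1, ⟨D.kg_left_mem hAiso, fun y => ?_, fun z hz => ⟨D.cob w z, ?_⟩, fun z => ?_⟩, kg_mem A 1,
    fun y => ?_⟩
  · rw [hu, D.cob_self, D.cob_tvec, haw, zero_smul, tvec_zero_right, tvec_zero_right, add_zero, add_zero]
  · rw [hu, hz, tvec_zero_right, add_zero]
  · rw [hu, map_add, map_add, D.cob_tvec, hwa, zero_smul, D.cob_self, add_zero, add_zero]
  · rw [D.Phi_apply, hu, D.cob_tvec, D.cob_tvec, hca, one_smul]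
    abel

theorem SO.G_scalar (hM : ¬ Symp.isoSub f ≤ M) (hex : 4 ≤ s ∨ ∃ t : F, t ≠ 0 ∧ t * t ≠ 1) {a c w : Fin r → F}
    (hca : f₁ c a = 1) (hwa : f₁ w a = 0) {m : GL ι F} (h : D.IsRad a m) : ∃ l : F, ∀ y y',
      f₂ (D.cob w (D.Phi c m y)) y' + f₂ y (D.cob w (D.Phi c m y')) = l * f₂ y y' := by
  obtain ⟨u, hu, -, huP⟩ := D.exists_rad hca hwa
  obtain ⟨l, hl⟩ := SO.IsRad.comm D hM hex hca h hu
  refine ⟨-l / k, fun y y' => ?_⟩
  have h1 := hl y y'
  have e1 : ∀ z, D.cob a z = 0 → ∀ y, f z (D.Phi c u y) = k * f₂ (D.cob w z) y := fun z hz y => by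
    rw [huP, D.hf.bilinear.add_right, D.pol_cob, D.pol_cob, hz, Orth.sym_zero_left D.s2, mul_zero, add_zero]
  rw [D.hf.skew (D.Phi c u y), e1 _ (h.cob_Phi D c y'), e1 _ (h.cob_Phi D c y), D.s2.symm _ y] at h1
  have := D.kne
  field_simp
  linear_combination -h1

/-- the radical lies in the tensor product subgroup -/
theorem SO.rad_tensor (hM : ¬ Symp.isoSub f ≤ M) (hex : 4 ≤ s ∨ ∃ t : F, t ≠ 0 ∧ t * t ≠ 1) {a c : Fin r → F}
    (hca : f₁ c a = 1) {m : GL ι F} (h : D.IsRad a m) :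
    m ∈ tensorProductSubgroup r s e P ∧
      ∃ w, f₁ w a = 0 ∧ ∀ y, ∃ η, D.Phi c m y = T w y + T a η := by
  have hg := D.s2
  have h2 := D.two
  have ha : a ≠ 0 := fun h => by rw [h, Symp.zero_right D.s1] at hca; exact zero_ne_one hca
  -- the contractions are scalar
  have hscal : ∀ w, f₁ w a = 0 → ∃ l : F, ∀ y, D.cob w (D.Phi c m y) = l • y := by
    intro w hwa
    refine eigen_scalar D.three hg h2 (S := (D.cob w).comp (D.Phi c m)) fun d hd => ?_
    by_contra hcon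
    push Not at hcon
    obtain ⟨hm', hG⟩ := SO.IsRad.conj D h (A := 1) (B := refl hg d hd) (c := c) (fun x x' => by simp)
      (refl_iso hg d hd) (by simp) (by simp)
    obtain ⟨n, hn⟩ : ∃ n, n = m * (kg e P 1 (refl hg d hd) * m * (kg e P 1 (refl hg d hd))⁻¹)⁻¹ := ⟨_, rfl⟩
    have hnrad : D.IsRad a n := hn ▸ SO.IsRad.mul D h (SO.IsRad.inv D hm')
    have hGn : ∀ u, f₁ u a = 0 → ∀ y, D.cob u (D.Phi c n y) =
        (2 / f₂ d d) • (f₂ y d • (D.cob u (D.Phi c m d) - (f₂ (D.cob u (D.Phi c m d)) d / f₂ d d) • d) -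
          f₂ y (D.cob u (D.Phi c m d) - (f₂ (D.cob u (D.Phi c m d)) d / f₂ d d) • d) • d) := by
      intro u hua y
      obtain ⟨l, hl⟩ := D.G_scalar hM hex hca hua h
      obtain ⟨y', rfl⟩ : ∃ y', y = (refl hg d hd : Matrix (Fin s) (Fin s) F) *ᵥ y' := ⟨_, (gl_mulVec_inv _ y).symm⟩
      have h1 := hG u y'
      rw [Units.val_one, one_mulVec] at h1
      rw [hn, D.G_mul hua h (SO.IsRad.inv D hm'), D.G_inv hua hm', h1]
      obtain ⟨K, hK⟩ : ∃ K, K = (D.cob u).comp (D.Phi c m) := ⟨_, rfl⟩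
      have hK' : ∀ x, D.cob u (D.Phi c m x) = K x := fun x => by rw [hK]; rfl
      simp only [hK'] at hl ⊢
      have e1 := hl y' d
      have e2 : f₂ (K d) d = l / 2 * f₂ d d := by
        have := hl d d
        rw [hg.symm d (K d)] at this
        field_simp
        linear_combination this
      have e3 : f₂ (K y') d = l * f₂ y' d - f₂ y' (K d) := by linear_combination e1
      simp only [refl_mulVec, map_sub, map_smul, Orth.sym_sub_left hg, Orth.sym_sub_right hg, hg.bilinear.smul_left,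
        hg.bilinear.smul_right, e2, e3, hg.symm d (K d)]
      match_scalars <;> field_simp <;> ring
    obtain ⟨u, hu⟩ : ∃ u, u = w + f₁ w c • a := ⟨_, rfl⟩
    have hua : f₁ u a = 0 := by
      rw [hu, D.s1.bilinear.add_left, D.s1.bilinear.smul_left, hwa, D.s1.alternating, mul_zero, add_zero]
    have huc : f₁ u c = 0 := by
      rw [hu, D.s1.bilinear.add_left, D.s1.bilinear.smul_left, D.s1.skew a c, hca]; ring
    obtain ⟨v, hv⟩ : ∃ v, v = D.cob u (D.Phi c m d) - (f₂ (D.cob u (D.Phi c m d)) d / f₂ d d) • d := ⟨_, rfl⟩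
    have hv0 : v ≠ 0 := by
      rw [hv, hu, D.cob_add_left, D.cob_smul_left, SO.IsRad.cob_Phi D h, smul_zero, add_zero]
      exact fun h0 => hcon _ (sub_eq_zero.1 h0)
    have hu0 : u ≠ 0 := fun h0 => hv0 (by
      rw [hv, h0]
      have : ∀ z, D.cob 0 z = 0 := fun z => by
        rw [← zero_smul F (0 : Fin r → F), D.cob_smul_left, zero_smul]
      simp [this, Orth.sym_zero_left hg])
    obtain ⟨p0, hp0⟩ := (D.s1.nondegenerate u hu0).2
    obtain ⟨w', hw'a, hw'c, huw'⟩ : ∃ w', f₁ w' a = 0 ∧ f₁ w' c = 0 ∧ f₁ u w' ≠ 0 := by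
      refine ⟨p0 - f₁ p0 a • c + f₁ p0 c • a, ?_, ?_, ?_⟩
      · simp [D.s1.bilinear.add_left, Symp.sub_left D.s1, D.s1.bilinear.smul_left, hca, D.s1.alternating]
      · simp [D.s1.bilinear.add_left, Symp.sub_left D.s1, D.s1.bilinear.smul_left, D.s1.alternating,
          D.s1.skew a c, hca]
      · simpa [D.s1.bilinear.add_right, Symp.sub_right D.s1, D.s1.bilinear.smul_right, hua, huc] using hp0
    have hfix : ∀ {t : Fin r → F}, f₁ t a = 0 → f₁ t c = 0 → ∀ b : F,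
        (Symp.stv D.s1 t b : Matrix (Fin r) (Fin r) F) *ᵥ a = a ∧
        (Symp.stv D.s1 t b : Matrix (Fin r) (Fin r) F) *ᵥ c = c := fun {t} h1 h2 b => by
      constructor <;> rw [Symp.stv_mulVec]
      · rw [Symp.swap_zero D.s1 h1, mul_zero, zero_smul, add_zero]
      · rw [Symp.swap_zero D.s1 h2, mul_zero, zero_smul, add_zero]
    -- separating one vector
    obtain ⟨A, hA⟩ : ∃ A, A = Symp.stv D.s1 u (1 : F) := ⟨_, rfl⟩
    obtain ⟨hn', hGn'⟩ := SO.IsRad.conj D hnrad (A := A) (B := 1) (c := c)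
      (fun x x' => Symp.mem_isoSub.1 (hA ▸ Symp.stv_iso D.s1 u 1) x x') (fun y y' => by simp)
      (hA ▸ (hfix hua huc 1).1) (hA ▸ (hfix hua huc 1).2)
    obtain ⟨p, hp⟩ : ∃ p, p = kg e P A (1 : GL (Fin s) F) * n * (kg e P A (1 : GL (Fin s) F))⁻¹ * n⁻¹ := ⟨_, rfl⟩
    have hprad : D.IsRad a p := hp ▸ SO.IsRad.mul D hn' (SO.IsRad.inv D hnrad)
    obtain ⟨κ, hκ⟩ : ∃ κ, κ = 2 / f₂ d d := ⟨_, rfl⟩
    have hGp : ∀ x, f₁ x a = 0 → ∀ y, D.cob x (D.Phi c p y) =
        (-f₁ x u) • (κ • (f₂ y d • v - f₂ y v • d)) := by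
      intro x hxa y
      obtain ⟨x', hx'⟩ : ∃ x', x' = x - f₁ x u • u := ⟨_, rfl⟩
      have hx'a : f₁ x' a = 0 := by
        rw [hx', Symp.sub_left D.s1, D.s1.bilinear.smul_left, hxa, hua, mul_zero, sub_zero]
      have hAx : (A : Matrix (Fin r) (Fin r) F) *ᵥ x' = x := by
        rw [hA, Symp.stv_mulVec, hx', Symp.sub_left D.s1, D.s1.bilinear.smul_left, D.s1.alternating]
        module
      have h1 := hGn' x' y
      rw [Units.val_one, one_mulVec, one_mulVec, hAx] at h1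
      rw [hp, D.G_mul hxa hn' (SO.IsRad.inv D hnrad), D.G_inv hxa hnrad, h1, hx', sub_eq_add_neg x, ← neg_smul,
        D.cob_add_left, D.cob_smul_left, add_comm (D.cob x _), add_neg_cancel_right, hGn u hua, hκ, hv]
    -- two elements with the same contraction
    obtain ⟨B, hB⟩ : ∃ B, B = Symp.stv D.s1 w' (1 : F) := ⟨_, rfl⟩
    obtain ⟨hp', hGp'⟩ := SO.IsRad.conj D hprad (A := B) (B := 1) (c := c)
      (fun x x' => Symp.mem_isoSub.1 (hB ▸ Symp.stv_iso D.s1 w' 1) x x') (fun y y' => by simp)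
      (hB ▸ (hfix hw'a hw'c 1).1) (hB ▸ (hfix hw'a hw'c 1).2)
    obtain ⟨u', hu'⟩ : ∃ u', u' = (B : Matrix (Fin r) (Fin r) F) *ᵥ u := ⟨_, rfl⟩
    obtain ⟨K, hK⟩ : ∃ K : (Fin s → F) →ₗ[F] (Fin s → F),
        K = κ • ((Orth.sfl hg d).smulRight v - (Orth.sfl hg v).smulRight d) := ⟨_, rfl⟩
    have hKv : ∀ y, K y = κ • (f₂ y d • v - f₂ y v • d) := fun y => by rw [hK]; rfl
    obtain ⟨p', hp'eq⟩ : ∃ p', p' = kg e P B (1 : GL (Fin s) F) * p * (kg e P B (1 : GL (Fin s) F))⁻¹ := ⟨_, rfl⟩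
    rw [← hp'eq] at hp' hGp'
    have hlink : ∀ z, D.cob a z = 0 → ∀ y,
        f z (D.Phi c p y) = f z (T u (K y)) ∧ f z (D.Phi c p' y) = f z (T u' (K y)) := by
      intro z hz y
      constructor
      · refine D.ker_ext hca (L := Symp.sfun D.hf (D.Phi c p y)) (L' := Symp.sfun D.hf (T u (K y)))
          (fun x y'' hxa => ?_) hz
        show f (T x y'') (D.Phi c p y) = f (T x y'') (T u (K y))
        rw [D.hf.skew, D.pol_cob, hGp x hxa, D.pol, hKv, hg.bilinear.smul_left, hg.symm y'']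
        ring
      · refine D.ker_ext hca (L := Symp.sfun D.hf (D.Phi c p' y)) (L' := Symp.sfun D.hf (T u' (K y)))
          (fun x y'' hxa => ?_) hz
        show f (T x y'') (D.Phi c p' y) = f (T x y'') (T u' (K y))
        obtain ⟨x', hx'⟩ : ∃ x', (B : Matrix (Fin r) (Fin r) F) *ᵥ x' = x := ⟨_, gl_mulVec_inv B x⟩
        have hBiso := Symp.mem_isoSub.1 (hB ▸ Symp.stv_iso D.s1 w' 1 : B ∈ Symp.isoSub f₁)
        have hx'a : f₁ x' a = 0 := by
          rw [← hBiso x' a, hx', hB, (hfix hw'a hw'c 1).1, hxa]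
        have h1 := hGp' x' y
        rw [Units.val_one, one_mulVec, one_mulVec, hx', hGp x' hx'a] at h1
        rw [D.hf.skew, D.pol_cob, h1, D.pol, hKv, hg.bilinear.smul_left, hg.symm y'',
          show f₁ x u' = f₁ x' u by rw [hu', ← hx', hBiso]]
        ring
    obtain ⟨l, hl⟩ := SO.IsRad.comm D hM hex hca hprad hp'
    have hKK : ∀ y y', 2 * (k * f₁ u' u * f₂ (K y) (K y')) = l * f₂ y y' := by
      intro y y'
      have hu'a : f₁ u' a = 0 := by
        rw [hu', hB, Symp.stv_mulVec, D.s1.bilinear.add_left, D.s1.bilinear.smul_left, hua, hw'a, mul_zero, add_zero]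
      have hk : ∀ y, D.cob a (T u (K y)) = 0 ∧ D.cob a (T u' (K y)) = 0 := fun y =>
        ⟨by rw [D.cob_tvec, hua, zero_smul], by rw [D.cob_tvec, hu'a, zero_smul]⟩
      rw [← hl, (hlink _ (hp'.cob_Phi D c y) y').1, (hlink _ (hprad.cob_Phi D c y) y').2,
        D.hf.skew (D.Phi c p' y), D.hf.skew (D.Phi c p y), (hlink _ (hk y').1 y).2, (hlink _ (hk y').2 y).1,
        D.pol, D.pol, D.s1.skew u u', hg.symm (K y') (K y)]
      ring
    have huu' : f₁ u' u ≠ 0 := by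
      rw [hu', hB, Symp.stv_mulVec, D.s1.bilinear.add_left, D.s1.bilinear.smul_left, D.s1.alternating, zero_add,
        one_mul, D.s1.skew w' u]
      exact mul_ne_zero huw' (neg_ne_zero.2 huw')
    have hκ0 : κ ≠ 0 := hκ ▸ div_ne_zero h2 hd
    have hne : ∀ X : F, 2 * (k * f₁ u' u * (κ * κ * X)) = 0 → X = 0 := fun X hX =>
      ((mul_eq_zero.1 ((mul_eq_zero.1 ((mul_eq_zero.1 hX).resolve_left h2)).resolve_left
        (mul_ne_zero D.kne huu'))).resolve_left (mul_ne_zero hκ0 hκ0))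
    have hvd : f₂ v d = 0 := by
      rw [hv, Orth.sym_sub_left hg, hg.bilinear.smul_left, div_mul_cancel₀ _ hd, sub_self]
    obtain ⟨y, hy0, hyd, hyv⟩ := exists_perp_pair hg D.three d v
    obtain ⟨z, hz⟩ := exists_dot_ne_zero hy0 hg
    have hl0 : l = 0 := by
      have := hKK y z
      rw [hKv y, hyd, hyv, zero_smul, zero_smul, sub_zero, smul_zero, Orth.sym_zero_left hg, mul_zero, mul_zero] at this
      exact (mul_eq_zero.1 this.symm).resolve_right hz
    have e1 := hKK d d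
    rw [hl0, zero_mul, hKv d, hg.symm d v, hvd, zero_smul, sub_zero, hg.bilinear.smul_left, hg.bilinear.smul_right,
      hg.bilinear.smul_left, hg.bilinear.smul_right] at e1
    have hvv : f₂ v v = 0 := by
      have := hne (f₂ d d * f₂ d d * f₂ v v) (by rw [← e1]; ring)
      exact (mul_eq_zero.1 this).resolve_left (mul_ne_zero hd hd)
    obtain ⟨q, hq⟩ := exists_dot_ne_zero hv0 hg
    have e2 := hKK q q
    rw [hl0, zero_mul, hKv q, hg.bilinear.smul_left, hg.bilinear.smul_right, Orth.sym_sub_left hg,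
      Orth.sym_sub_right hg, Orth.sym_sub_right hg] at e2
    simp only [hg.bilinear.smul_left, hg.bilinear.smul_right, hvv, hvd, hg.symm d v, mul_zero, sub_zero, zero_sub,
      neg_neg] at e2
    have := hne (f₂ q v * f₂ q v * f₂ d d) (by rw [← e2]; ring)
    exact mul_ne_zero (mul_ne_zero (by rwa [hg.symm]) (by rwa [hg.symm])) hd this
  -- the vector
  obtain ⟨y0, hy0⟩ : ∃ y : Fin s → F, y ≠ 0 := ⟨Pi.single ⟨0, by have := D.three; omega⟩ 1, by simp⟩
  obtain ⟨q0, hq0⟩ : ∃ q, f₂ y0 q = 1 := by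
    obtain ⟨q, hq⟩ := exists_dot_ne_zero hy0 hg
    exact ⟨(f₂ y0 q)⁻¹ • q, by rw [hg.bilinear.smul_right, inv_mul_cancel₀ hq]⟩
  let L : (Fin r → F) →ₗ[F] F :=
    { toFun := fun w => f₂ (D.cob w (D.Phi c m y0)) q0
      map_add' := fun w w' => by rw [D.cob_add_left, hg.bilinear.add_left]
      map_smul' := fun t w => by rw [D.cob_smul_left, hg.bilinear.smul_left]; rfl }
  obtain ⟨w1, hw1⟩ := Symp.exists_rep D.s1 (fvec L)
  obtain ⟨w, hw⟩ : ∃ w, w = -w1 := ⟨_, rfl⟩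
  have hwx : ∀ x, f₁ w x = f₂ (D.cob x (D.Phi c m y0)) q0 := fun x => by
    rw [D.s1.skew, hw, Symp.neg_right D.s1, neg_neg, hw1, fvec_dot]
    rfl
  have hwa : f₁ w a = 0 := by rw [hwx, h.cob_Phi D c, Orth.sym_zero_left hg]
  have hKw : ∀ x, f₁ x a = 0 → ∀ y, D.cob x (D.Phi c m y) = f₁ w x • y := fun x hxa y => by
    obtain ⟨l, hl⟩ := hscal x hxa
    rw [hwx, hl y0, hg.bilinear.smul_left, hq0, mul_one, hl]
  obtain ⟨u, hu, hut, huP⟩ := D.exists_rad hca hwa
  obtain ⟨m', hm'⟩ : ∃ m', m' = u⁻¹ * m := ⟨_, rfl⟩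
  have hm'r : D.IsRad a m' := hm' ▸ SO.IsRad.mul D (SO.IsRad.inv D hu) h
  have hG0 : ∀ x, f₁ x a = 0 → ∀ y, D.cob x (D.Phi c m' y) = 0 := fun x hxa y => by
    rw [hm', D.G_mul hxa (SO.IsRad.inv D hu) h, D.G_inv hxa hu, huP, map_add, D.cob_tvec, D.cob_tvec,
      D.s1.skew a x, hxa, neg_zero, zero_smul, add_zero, hKw x hxa, neg_add_cancel]
  have hvec : ∀ z, D.cob a z = 0 → (∀ x, f₁ x a = 0 → D.cob x z = 0) → z = T a (-(D.cob c z)) := by
    intro z hza hzx
    refine sub_eq_zero.1 (D.eq_zero_of_cob fun x => ?_)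
    have hx : x = (x - f₁ x a • c) + f₁ x a • c := (sub_add_cancel _ _).symm
    have hxa : f₁ (x - f₁ x a • c) a = 0 := by rw [Symp.sub_left D.s1, D.s1.bilinear.smul_left, hca, mul_one, sub_self]
    rw [hx, D.cob_add_left, D.cob_smul_left, map_sub, map_sub, hzx _ hxa, D.cob_tvec, D.cob_tvec,
      D.s1.skew a (x - _), hxa, D.s1.skew a c, hca]
    simp
  have hS : -((D.cob c).comp (D.Phi c m')) ∈ D.cenSet a := by
    refine ⟨m', hm'r.mem, fun z => ?_⟩
    obtain ⟨z0, hz0, hzd⟩ : ∃ z0, D.cob a z0 = 0 ∧ z = z0 + T c (D.cob a z) :=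
      ⟨z - T c (D.cob a z), by rw [map_sub, D.cob_tvec, hca, one_smul, sub_self], (sub_add_cancel _ _).symm⟩
    have hfix : (m' : Matrix ι ι F) *ᵥ z0 = z0 := by
      obtain ⟨η, hη, hη'⟩ := SO.IsRad.low_eq D hca hm'r hz0
      rw [hη, show η = 0 from sym_eq_zero hg fun y => mul_left_cancel₀ D.kne (by
        rw [hη', mul_zero, hvec _ (hm'r.cob_Phi D c y) (fun x hx => hG0 x hx y), D.pol_cob, hz0,
          Orth.sym_zero_left hg, mul_zero]), tvec_zero_right, add_zero]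
    conv_lhs => rw [hzd, mulVec_add, hfix,
      show (m' : Matrix ι ι F) *ᵥ T c (D.cob a z) = T c (D.cob a z) + D.Phi c m' (D.cob a z) by
        rw [D.Phi_apply]; abel, ← add_assoc, ← hzd,
      hvec _ (hm'r.cob_Phi D c _) (fun x hx => hG0 x hx _)]
    rfl
  obtain ⟨l, hl⟩ := D.cen_scalar hM hex ha hS
  have hroot : m' = D.root a l := gl_ext_vec fun z => by
    obtain ⟨z0, hz0, hzd⟩ : ∃ z0, D.cob a z0 = 0 ∧ z = z0 + T c (D.cob a z) :=
      ⟨z - T c (D.cob a z), by rw [map_sub, D.cob_tvec, hca, one_smul, sub_self], (sub_add_cancel _ _).symm⟩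
    have hfix : (m' : Matrix ι ι F) *ᵥ z0 = z0 := by
      obtain ⟨η, hη, hη'⟩ := SO.IsRad.low_eq D hca hm'r hz0
      rw [hη, show η = 0 from sym_eq_zero hg fun y => mul_left_cancel₀ D.kne (by
        rw [hη', mul_zero, hvec _ (hm'r.cob_Phi D c y) (fun x hx => hG0 x hx y), D.pol_cob, hz0,
          Orth.sym_zero_left hg, mul_zero]), tvec_zero_right, add_zero]
    conv_lhs => rw [hzd, mulVec_add, hfix,
      show (m' : Matrix ι ι F) *ᵥ T c (D.cob a z) = T c (D.cob a z) + D.Phi c m' (D.cob a z) by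
        rw [D.Phi_apply]; abel, ← add_assoc, ← hzd,
      hvec _ (hm'r.cob_Phi D c _) (fun x hx => hG0 x hx _)]
    rw [D.root_mulVec, ← hl]
    rfl
  have hm't : m' ∈ tensorProductSubgroup r s e P := hroot ▸ kg_mem _ _
  refine ⟨?_, w, hwa, fun y => ?_⟩
  · have : m = u * m' := by rw [hm', mul_inv_cancel_left]
    exact this ▸ mul_mem hut hm't
  · obtain ⟨η, hη⟩ : ∃ η, D.Phi c m' y = T a η := ⟨_, hvec _ (hm'r.cob_Phi D c y) (fun x hx => hG0 x hx y)⟩
    refine ⟨f₁ c w • y + η, ?_⟩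
    have hm'' : (m : Matrix ι ι F) *ᵥ T c y = (u : Matrix ι ι F) *ᵥ ((m' : Matrix ι ι F) *ᵥ T c y) := by
      rw [hm', gl_mul_mulVec, gl_mulVec_inv]
    rw [D.Phi_apply, hm'', show (m' : Matrix ι ι F) *ᵥ T c y = T c y + D.Phi c m' y by rw [D.Phi_apply]; abel,
      mulVec_add, show (u : Matrix ι ι F) *ᵥ T c y = T c y + D.Phi c u y by rw [D.Phi_apply]; abel, huP, hη, hu.fix,
      tvec_add_right]
    abel

end CfsgLib.Perm.Trans.TensorSO
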