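import Mathlib
import Cfsg.Agent.Lib.Perm.Trans.TensorSO.Radical

/-!
# Rigidity of pure subspaces, weak closure of roots, centralisers
-/

set_option autoImplicit false
set_option linter.all false

namespace CfsgLib.Perm.Trans.TensorSO

open scoped Matrix Kronecker
open Matrix Cfsg.Geo CfsgLib.Perm.Asch CfsgLib.Perm.Trans CfsgLib.Perm.Trans.TensorFrame
open CfsgLib.Perm.Trans.TensorMax

variable {ι : Type} [Fintype ι] [DecidableEq ι] {F : Type*} [Field F] [Fintype F] {r s : ℕ}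
variable {e : ι ≃ Fin r × Fin s} {P : GL ι F}
variable {f : (ι → F) → (ι → F) → F} {f₁ : (Fin r → F) → (Fin r → F) → F} {f₂ : (Fin s → F) → (Fin s → F) → F}
variable {k : F} {M : Subgroup (GL ι F)}

local notation "T" => tvec e P

variable (D : SO f f₁ f₂ e P k M)
include D

theorem SO.exists_partner {a : Fin r → F} (ha : a ≠ 0) : ∃ c, f₁ c a = 1 := by
  obtain ⟨p, hp⟩ := (D.s1.nondegenerate a ha).1
  exact ⟨(f₁ p a)⁻¹ • p, by rw [D.s1.bilinear.smul_left, inv_mul_cancel₀ hp]⟩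

/-- an element fixing `a ⊗ W` pointwise -/
theorem SO.fix_tensor (hM : ¬ Symp.isoSub f ≤ M) (hex : 4 ≤ s ∨ ∃ t : F, t ≠ 0 ∧ t * t ≠ 1) {g : GL ι F}
    (hg : g ∈ M) {a : Fin r → F} (ha : a ≠ 0) (hfix : ∀ y, (g : Matrix ι ι F) *ᵥ T a y = T a y) :
    g ∈ tensorProductSubgroup r s e P := by
  have hg₂ := D.s2
  obtain ⟨c, hca⟩ := D.exists_partner ha
  have hac : f₁ a c = -1 := by rw [D.s1.skew, hca]
  have hfix' : ∀ y, ((g⁻¹ : GL ι F) : Matrix ι ι F) *ᵥ T a y = T a y := fun y => by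
    conv_lhs => rw [← hfix y, gl_inv_mulVec]
  have hquo : ∀ z, D.cob a ((g : Matrix ι ι F) *ᵥ z) = D.cob a z := fun z => by
    refine sub_eq_zero.1 (sym_eq_zero hg₂ fun y => ?_)
    have h1 := Symp.mem_isoSub.1 (D.le hg) z (T a y)
    rw [hfix, D.pol_cob, D.pol_cob] at h1
    rw [Orth.sym_sub_left hg₂, mul_left_cancel₀ D.kne h1, sub_self]
  have hquo' : ∀ z, D.cob a (((g⁻¹ : GL ι F) : Matrix ι ι F) *ᵥ z) = D.cob a z := fun z => by
    conv_rhs => rw [← gl_mulVec_inv g z, hquo]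
  have haW : ∀ y, D.cob a (T a y) = 0 := D.cob_self a
  -- the action on the middle
  have hmid : ∀ w, f₁ w a = 0 → ∃ w', f₁ w' a = 0 ∧ ∀ y, ∃ η, (g : Matrix ι ι F) *ᵥ T w y = T w' y + T a η := by
    intro w hwa
    obtain ⟨u, hu, -, huP⟩ := D.exists_rad hca hwa
    have hm : D.IsRad a (g * u * g⁻¹) := by
      refine ⟨mul_mem (mul_mem hg hu.mem) (inv_mem hg), fun y => ?_, fun z hz => ?_, fun z => ?_⟩
      · rw [gl_mul_mulVec, gl_mul_mulVec, hfix', hu.fix, hfix]
      · obtain ⟨η, hη⟩ := hu.low (((g⁻¹ : GL ι F) : Matrix ι ι F) *ᵥ z) (by rw [hquo', hz])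
        exact ⟨η, by rw [gl_mul_mulVec, gl_mul_mulVec, hη, mulVec_add, gl_mulVec_inv, hfix]⟩
      · rw [gl_mul_mulVec, gl_mul_mulVec, hquo, hu.quo, hquo']
    obtain ⟨-, w', hw'a, hw'⟩ := D.rad_tensor hM hex hca hm
    refine ⟨w', hw'a, fun y => ?_⟩
    obtain ⟨z, hz⟩ : ∃ z, z = ((g⁻¹ : GL ι F) : Matrix ι ι F) *ᵥ T c y := ⟨_, rfl⟩
    obtain ⟨z0, hz0, hzd⟩ : ∃ z0, D.cob a z0 = 0 ∧ z = z0 + T c y :=
      ⟨z - T c y, by rw [map_sub, hz, hquo', sub_self], (sub_add_cancel _ _).symm⟩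
    obtain ⟨η, hη⟩ := hu.low z0 hz0
    obtain ⟨η', hη'⟩ := hw' y
    have hc : (u : Matrix ι ι F) *ᵥ z = z + (T w y + T a (η + f₁ c w • y)) := by
      rw [hzd, mulVec_add, hη, show (u : Matrix ι ι F) *ᵥ T c y = T c y + D.Phi c u y by rw [D.Phi_apply]; abel, huP,
        tvec_add_right]
      abel
    rw [D.Phi_apply, gl_mul_mulVec, gl_mul_mulVec, ← hz, hc, mulVec_add, mulVec_add, hfix, hz, gl_mulVec_inv,
      add_sub_cancel_left] at hη'
    exact ⟨η' - (η + f₁ c w • y), by rw [tvec_sub_right, ← add_sub_assoc, ← hη', add_sub_cancel_right]⟩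
  -- as a linear map
  obtain ⟨y0, hy0⟩ : ∃ y : Fin s → F, y ≠ 0 := ⟨Pi.single ⟨0, by have := D.three; omega⟩ 1, by simp⟩
  obtain ⟨q0, hq0⟩ : ∃ q, f₂ y0 q = 1 := by
    obtain ⟨q, hq⟩ := exists_dot_ne_zero hy0 hg₂
    exact ⟨(f₂ y0 q)⁻¹ • q, by rw [hg₂.bilinear.smul_right, inv_mul_cancel₀ hq]⟩
  let π : (Fin r → F) →ₗ[F] (Fin r → F) :=
    LinearMap.id - (Symp.sfun D.s1 a).smulRight c + (Symp.sfun D.s1 c).smulRight a
  have hπ : ∀ x, π x = x - f₁ x a • c + f₁ x c • a := fun x => rfl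
  let L : (Fin r → F) →ₗ[F] (Fin r → F) :=
    (π.comp ((D.cod q0).comp ((Matrix.mulVecLin (g : Matrix ι ι F)).comp (tR e P y0)))).comp π +
      (Symp.sfun D.s1 a).smulRight c - (Symp.sfun D.s1 c).smulRight a
  have hL : ∀ x, L x = π (D.cod q0 ((g : Matrix ι ι F) *ᵥ T (π x) y0)) + f₁ x a • c - f₁ x c • a := fun x => rfl
  have hπa : ∀ x, f₁ (π x) a = 0 := fun x => by
    simp [hπ, D.s1.bilinear.add_left, Symp.sub_left D.s1, D.s1.bilinear.smul_left, hca, D.s1.alternating]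
  have hπc : ∀ x, f₁ (π x) c = 0 := fun x => by
    simp [hπ, D.s1.bilinear.add_left, Symp.sub_left D.s1, D.s1.bilinear.smul_left, hac, D.s1.alternating]
  have hπid : ∀ x, f₁ x a = 0 → f₁ x c = 0 → π x = x := fun x h1 h2 => by
    rw [hπ, h1, h2, zero_smul, zero_smul, sub_zero, add_zero]
  have hgw : ∀ w, f₁ w a = 0 → f₁ w c = 0 → ∀ y, ∃ η, (g : Matrix ι ι F) *ᵥ T w y = T (L w) y + T a η := by
    intro w hwa hwc y
    obtain ⟨w', hw'a, hw'⟩ := hmid w hwa
    obtain ⟨η0, hη0⟩ := hw' y0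
    have hcod : D.cod q0 ((g : Matrix ι ι F) *ᵥ T w y0) = w' + f₂ η0 q0 • a := by
      rw [hη0, map_add, D.cod_tvec, D.cod_tvec, hq0, one_smul]
    have hLw : L w = w' + f₁ w' c • a := by
      rw [hL, hπid w hwa hwc, hcod, hwa, hwc, zero_smul, zero_smul, add_zero, sub_zero, hπ, D.s1.bilinear.add_left,
        D.s1.bilinear.add_left, D.s1.bilinear.smul_left, D.s1.bilinear.smul_left, hw'a, D.s1.alternating, hac]
      module
    obtain ⟨η, hη⟩ := hw' y
    exact ⟨η - f₁ w' c • y, by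
      rw [hη, hLw, tvec_add_left, tvec_smul_left, ← tvec_smul_right, tvec_sub_right]; abel⟩
  have hLa : ∀ w, f₁ w a = 0 → f₁ w c = 0 → f₁ (L w) a = 0 ∧ f₁ (L w) c = 0 := fun w h1 h2 => by
    rw [hL, h1, h2, zero_smul, zero_smul, add_zero, sub_zero]
    exact ⟨hπa _, hπc _⟩
  have hLm : ∀ w w', f₁ w a = 0 → f₁ w c = 0 → f₁ w' a = 0 → f₁ w' c = 0 → f₁ (L w) (L w') = f₁ w w' := by
    intro w w' h1 h2 h3 h4
    obtain ⟨η, hη⟩ := hgw w h1 h2 y0
    obtain ⟨η', hη'⟩ := hgw w' h3 h4 q0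
    have h := Symp.mem_isoSub.1 (D.le hg) (T w y0) (T w' q0)
    rw [hη, hη', D.hf.bilinear.add_left, D.hf.bilinear.add_right, D.hf.bilinear.add_right, D.pol, D.pol, D.pol, D.pol,
      D.pol, D.s1.alternating, (hLa w h1 h2).1, Symp.swap_zero D.s1 (hLa w' h3 h4).1, hq0] at h
    exact mul_left_cancel₀ D.kne (by linear_combination h)
  have hdec : ∀ x, x = π x + (f₁ x a • c - f₁ x c • a) := fun x => by rw [hπ]; abel
  have hLx : ∀ x, L x = L (π x) + (f₁ x a • c - f₁ x c • a) := fun x => by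
    rw [hL, hL (π x), hπid (π x) (hπa x) (hπc x), hπa, hπc, zero_smul, zero_smul, add_zero, sub_zero]
    abel
  have hLiso : ∀ x x', f₁ (L x) (L x') = f₁ x x' := by
    intro x x'
    conv_rhs => rw [hdec x, hdec x']
    rw [hLx x, hLx x']
    simp only [D.s1.bilinear.add_left, D.s1.bilinear.add_right, Symp.sub_left D.s1, Symp.sub_right D.s1,
      D.s1.bilinear.smul_left, D.s1.bilinear.smul_right, hLm _ _ (hπa x) (hπc x) (hπa x') (hπc x'),
      (hLa _ (hπa x) (hπc x)).1, (hLa _ (hπa x) (hπc x)).2, Symp.swap_zero D.s1 (hLa _ (hπa x') (hπc x')).1,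
      Symp.swap_zero D.s1 (hLa _ (hπa x') (hπc x')).2, hπa, hπc, Symp.swap_zero D.s1 (hπa x'),
      Symp.swap_zero D.s1 (hπc x')]
  have hLinj : Function.Injective L := (injective_iff_map_eq_zero L).2 fun x hx => by
    by_contra hne
    obtain ⟨x', hx'⟩ := (D.s1.nondegenerate x hne).2
    exact hx' (by rw [← hLiso, hx, Symp.zero_left D.s1])
  obtain ⟨A, hA⟩ : ∃ A, A = glInj L hLinj := ⟨_, rfl⟩
  have hAv : ∀ x, (A : Matrix (Fin r) (Fin r) F) *ᵥ x = L x := fun x => by rw [hA, glInj_mulVec]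
  have hAiso : ∀ x x', f₁ ((A : Matrix (Fin r) (Fin r) F) *ᵥ x) ((A : Matrix (Fin r) (Fin r) F) *ᵥ x') = f₁ x x' :=
    fun x x' => by rw [hAv, hAv, hLiso]
  have hLa' : L a = a := by
    rw [hL, show π a = 0 by rw [hπ, D.s1.alternating, hac]; module, D.s1.alternating, hac,
      tvec_zero_left, mulVec_zero, map_zero, map_zero]
    module
  obtain ⟨h, hh⟩ : ∃ h, h = kg e P A (1 : GL (Fin s) F) := ⟨_, rfl⟩
  have hhM : h ∈ M := hh ▸ D.kg_left_mem (Symp.mem_isoSub.2 hAiso)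
  have hhv : ∀ x y, (h : Matrix ι ι F) *ᵥ T x y = T (L x) y := fun x y => by
    rw [hh, kg_tvec, hAv, Units.val_one, one_mulVec]
  have hhfix : ∀ y, (h : Matrix ι ι F) *ᵥ T a y = T a y := fun y => by rw [hhv, hLa']
  have hhfix' : ∀ y, ((h⁻¹ : GL ι F) : Matrix ι ι F) *ᵥ T a y = T a y := fun y => by
    conv_lhs => rw [← hhfix y, gl_inv_mulVec]
  have hhquo : ∀ z, D.cob a ((h : Matrix ι ι F) *ᵥ z) = D.cob a z := fun z => by
    conv_lhs => rw [← hLa', ← hAv, hh, D.cob_kg (μ := 1) (fun x x' => by rw [hAiso, one_mul]), one_smul,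
      Units.val_one, one_mulVec]
  have hrad : D.IsRad a (h⁻¹ * g) := by
    refine ⟨mul_mem (inv_mem hhM) hg, fun y => by rw [gl_mul_mulVec, hfix, hhfix'], fun z hz => ?_, fun z => ?_⟩
    · have key : (LinearMap.range (tL e P a)).mkQ ((g : Matrix ι ι F) *ᵥ z) =
          (LinearMap.range (tL e P a)).mkQ ((h : Matrix ι ι F) *ᵥ z) := by
        refine D.ker_ext hca (L := (LinearMap.range (tL e P a)).mkQ.comp (Matrix.mulVecLin (g : Matrix ι ι F)))
          (L' := (LinearMap.range (tL e P a)).mkQ.comp (Matrix.mulVecLin (h : Matrix ι ι F))) (fun w y hwa => ?_) hz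
        refine (Submodule.Quotient.eq _).2 ?_
        obtain ⟨w0, hw0⟩ : ∃ w0, w0 = w + f₁ w c • a := ⟨_, rfl⟩
        have e1 : f₁ w0 a = 0 := by
          rw [hw0, D.s1.bilinear.add_left, D.s1.bilinear.smul_left, hwa, D.s1.alternating, mul_zero, add_zero]
        have e2 : f₁ w0 c = 0 := by rw [hw0, D.s1.bilinear.add_left, D.s1.bilinear.smul_left, hac]; ring
        obtain ⟨η, hη⟩ := hgw w0 e1 e2 y
        refine ⟨η, ?_⟩
        show T a η = (g : Matrix ι ι F) *ᵥ T w y - (h : Matrix ι ι F) *ᵥ T w y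
        have hw : w = w0 + (-f₁ w c) • a := by rw [hw0]; module
        rw [hw, tvec_add_left, tvec_smul_left, mulVec_add, mulVec_add, mulVec_smul, mulVec_smul, hfix, hhfix, hη,
          hhv w0]
        abel
      obtain ⟨η, hη⟩ := (Submodule.Quotient.eq _).1 key
      refine ⟨η, ?_⟩
      have : (g : Matrix ι ι F) *ᵥ z = (h : Matrix ι ι F) *ᵥ z + T a η := by
        rw [← tL_apply, hη]; abel
      rw [gl_mul_mulVec, this, mulVec_add, gl_inv_mulVec, hhfix']
    · conv_rhs => rw [← hquo z, ← gl_mulVec_inv h ((g : Matrix ι ι F) *ᵥ z), hhquo]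
      rw [gl_mul_mulVec]
  have := mul_mem (kg_mem (e := e) (P := P) A (1 : GL (Fin s) F)) (D.rad_tensor hM hex hca hrad).1
  rwa [← hh, mul_inv_cancel_left] at this

/-- elements of `M` mapping a pure subspace to a pure subspace lie in the tensor product subgroup -/
theorem SO.pure_rigid (hM : ¬ Symp.isoSub f ≤ M) (hex : 4 ≤ s ∨ ∃ t : F, t ≠ 0 ∧ t * t ≠ 1) {g : GL ι F}
    (hg : g ∈ M) {a a' : Fin r → F} (ha : a ≠ 0) (ha' : a' ≠ 0)
    (hmap : ∀ y, ∃ y', (g : Matrix ι ι F) *ᵥ T a y = T a' y') : g ∈ tensorProductSubgroup r s e P := by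
  have hg₂ := D.s2
  obtain ⟨A0, hA0, hA0a⟩ := exists_simil D.s1 one_ne_zero ha' ha
  obtain ⟨g1, hg1⟩ : ∃ g1, g1 = kg e P A0 (1 : GL (Fin s) F) * g := ⟨_, rfl⟩
  have hg1M : g1 ∈ M := hg1 ▸ mul_mem (D.kg_left_mem (Symp.mem_isoSub.2 fun x y => by rw [hA0, one_mul])) hg
  suffices g1 ∈ tensorProductSubgroup r s e P by
    have h := mul_mem (inv_mem (kg_mem (e := e) (P := P) A0 (1 : GL (Fin s) F))) this
    rwa [hg1, inv_mul_cancel_left] at h
  obtain ⟨c, hca⟩ := D.exists_partner ha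
  let C : (Fin s → F) →ₗ[F] (Fin s → F) :=
    -((D.cob c).comp ((Matrix.mulVecLin (g1 : Matrix ι ι F)).comp (tL e P a)))
  have hC : ∀ y, (g1 : Matrix ι ι F) *ᵥ T a y = T a (C y) := fun y => by
    obtain ⟨y', hy'⟩ := hmap y
    have h : (g1 : Matrix ι ι F) *ᵥ T a y = T a y' := by
      rw [hg1, gl_mul_mulVec, hy', kg_tvec, hA0a, Units.val_one, one_mulVec]
    rw [h, show C y = -(D.cob c ((g1 : Matrix ι ι F) *ᵥ T a y)) from rfl, h, D.cob_tvec, D.s1.skew a c, hca,
      neg_one_smul, neg_neg]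
  have hCinj : Function.Injective C := (injective_iff_map_eq_zero C).2 fun y hy => by
    have h1 := hC y
    rw [hy, tvec_zero_right, gl_mulVec_eq_zero] at h1
    have h2 := congrArg (D.cob c) h1
    rwa [D.cob_tvec, D.s1.skew a c, hca, neg_one_smul, map_zero, neg_eq_zero] at h2
  have hadj : ∀ z y, f₂ (D.cob a ((g1 : Matrix ι ι F) *ᵥ z)) (C y) = f₂ (D.cob a z) y := fun z y => by
    have h1 := Symp.mem_isoSub.1 (D.le hg1M) z (T a y)
    rw [hC, D.pol_cob, D.pol_cob] at h1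
    exact mul_left_cancel₀ D.kne h1
  let C' : (Fin s → F) →ₗ[F] (Fin s → F) :=
    (D.cob a).comp ((Matrix.mulVecLin ((g1⁻¹ : GL ι F) : Matrix ι ι F)).comp (tL e P c))
  have hC' : ∀ z, D.cob a (((g1⁻¹ : GL ι F) : Matrix ι ι F) *ᵥ z) = C' (D.cob a z) := fun z => by
    refine sub_eq_zero.1 (sym_eq_zero hg₂ fun y => ?_)
    rw [Orth.sym_sub_left hg₂, show C' (D.cob a z) =
      D.cob a (((g1⁻¹ : GL ι F) : Matrix ι ι F) *ᵥ T c (D.cob a z)) from rfl,
      ← hadj (((g1⁻¹ : GL ι F) : Matrix ι ι F) *ᵥ z) y,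
      ← hadj (((g1⁻¹ : GL ι F) : Matrix ι ι F) *ᵥ T c (D.cob a z)) y, gl_mulVec_inv,
      gl_mulVec_inv, D.cob_tvec, hca, one_smul, sub_self]
  have hS : C.comp C' ∈ D.cenSet a := by
    refine ⟨g1 * D.root a 1 * g1⁻¹, mul_mem (mul_mem hg1M (D.root_mem a 1)) (inv_mem hg1M), fun z => ?_⟩
    rw [gl_mul_mulVec, gl_mul_mulVec, D.root_mulVec, mulVec_add, gl_mulVec_inv, one_smul, hC', hC]
    rfl
  obtain ⟨l, hl⟩ := D.cen_scalar hM hex ha hS
  have hsim : ∀ y y', f₂ (C y) (C y') = l * f₂ y y' := fun y y' => by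
    obtain ⟨x, hx⟩ := (LinearMap.injective_iff_surjective.1 hCinj) y
    subst hx
    have h1 : f₂ (C' (C (C x))) y' = f₂ (C (C x)) (C y') := by
      have := hadj (((g1⁻¹ : GL ι F) : Matrix ι ι F) *ᵥ T c (C (C x))) y'
      rw [gl_mulVec_inv, D.cob_tvec, hca, one_smul] at this
      exact this.symm
    have h2 : C' (C (C x)) = l • C x := hCinj (by
      rw [map_smul, ← hl]
      rfl)
    rw [← h1, h2, hg₂.bilinear.smul_left]
  have hl0 : l ≠ 0 := by
    intro h0
    obtain ⟨y, hy⟩ : ∃ y : Fin s → F, y ≠ 0 := ⟨Pi.single ⟨0, by have := D.three; omega⟩ 1, by simp⟩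
    refine hy (hCinj ?_)
    rw [map_zero]
    refine sym_eq_zero hg₂ fun z => ?_
    obtain ⟨y', rfl⟩ := (LinearMap.injective_iff_surjective.1 hCinj) z
    rw [hsim, h0, zero_mul]
  obtain ⟨A, hA, hAa⟩ := exists_simil D.s1 (inv_ne_zero hl0) ha ha
  obtain ⟨h, hh⟩ : ∃ h, h = kg e P A (glInj C hCinj) := ⟨_, rfl⟩
  have hhM : h ∈ M := hh ▸ D.kg_mem_M (inv_mul_cancel₀ hl0) hA fun y y' => by
    rw [glInj_mulVec, glInj_mulVec, hsim]
  have h2 := D.fix_tensor hM hex (mul_mem (inv_mem hhM) hg1M) ha fun y => by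
    rw [gl_mul_mulVec, hC, show T a (C y) = (h : Matrix ι ι F) *ᵥ T a y by rw [hh, kg_tvec, hAa, glInj_mulVec],
      gl_inv_mulVec]
  have := mul_mem (kg_mem (e := e) (P := P) A (glInj C hCinj)) h2
  rwa [← hh, mul_inv_cancel_left] at this

/-- a quadratic unipotent tensor product has a scalar factor -/
theorem SO.quad_split {x' : GL ι F} {A : GL (Fin r) F} {B : GL (Fin s) F}
    (hAB : ∀ x y, (x' : Matrix ι ι F) *ᵥ T x y =
      T ((A : Matrix (Fin r) (Fin r) F) *ᵥ x) ((B : Matrix (Fin s) (Fin s) F) *ᵥ y))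
    (hsq : ∀ z, (x' : Matrix ι ι F) *ᵥ ((x' : Matrix ι ι F) *ᵥ z) - (x' : Matrix ι ι F) *ᵥ z -
      ((x' : Matrix ι ι F) *ᵥ z - z) = 0) :
    (∃ l : F, ∀ x, (A : Matrix (Fin r) (Fin r) F) *ᵥ x = l • x) ∨
      ∃ l : F, ∀ y, (B : Matrix (Fin s) (Fin s) F) *ᵥ y = l • y := by
  by_cases hall : ∀ x : Fin r → F, ∃ l : F, (A : Matrix (Fin r) (Fin r) F) *ᵥ x = l • x
  · exact Or.inl (scalar_of_eigen D.rpos hall)
  push Not at hall
  obtain ⟨x, hx⟩ := hall
  obtain ⟨x1, hx1⟩ : ∃ x1, x1 = (A : Matrix (Fin r) (Fin r) F) *ᵥ x := ⟨_, rfl⟩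
  obtain ⟨x2, hx2⟩ : ∃ x2, x2 = (A : Matrix (Fin r) (Fin r) F) *ᵥ x1 := ⟨_, rfl⟩
  have heq : ∀ y, T x2 ((B : Matrix (Fin s) (Fin s) F) *ᵥ ((B : Matrix (Fin s) (Fin s) F) *ᵥ y)) -
      T x1 ((B : Matrix (Fin s) (Fin s) F) *ᵥ y) - (T x1 ((B : Matrix (Fin s) (Fin s) F) *ᵥ y) - T x y) = 0 :=
    fun y => by
      have := hsq (T x y)
      rwa [hAB, hAB, ← hx1, ← hx2] at this
  have hx1n : x1 ∉ Submodule.span F {x} := fun hm => by
    obtain ⟨l, hl⟩ := Submodule.mem_span_singleton.1 hm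
    exact hx l (hl ▸ hx1.symm)
  by_cases hx2n : x2 ∈ Submodule.span F ({x, x1} : Set (Fin r → F))
  · obtain ⟨α, β, hαβ⟩ := Submodule.mem_span_pair.1 hx2n
    obtain ⟨γ, hγ1, hγ0⟩ := exists_dual _ hx1n
    have hB : ∀ y, (2 : F) • y = β • ((B : Matrix (Fin s) (Fin s) F) *ᵥ y) := fun y => by
      obtain ⟨y', rfl⟩ : ∃ y', (B : Matrix (Fin s) (Fin s) F) *ᵥ y' = y := ⟨_, gl_mulVec_inv B y⟩
      have h1 := congrArg (rc e P γ) (heq y')
      rw [← hαβ] at h1
      simp only [map_sub, map_zero, tvec_add_left, tvec_smul_left, map_add, map_smul, rc_tvec, hγ1,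
        hγ0 x (Submodule.mem_span_singleton_self x), zero_smul, smul_zero, zero_add, sub_zero, one_smul,
        smul_smul, mul_zero, mul_one] at h1
      linear_combination (norm := module) -h1
    rcases eq_or_ne β 0 with rfl | hβ
    · have := hB (Pi.single ⟨0, by have := D.three; omega⟩ 1)
      rw [zero_smul, smul_eq_zero] at this
      rcases this with h | h
      · exact absurd h D.two
      · simp at h
    · exact Or.inr ⟨β⁻¹ * 2, fun y => by rw [← smul_smul, hB, smul_smul, inv_mul_cancel₀ hβ, one_smul]⟩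
  · obtain ⟨γ, hγ1, hγ0⟩ := exists_dual _ hx2n
    exfalso
    obtain ⟨y, hy⟩ : ∃ y : Fin s → F, y ≠ 0 := ⟨Pi.single ⟨0, by have := D.three; omega⟩ 1, by simp⟩
    have h1 := congrArg (rc e P γ) (heq y)
    simp only [map_sub, map_zero, rc_tvec, hγ1, hγ0 x (Submodule.subset_span (Set.mem_insert _ _)),
      hγ0 x1 (Submodule.subset_span (Set.mem_insert_of_mem _ rfl)), zero_smul, sub_zero, one_smul,
      gl_mulVec_eq_zero] at h1
    exact hy h1

/-- a conjugate of a root lying in the tensor product subgroup -/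
theorem SO.root_conj_cases (hM : ¬ Symp.isoSub f ≤ M) (hex : 4 ≤ s ∨ ∃ t : F, t ≠ 0 ∧ t * t ≠ 1) {g : GL ι F}
    (hg : g ∈ M) {a : Fin r → F} (ha : a ≠ 0) (hmem : g * D.root a 1 * g⁻¹ ∈ tensorProductSubgroup r s e P) :
    g ∈ tensorProductSubgroup r s e P ∨ ∃ N : (Fin s → F) →ₗ[F] (Fin s → F),
      N ≠ 0 ∧ (∀ y, N (N y) = 0) ∧ (∀ y y', f₂ (y + N y) (y' + N y') = f₂ y y') ∧
      (∀ x y, ∃ η, (g : Matrix ι ι F) *ᵥ T a η = T x (N y)) ∧
      (∀ η, (g : Matrix ι ι F) *ᵥ T a η ∈ Submodule.span F {z | ∃ x y, z = T x (N y)}) := by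
  obtain ⟨x', hx'⟩ : ∃ x', x' = g * D.root a 1 * g⁻¹ := ⟨_, rfl⟩
  rw [← hx'] at hmem
  have hx'M : x' ∈ M := hx' ▸ mul_mem (mul_mem hg (D.root_mem a 1)) (inv_mem hg)
  obtain ⟨c, hca⟩ := D.exists_partner ha
  have hmv : ∀ z, (x' : Matrix ι ι F) *ᵥ z = z +
      (g : Matrix ι ι F) *ᵥ T a (D.cob a (((g⁻¹ : GL ι F) : Matrix ι ι F) *ᵥ z)) := fun z => by
    rw [hx', gl_mul_mulVec, gl_mul_mulVec, D.root_mulVec, one_smul, mulVec_add, gl_mulVec_inv]
  have himg : ∀ η, ∃ z, (x' : Matrix ι ι F) *ᵥ z - z = (g : Matrix ι ι F) *ᵥ T a η := fun η => by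
    refine ⟨(g : Matrix ι ι F) *ᵥ T c η, ?_⟩
    rw [hmv, gl_inv_mulVec, D.cob_tvec, hca, one_smul, add_sub_cancel_left]
  have hsq : ∀ z, (x' : Matrix ι ι F) *ᵥ ((x' : Matrix ι ι F) *ᵥ z) - (x' : Matrix ι ι F) *ᵥ z -
      ((x' : Matrix ι ι F) *ᵥ z - z) = 0 := fun z => by
    rw [hmv z, mulVec_add, hmv z, hmv ((g : Matrix ι ι F) *ᵥ T a _), gl_inv_mulVec, D.cob_self, tvec_zero_right,
      mulVec_zero, add_zero]
    abel
  obtain ⟨A, B, hAB⟩ := mem_tensor hmem
  have hsplit := D.quad_split hAB hsq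
  rcases hsplit with ⟨l, hl⟩ | ⟨l, hl⟩
  · -- a unipotent of the second factor
    right
    obtain ⟨N, hNdef⟩ : ∃ N : (Fin s → F) →ₗ[F] (Fin s → F),
        N = l • Matrix.mulVecLin (B : Matrix (Fin s) (Fin s) F) - LinearMap.id := ⟨_, rfl⟩
    have hN : ∀ x y, (x' : Matrix ι ι F) *ᵥ T x y = T x y + T x (N y) := fun x y => by
      rw [hAB, hl, tvec_smul_left, ← tvec_smul_right, hNdef, ← tvec_add_right]
      congr 1
      show _ = y + (l • ((B : Matrix (Fin s) (Fin s) F) *ᵥ y) - y)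
      abel
    have hspan : ∀ z, (x' : Matrix ι ι F) *ᵥ z - z ∈ Submodule.span F {z | ∃ x y, z = T x (N y)} := fun z => by
      induction tvec_span (e := e) (P := P) z using Submodule.span_induction with
      | mem u hu =>
        obtain ⟨x, y, rfl⟩ := hu
        rw [hN, add_sub_cancel_left]
        exact Submodule.subset_span ⟨x, y, rfl⟩
      | zero => rw [mulVec_zero, sub_zero]; exact Submodule.zero_mem _
      | add u w _ _ e1 e2 => rw [mulVec_add, add_sub_add_comm]; exact Submodule.add_mem _ e1 e2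
      | smul t u _ e1 => rw [mulVec_smul, ← smul_sub]; exact Submodule.smul_mem _ t e1
    have himg' : ∀ x y, ∃ η, (g : Matrix ι ι F) *ᵥ T a η = T x (N y) := fun x y => by
      refine ⟨D.cob a (((g⁻¹ : GL ι F) : Matrix ι ι F) *ᵥ T x y), ?_⟩
      have := hmv (T x y)
      rw [hN] at this
      exact (add_left_cancel this).symm
    obtain ⟨p, hp⟩ : ∃ p : Fin r → F, p ≠ 0 := ⟨a, ha⟩
    obtain ⟨p', hp'⟩ := D.exists_partner hp
    refine ⟨N, fun h0 => ?_, fun y => ?_, fun y y' => ?_, himg', fun η => ?_⟩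
    · obtain ⟨η, hη⟩ : ∃ η : Fin s → F, η ≠ 0 := ⟨Pi.single ⟨0, by have := D.three; omega⟩ 1, by simp⟩
      obtain ⟨z, hz⟩ := himg η
      have h1 := hspan z
      rw [hz, h0] at h1
      have h2 : Submodule.span F {z : ι → F | ∃ x y, z = T x ((0 : (Fin s → F) →ₗ[F] (Fin s → F)) y)} ≤ ⊥ :=
        Submodule.span_le.2 (by rintro _ ⟨x, y, rfl⟩; simp [tvec_zero_right])
      have h3 : (g : Matrix ι ι F) *ᵥ T a η = 0 := by simpa using h2 h1
      exact tvec_ne_zero ha hη (gl_mulVec_eq_zero.1 h3)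
    · have h1 := hsq (T p y)
      rw [hN, mulVec_add, hN, hN, add_sub_cancel_left, add_sub_cancel_left, add_sub_cancel_left] at h1
      have h2 := congrArg (D.cob p') h1
      rw [D.cob_tvec, map_zero, D.s1.skew p p', hp', neg_one_smul, neg_eq_zero] at h2
      exact h2
    · have h1 := Symp.mem_isoSub.1 (D.le hx'M) (T p' y) (T p y')
      rw [hN, hN, ← tvec_add_right, ← tvec_add_right, D.pol, D.pol, hp', one_mul, one_mul] at h1
      exact mul_left_cancel₀ D.kne h1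
    · obtain ⟨z, hz⟩ := himg η
      rw [← hz]
      exact hspan z
  · -- a transvection of the first factor
    left
    obtain ⟨Nr, hNr⟩ : ∃ Nr : (Fin r → F) →ₗ[F] (Fin r → F),
        Nr = l • Matrix.mulVecLin (A : Matrix (Fin r) (Fin r) F) - LinearMap.id := ⟨_, rfl⟩
    have hN : ∀ x y, (x' : Matrix ι ι F) *ᵥ T x y = T x y + T (Nr x) y := fun x y => by
      rw [hAB, hl, tvec_smul_right, ← tvec_smul_left, hNr, ← tvec_add_left]
      congr 1
      show _ = x + (l • ((A : Matrix (Fin r) (Fin r) F) *ᵥ x) - x)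
      abel
    have hspan : ∀ z, ∀ (W : Submodule F (Fin r → F)), (∀ x, Nr x ∈ W) → (x' : Matrix ι ι F) *ᵥ z - z ∈
        Submodule.span F {z | ∃ w ∈ W, ∃ y, z = T w y} := fun z W hW => by
      induction tvec_span (e := e) (P := P) z using Submodule.span_induction with
      | mem u hu =>
        obtain ⟨x, y, rfl⟩ := hu
        rw [hN, add_sub_cancel_left]
        exact Submodule.subset_span ⟨_, hW x, y, rfl⟩
      | zero => rw [mulVec_zero, sub_zero]; exact Submodule.zero_mem _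
      | add u w _ _ e1 e2 => rw [mulVec_add, add_sub_add_comm]; exact Submodule.add_mem _ e1 e2
      | smul t u _ e1 => rw [mulVec_smul, ← smul_sub]; exact Submodule.smul_mem _ t e1
    by_cases hz : ∀ x, Nr x = 0
    · exfalso
      obtain ⟨η, hη⟩ : ∃ η : Fin s → F, η ≠ 0 := ⟨Pi.single ⟨0, by have := D.three; omega⟩ 1, by simp⟩
      obtain ⟨z, hz'⟩ := himg η
      have h1 := hspan z ⊥ (fun x => by rw [hz]; exact zero_mem _)
      rw [hz'] at h1
      have h2 : Submodule.span F {z : ι → F | ∃ w ∈ (⊥ : Submodule F (Fin r → F)), ∃ y, z = T w y} ≤ ⊥ :=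
        Submodule.span_le.2 (by rintro _ ⟨w, hw, y, rfl⟩; rw [(Submodule.mem_bot F).1 hw, tvec_zero_left]; exact zero_mem _)
      exact tvec_ne_zero ha hη (gl_mulVec_eq_zero.1 ((Submodule.mem_bot F).1 (h2 h1)))
    push Not at hz
    obtain ⟨x1, hx1⟩ := hz
    obtain ⟨a', ha'⟩ : ∃ a', a' = Nr x1 := ⟨_, rfl⟩
    have hrank : ∀ x, Nr x ∈ Submodule.span F {a'} := by
      intro x
      by_contra hnot
      -- two pure subspaces in an image of dimension `s`
      let Φ : (Fin s → F) × (Fin s → F) →ₗ[F] (ι → F) := (tL e P a').coprod (tL e P (Nr x))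
      have hinj : Function.Injective Φ := (injective_iff_map_eq_zero Φ).2 fun p hp => by
        obtain ⟨γ, hγ1, hγ0⟩ := exists_dual _ hnot
        have h1 := congrArg (rc e P γ) (show T a' p.1 + T (Nr x) p.2 = 0 from hp)
        rw [map_add, map_zero, rc_tvec, rc_tvec, hγ1, hγ0 a' (Submodule.mem_span_singleton_self a'), zero_smul,
          one_smul, zero_add] at h1
        have h2 : T a' p.1 = 0 := by
          have := show T a' p.1 + T (Nr x) p.2 = 0 from hp
          rwa [h1, tvec_zero_right, add_zero] at this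
        by_contra hne
        exact tvec_ne_zero (ha' ▸ hx1) (fun h => hne (Prod.ext h h1)) h2
      have hle : LinearMap.range Φ ≤ LinearMap.range ((Matrix.mulVecLin (g : Matrix ι ι F)).comp (tL e P a)) := by
        rintro _ ⟨p, rfl⟩
        refine Submodule.add_mem _ ?_ ?_
        · refine ⟨D.cob a (((g⁻¹ : GL ι F) : Matrix ι ι F) *ᵥ T x1 p.1), ?_⟩
          have := hmv (T x1 p.1)
          rw [hN, ← ha'] at this
          exact (add_left_cancel this).symm
        · refine ⟨D.cob a (((g⁻¹ : GL ι F) : Matrix ι ι F) *ᵥ T x p.2), ?_⟩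
          have := hmv (T x p.2)
          rw [hN] at this
          exact (add_left_cancel this).symm
      have h1 := Submodule.finrank_mono hle
      rw [LinearMap.finrank_range_of_inj hinj] at h1
      have h2 := LinearMap.finrank_range_le ((Matrix.mulVecLin (g : Matrix ι ι F)).comp (tL e P a))
      simp at h1 h2
      have := D.three
      omega
    refine D.pure_rigid hM hex hg ha (a' := a') (ha' ▸ hx1) fun η => ?_
    obtain ⟨z, hz⟩ := himg η
    have h1 := hspan z _ hrank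
    rw [hz] at h1
    have h2 : Submodule.span F {z : ι → F | ∃ w ∈ Submodule.span F {a'}, ∃ y, z = T w y} ≤ LinearMap.range (tL e P a') :=
      Submodule.span_le.2 (by
        rintro _ ⟨w, hw, y, rfl⟩
        obtain ⟨t, rfl⟩ := Submodule.mem_span_singleton.1 hw
        exact ⟨t • y, by rw [tL_apply, tvec_smul_left, tvec_smul_right]⟩)
    obtain ⟨y', hy'⟩ := h2 h1
    exact ⟨y', hy'.symm⟩

/-- roots are weakly closed -/
theorem SO.weak_closure (hr : 3 ≤ r) (hM : ¬ Symp.isoSub f ≤ M) (hex : 4 ≤ s ∨ ∃ t : F, t ≠ 0 ∧ t * t ≠ 1) {g : GL ι F}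
    (hg : g ∈ M) {a : Fin r → F} (ha : a ≠ 0) (hmem : g * D.root a 1 * g⁻¹ ∈ tensorProductSubgroup r s e P) :
    g ∈ tensorProductSubgroup r s e P := by
  by_contra hgT
  have hg₂ := D.s2
  -- each root conjugate of each side has image `U ⊗ N`
  have step : ∀ {g : GL ι F}, g ∈ M → g ∉ tensorProductSubgroup r s e P → ∀ {a : Fin r → F}, a ≠ 0 →
      g * D.root a 1 * g⁻¹ ∈ tensorProductSubgroup r s e P → ∀ b,
      g⁻¹ * D.root b 1 * g⁻¹⁻¹ ∈ tensorProductSubgroup r s e P := by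
    intro g hg hgT a ha hmem b
    rw [inv_inv]
    obtain hc | ⟨N, -, -, -, hsub, hspan⟩ := D.root_conj_cases hM hex hg ha hmem
    · exact absurd hc hgT
    refine D.pure_rigid hM hex (mul_mem (mul_mem (inv_mem hg) (D.root_mem b 1)) hg) ha ha fun η => ?_
    have h1 : (D.root b 1 : Matrix ι ι F) *ᵥ ((g : Matrix ι ι F) *ᵥ T a η) ∈
        LinearMap.range ((Matrix.mulVecLin (g : Matrix ι ι F)).comp (tL e P a)) := by
      have : ∀ z ∈ Submodule.span F {z | ∃ x y, z = T x (N y)}, (D.root b 1 : Matrix ι ι F) *ᵥ z ∈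
          LinearMap.range ((Matrix.mulVecLin (g : Matrix ι ι F)).comp (tL e P a)) := fun z hz => by
        induction hz using Submodule.span_induction with
        | mem u hu =>
          obtain ⟨x, y, rfl⟩ := hu
          rw [SO.root, kg_tvec, Units.val_one, one_mulVec]
          exact hsub _ y
        | zero => rw [mulVec_zero]; exact zero_mem _
        | add u w _ _ e1 e2 => rw [mulVec_add]; exact Submodule.add_mem _ e1 e2
        | smul t u _ e1 => rw [mulVec_smul]; exact Submodule.smul_mem _ t e1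
      exact this _ (hspan η)
    obtain ⟨η', hη'⟩ := h1
    refine ⟨η', ?_⟩
    rw [gl_mul_mulVec, gl_mul_mulVec, ← hη']
    exact gl_inv_mulVec _ _
  have hall : ∀ b, g * D.root b 1 * g⁻¹ ∈ tensorProductSubgroup r s e P := fun b => by
    have h1 := step (inv_mem hg) (fun h => hgT (inv_inv g ▸ inv_mem h)) ha (step hg hgT ha hmem a) b
    rwa [inv_inv] at h1
  have hcase : ∀ b, b ≠ 0 → ∃ N : (Fin s → F) →ₗ[F] (Fin s → F),
      N ≠ 0 ∧ (∀ y, N (N y) = 0) ∧ (∀ y y', f₂ (y + N y) (y' + N y') = f₂ y y') ∧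
      (∀ x y, ∃ η, (g : Matrix ι ι F) *ᵥ T b η = T x (N y)) ∧
      (∀ η, (g : Matrix ι ι F) *ᵥ T b η ∈ Submodule.span F {z | ∃ x y, z = T x (N y)}) := fun b hb =>
    (D.root_conj_cases hM hex hg hb (hall b)).resolve_left hgT
  choose N hN0 hN2 hNiso hNsub hNspan using hcase
  have hTS : ∀ b hb y y', f₂ (N b hb y) (N b hb y') = 0 := fun b hb y y' => by
    have h1 := hNiso b hb (N b hb y) y'
    rw [hN2, add_zero, hg₂.bilinear.add_right] at h1
    linear_combination h1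
  -- distinct subspaces meet trivially
  have hdisj : ∀ b hb b' hb' y y', N b hb y = N b' hb' y' → N b hb y ≠ 0 → b' ∈ Submodule.span F {b} := by
    intro b hb b' hb' y y' heq hne
    by_contra hnot
    obtain ⟨p, hp⟩ : ∃ p : Fin r → F, p ≠ 0 := ⟨a, ha⟩
    obtain ⟨η, hη⟩ := hNsub b hb p y
    obtain ⟨η', hη'⟩ := hNsub b' hb' p y'
    have h1 : T b η = T b' η' := by
      rw [← gl_inv_mulVec g (T b η), hη, heq, ← hη', gl_inv_mulVec]
    obtain ⟨γ, hγ1, hγ0⟩ := exists_dual _ hnot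
    have h2 := congrArg (rc e P γ) h1
    rw [rc_tvec, rc_tvec, hγ0 b (Submodule.mem_span_singleton_self b), hγ1, zero_smul, one_smul] at h2
    rw [← h2, tvec_zero_right] at h1
    rw [h1, mulVec_zero] at hη
    exact tvec_ne_zero hp hne hη.symm
  -- an anisotropic vector orthogonal to one of them
  obtain ⟨b, hb, d, hd, hdN⟩ : ∃ b, ∃ hb : b ≠ 0, ∃ d, f₂ d d ≠ 0 ∧ ∀ y, f₂ (N b hb y) d = 0 := by
    by_contra hcon
    push Not at hcon
    have hlag : ∀ b hb, s ≤ 2 * Module.finrank F (LinearMap.range (N b hb)) := by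
      intro b hb
      let C : Submodule F (Fin s → F) :=
        { carrier := {d | ∀ y, f₂ (N b hb y) d = 0}
          add_mem' := fun {u w} hu hw y => by rw [hg₂.bilinear.add_right, hu y, hw y, add_zero]
          zero_mem' := fun y => Orth.sym_zero_right hg₂ _
          smul_mem' := fun t u hu y => by rw [hg₂.bilinear.smul_right, hu y, mul_zero] }
      have hC0 : ∀ x ∈ C, ∀ y ∈ C, f₂ x y = 0 := by
        intro x hx y hy
        by_contra hne
        obtain ⟨d, hdC, hdd⟩ := exists_aniso_of_perp hg₂ D.two hx hy hne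
        obtain ⟨y', hy'⟩ := hcon b hb d hdd
        exact hy' (hdC y')
      have h1 := Orth.two_mul_finrank_le hg₂ hC0
      let Φ : (Fin s → F) →ₗ[F] (LinearMap.range (N b hb) →ₗ[F] F) :=
        { toFun := fun d => (Orth.sfl hg₂ d).comp (LinearMap.range (N b hb)).subtype
          map_add' := fun u w => LinearMap.ext fun x => hg₂.bilinear.add_right _ u w
          map_smul' := fun t u => LinearMap.ext fun x => hg₂.bilinear.smul_right t _ u }
      have hker : LinearMap.ker Φ ≤ C := fun d hd y =>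
        LinearMap.congr_fun (LinearMap.mem_ker.1 hd) ⟨_, y, rfl⟩
      have h2 := LinearMap.finrank_range_add_finrank_ker Φ
      have h3 := Submodule.finrank_le (LinearMap.range Φ)
      rw [Subspace.dual_finrank_eq] at h3
      have h4 := Submodule.finrank_mono hker
      simp at h1 h2
      omega
    obtain ⟨a1, a2, a3, h1, h2, h3, h4⟩ : ∃ a1 a2 a3 : Fin r → F, a1 ≠ 0 ∧ a2 ≠ 0 ∧
        a2 ∉ Submodule.span F {a1} ∧ a3 ∉ Submodule.span F ({a1, a2} : Set (Fin r → F)) := by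
      obtain ⟨i, hi⟩ : ∃ i : Fin r, (i : ℕ) = 0 := ⟨⟨0, by omega⟩, rfl⟩
      obtain ⟨j, hj⟩ : ∃ j : Fin r, (j : ℕ) = 1 := ⟨⟨1, by omega⟩, rfl⟩
      obtain ⟨l, hl⟩ : ∃ l : Fin r, (l : ℕ) = 2 := ⟨⟨2, by omega⟩, rfl⟩
      have hij : i ≠ j := fun h => by simp [h] at hi; omega
      have hil : i ≠ l := fun h => by simp [h] at hi; omega
      have hjl : j ≠ l := fun h => by simp [h] at hj; omega
      refine ⟨Pi.single i 1, Pi.single j 1, Pi.single l 1, by simp, by simp, fun h => ?_, fun h => ?_⟩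
      · obtain ⟨t, ht⟩ := Submodule.mem_span_singleton.1 h
        simpa [hij.symm] using congrFun ht j
      · obtain ⟨t, t', ht⟩ := Submodule.mem_span_pair.1 h
        simpa [hil.symm, hjl.symm] using congrFun ht l
    have hsum : LinearMap.range (N a1 h1) ⊔ LinearMap.range (N a2 h2) = ⊤ := by
      refine Submodule.eq_top_of_finrank_eq (le_antisymm (Submodule.finrank_le _) ?_)
      have h := Submodule.finrank_sup_add_finrank_inf_eq (LinearMap.range (N a1 h1)) (LinearMap.range (N a2 h2))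
      have hinf : LinearMap.range (N a1 h1) ⊓ LinearMap.range (N a2 h2) = ⊥ := by
        rw [eq_bot_iff]
        rintro z ⟨⟨y, rfl⟩, ⟨y', hy'⟩⟩
        by_contra hne
        exact h3 (hdisj a1 h1 a2 h2 y y' hy'.symm (by simpa using hne))
      rw [hinf, finrank_bot] at h
      have := hlag a1 h1
      have := hlag a2 h2
      simp
      omega
    -- everything lies in the image of two pure subspaces
    obtain ⟨η, hη⟩ : ∃ η : Fin s → F, η ≠ 0 := ⟨Pi.single ⟨0, by have := D.three; omega⟩ 1, by simp⟩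
    have hall' : ∀ z, z ∈ LinearMap.range ((tL e P a1).coprod (tL e P a2)) := by
      intro z
      obtain ⟨w, rfl⟩ : ∃ w, z = ((g⁻¹ : GL ι F) : Matrix ι ι F) *ᵥ w :=
        ⟨(g : Matrix ι ι F) *ᵥ z, (gl_inv_mulVec _ _).symm⟩
      induction tvec_span (e := e) (P := P) w using Submodule.span_induction with
      | mem u hu =>
        obtain ⟨x, y, rfl⟩ := hu
        obtain ⟨p, ⟨y1, rfl⟩, q, ⟨y2, rfl⟩, hpq⟩ :=
          Submodule.mem_sup.1 (show y ∈ LinearMap.range (N a1 h1) ⊔ LinearMap.range (N a2 h2) by rw [hsum]; trivial)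
        obtain ⟨η1, hη1⟩ := hNsub a1 h1 x y1
        obtain ⟨η2, hη2⟩ := hNsub a2 h2 x y2
        refine ⟨(η1, η2), ?_⟩
        rw [LinearMap.coprod_apply, tL_apply, tL_apply, ← hpq, tvec_add_right, ← hη1, ← hη2, ← mulVec_add,
          gl_inv_mulVec]
      | zero => rw [mulVec_zero]; exact zero_mem _
      | add u v _ _ e1 e2 => rw [mulVec_add]; exact Submodule.add_mem _ e1 e2
      | smul t u _ e1 => rw [mulVec_smul]; exact Submodule.smul_mem _ t e1
    obtain ⟨γ, hγ1, hγ0⟩ := exists_dual _ h4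
    obtain ⟨⟨η1, η2⟩, hp⟩ := hall' (T a3 η)
    rw [LinearMap.coprod_apply, tL_apply, tL_apply] at hp
    have h5 := congrArg (rc e P γ) hp
    rw [map_add, rc_tvec, rc_tvec, rc_tvec, hγ1, hγ0 a1 (Submodule.subset_span (Set.mem_insert _ _)),
      hγ0 a2 (Submodule.subset_span (Set.mem_insert_of_mem _ rfl)), zero_smul, zero_smul, add_zero, one_smul] at h5
    exact hη h5.symm
  -- the reflection pulls back into the tensor subgroup
  have hRfix : ∀ x y, (D.R d hd : Matrix ι ι F) *ᵥ T x (N b hb y) = T x (N b hb y) := fun x y => by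
    rw [SO.R, kg_tvec, refl_mulVec, hdN, mul_zero, zero_smul, sub_zero, Units.val_one, one_mulVec]
  obtain ⟨m, hm⟩ : ∃ m, m = g⁻¹ * D.R d hd * g := ⟨_, rfl⟩
  have hmT : m ∈ tensorProductSubgroup r s e P := by
    refine D.pure_rigid hM hex (hm ▸ mul_mem (mul_mem (inv_mem hg) (D.R_mem d hd)) hg) hb hb fun η => ⟨η, ?_⟩
    have : ∀ z ∈ Submodule.span F {z | ∃ x y, z = T x (N b hb y)}, (D.R d hd : Matrix ι ι F) *ᵥ z = z := fun z hz => by
      induction hz using Submodule.span_induction with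
      | mem u hu => obtain ⟨x, y, rfl⟩ := hu; exact hRfix x y
      | zero => rw [mulVec_zero]
      | add u w _ _ e1 e2 => rw [mulVec_add, e1, e2]
      | smul t u _ e1 => rw [mulVec_smul, e1]
    rw [hm, gl_mul_mulVec, gl_mul_mulVec, this _ (hNspan b hb η), gl_inv_mulVec]
  obtain ⟨A, B, hAB⟩ := mem_tensor hmT
  have hAne : ∀ c : Fin r → F, c ≠ 0 → (A : Matrix (Fin r) (Fin r) F) *ᵥ c ≠ 0 :=
    fun c hc h => hc (gl_mulVec_eq_zero.1 h)
  have horth : ∀ c (hc : c ≠ 0) y, f₂ (N c hc y) d = 0 := by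
    intro c hc y
    have hN' : ∀ c (hc : c ≠ 0) y, ∃ y', (refl hg₂ d hd : Matrix (Fin s) (Fin s) F) *ᵥ N c hc y =
        N ((A : Matrix (Fin r) (Fin r) F) *ᵥ c) (hAne c hc) y' := by
      intro c hc y
      obtain ⟨p, hp⟩ : ∃ p : Fin r → F, p ≠ 0 := ⟨c, hc⟩
      obtain ⟨q, hq⟩ := D.exists_partner hp
      obtain ⟨η, hη⟩ := hNsub c hc p y
      have h1 : (g : Matrix ι ι F) *ᵥ T ((A : Matrix (Fin r) (Fin r) F) *ᵥ c) ((B : Matrix (Fin s) (Fin s) F) *ᵥ η) =
          T p ((refl hg₂ d hd : Matrix (Fin s) (Fin s) F) *ᵥ N c hc y) := by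
        rw [← hAB, hm, gl_mul_mulVec, gl_mul_mulVec, gl_mulVec_inv, hη, SO.R, kg_tvec, Units.val_one, one_mulVec]
      have h2 := hNspan _ (hAne c hc) ((B : Matrix (Fin s) (Fin s) F) *ᵥ η)
      rw [h1] at h2
      have h3 : Submodule.span F {z | ∃ x y, z = T x (N ((A : Matrix (Fin r) (Fin r) F) *ᵥ c)
          (hAne c hc) y)} ≤
          (LinearMap.range (N ((A : Matrix (Fin r) (Fin r) F) *ᵥ c) (hAne c hc))).comap (D.cob q) :=
        Submodule.span_le.2 (by
          rintro _ ⟨x, y, rfl⟩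
          exact ⟨f₁ x q • y, by rw [map_smul, D.cob_tvec]⟩)
      obtain ⟨y', hy'⟩ := h3 h2
      rw [D.cob_tvec, D.s1.skew p q, hq, neg_one_smul] at hy'
      exact ⟨-y', by rw [map_neg, hy', neg_neg]⟩
    -- the image is not a line
    obtain ⟨p, hp0, hpd, y1, hy1⟩ : ∃ p, p ≠ 0 ∧ f₂ p d = 0 ∧ ∃ y1, N c hc y1 = p := by
      obtain ⟨y0, hy0⟩ : ∃ y0, N c hc y0 ≠ 0 := by
        by_contra h
        push Not at h
        exact hN0 c hc (LinearMap.ext h)
      by_cases hline : ∀ y, N c hc y ∈ Submodule.span F {N c hc y0}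
      · exfalso
        obtain ⟨n, hn⟩ : ∃ n, n = N c hc y0 := ⟨_, rfl⟩
        rw [← hn] at hline
        choose φ hφ using fun y => Submodule.mem_span_singleton.1 (hline y)
        have hiso : ∀ y y', f₂ y (N c hc y') + f₂ (N c hc y) y' = 0 := fun y y' => by
          have h1 := hNiso c hc y y'
          rw [hg₂.bilinear.add_left, hg₂.bilinear.add_right, hg₂.bilinear.add_right, hTS] at h1
          linear_combination h1
        have hφ0 : φ y0 ≠ 0 := fun h => hy0 (by rw [← hφ y0, h, zero_smul])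
        have h1 := hiso y0 y0
        rw [← hn, hg₂.symm n y0, ← two_mul] at h1
        have hny0 := (mul_eq_zero.1 h1).resolve_left D.two
        refine hy0 (hn ▸ sym_eq_zero hg₂ fun y => ?_)
        have h2 := hiso y0 y
        rw [← hn, ← hφ y, hg₂.bilinear.smul_right, hny0, mul_zero, zero_add] at h2
        exact h2
      · push Not at hline
        obtain ⟨y', hy'⟩ := hline
        by_cases h0 : f₂ (N c hc y0) d = 0
        · exact ⟨_, hy0, h0, _, rfl⟩
        refine ⟨N c hc (y' - (f₂ (N c hc y') d / f₂ (N c hc y0) d) • y0), fun h => hy' ?_, ?_, _, rfl⟩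
        · rw [map_sub, map_smul, sub_eq_zero] at h
          exact h ▸ Submodule.smul_mem _ _ (Submodule.mem_span_singleton_self _)
        · rw [map_sub, map_smul, Orth.sym_sub_left hg₂, hg₂.bilinear.smul_left, div_mul_cancel₀ _ h0, sub_self]
    obtain ⟨y2, hy2⟩ := hN' c hc y1
    rw [hy1, refl_mulVec, hpd, mul_zero, zero_smul, sub_zero] at hy2
    obtain ⟨t, ht⟩ := Submodule.mem_span_singleton.1 (hdisj c hc _ _ y1 y2 (hy1.trans hy2) (hy1.symm ▸ hp0))
    obtain ⟨y3, hy3⟩ := hN' c hc y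
    -- the range is preserved
    have hrange : (refl hg₂ d hd : Matrix (Fin s) (Fin s) F) *ᵥ N c hc y ∈ LinearMap.range (N c hc) := by
      obtain ⟨p, hp⟩ : ∃ p : Fin r → F, p ≠ 0 := ⟨c, hc⟩
      obtain ⟨q, hq⟩ := D.exists_partner hp
      obtain ⟨η, hη⟩ := hNsub _ (hAne c hc) p y3
      rw [show T ((A : Matrix (Fin r) (Fin r) F) *ᵥ c) η = T c (t • η) by rw [← ht, tvec_smul_left, tvec_smul_right],
        ← hy3] at hη
      have h2 := hNspan c hc (t • η)
      rw [hη] at h2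
      have h3 : Submodule.span F {z | ∃ x y, z = T x (N c hc y)} ≤ (LinearMap.range (N c hc)).comap (D.cob q) :=
        Submodule.span_le.2 (by
          rintro _ ⟨x, y, rfl⟩
          exact ⟨f₁ x q • y, by rw [map_smul, D.cob_tvec]⟩)
      have h4 : D.cob q (T p ((refl hg₂ d hd : Matrix (Fin s) (Fin s) F) *ᵥ N c hc y)) ∈ LinearMap.range (N c hc) :=
        h3 h2
      rw [D.cob_tvec, D.s1.skew p q, hq, neg_one_smul] at h4
      simpa using Submodule.neg_mem _ h4
    obtain ⟨y4, hy4⟩ := hrange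
    have h1 := hTS c hc y4 y4
    by_contra hne
    have h2 : ((2 / f₂ d d * f₂ (N c hc y) d) • d : Fin s → F) = N c hc (y - y4) := by
      rw [map_sub, hy4, refl_mulVec]; abel
    have h3 := hTS c hc (y - y4) (y - y4)
    rw [← h2, hg₂.bilinear.smul_left, hg₂.bilinear.smul_right] at h3
    simp [D.two, hd, hne] at h3
  -- everything is orthogonal to `d`
  have hzero : ∀ z, D.cod d z = 0 := fun z => by
    obtain ⟨w, rfl⟩ : ∃ w, z = (g : Matrix ι ι F) *ᵥ w := ⟨_, (gl_mulVec_inv g z).symm⟩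
    induction tvec_span (e := e) (P := P) w using Submodule.span_induction with
    | mem u hu =>
      obtain ⟨x, y, rfl⟩ := hu
      rcases eq_or_ne x 0 with rfl | hx
      · rw [tvec_zero_left, mulVec_zero, map_zero]
      have h3 : Submodule.span F {z | ∃ x' y', z = T x' (N x hx y')} ≤ LinearMap.ker (D.cod d) :=
        Submodule.span_le.2 (by
          rintro _ ⟨x', y', rfl⟩
          show D.cod d (T x' (N x hx y')) = 0
          rw [D.cod_tvec, horth x hx y', zero_smul])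
      exact h3 (hNspan x hx y)
    | zero => rw [mulVec_zero, map_zero]
    | add u v _ _ e1 e2 => rw [mulVec_add, map_add, e1, e2, add_zero]
    | smul t u _ e1 => rw [mulVec_smul, map_smul, e1, smul_zero]
  have h1 := hzero (T a d)
  rw [D.cod_tvec, smul_eq_zero] at h1
  exact h1.elim hd ha

/-- centralisers of elements of the first factor with fixed vectors -/
theorem SO.centralizer_left (hr : 3 ≤ r) (hM : ¬ Symp.isoSub f ≤ M) (hex : 4 ≤ s ∨ ∃ t : F, t ≠ 0 ∧ t * t ≠ 1)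
    {A : GL (Fin r) F} (hA : A ∈ Symp.isoSub f₁) {c u : Fin r → F} (hc : c ≠ 0)
    (hAc : (A : Matrix (Fin r) (Fin r) F) *ᵥ c = c) (hu : (A : Matrix (Fin r) (Fin r) F) *ᵥ u ≠ u) {g : GL ι F}
    (hg : g ∈ M) (hcomm : g * kg e P A (1 : GL (Fin s) F) = kg e P A (1 : GL (Fin s) F) * g) :
    g ∈ tensorProductSubgroup r s e P := by
  obtain ⟨h, hh⟩ : ∃ h, h = kg e P A (1 : GL (Fin s) F) := ⟨_, rfl⟩
  rw [← hh] at hcomm
  have hhv : ∀ x y, (h : Matrix ι ι F) *ᵥ T x y = T ((A : Matrix (Fin r) (Fin r) F) *ᵥ x) y := fun x y => by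
    rw [hh, kg_tvec, Units.val_one, one_mulVec]
  obtain ⟨d, hd⟩ : ∃ d, d = (A : Matrix (Fin r) (Fin r) F) *ᵥ u - u := ⟨_, rfl⟩
  have hd0 : d ≠ 0 := hd ▸ sub_ne_zero.2 hu
  refine D.weak_closure hr hM hex hg hc (D.pure_rigid hM hex (mul_mem (mul_mem hg (D.root_mem c 1)) (inv_mem hg))
    hd0 hd0 fun y => ⟨y, ?_⟩)
  have hperp : D.cob c (((g⁻¹ : GL ι F) : Matrix ι ι F) *ᵥ T d y) = 0 := sym_eq_zero D.s2 fun y' => by
    have hgiso := Symp.mem_isoSub.1 (D.le hg) (((g⁻¹ : GL ι F) : Matrix ι ι F) *ᵥ T d y) (T c y')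
    rw [gl_mulVec_inv, D.pol_cob] at hgiso
    have hfix : (h : Matrix ι ι F) *ᵥ ((g : Matrix ι ι F) *ᵥ T c y') = (g : Matrix ι ι F) *ᵥ T c y' := by
      rw [← gl_mul_mulVec, ← hcomm, gl_mul_mulVec, hhv, hAc]
    have hhiso := Symp.mem_isoSub.1 (D.le (hh ▸ D.kg_left_mem hA : h ∈ M)) (T u y) ((g : Matrix ι ι F) *ᵥ T c y')
    rw [hfix, hhv] at hhiso
    have h0 : f (T d y) ((g : Matrix ι ι F) *ᵥ T c y') = 0 := by
      rw [hd, tvec_sub_left, Symp.sub_left D.hf, hhiso, sub_self]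
    rw [h0] at hgiso
    exact (mul_eq_zero.1 hgiso.symm).resolve_left D.kne
  rw [gl_mul_mulVec, gl_mul_mulVec, D.root_mulVec, hperp, smul_zero, tvec_zero_right, add_zero, gl_mulVec_inv]

end CfsgLib.Perm.Trans.TensorSO
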