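import Mathlib
import Cfsg.Agent.Lib.Perm.Trans.TensorSO.Rigid

/-!
# Conjugates of a reflection or a plane involution inside the tensor product subgroup are pure
-/

set_option autoImplicit false
set_option linter.all false

namespace CfsgLib.Perm.Trans.TensorSO

open scoped Matrix Kronecker
open Matrix Cfsg.Geo CfsgLib.Perm.Asch CfsgLib.Perm.Trans CfsgLib.Perm.Trans.TensorFrame
open CfsgLib.Perm.Trans.TensorMax

/-- a product of two involutions in a finite group -/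
theorem invol_pair {G : Type*} [Group G] [Finite G] {x y : G} (hx : x * x = 1) (hy : y * y = 1) :
    (∃ c ∈ Subgroup.closure ({x, y} : Set G), x = c * y * c⁻¹) ∨
      ∃ n : ℕ, (x * y) ^ n ≠ 1 ∧ (x * y) ^ n * (x * y) ^ n = 1 ∧
        (x * y) ^ n * x = x * (x * y) ^ n ∧ (x * y) ^ n * y = y * (x * y) ^ n ∧
        ((Even n ∧ ∃ c ∈ Subgroup.closure ({x, y} : Set G), (x * y) ^ n * y = c * y * c⁻¹) ∨
          (Odd n ∧ ∃ c ∈ Subgroup.closure ({x, y} : Set G), (x * y) ^ n * y = c * x * c⁻¹)) := by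
  have hxi : x⁻¹ = x := inv_eq_of_mul_eq_one_right hx
  have hyi : y⁻¹ = y := inv_eq_of_mul_eq_one_right hy
  obtain ⟨u, hu⟩ : ∃ u, u = x * y := ⟨_, rfl⟩
  have humem : u ∈ Subgroup.closure ({x, y} : Set G) :=
    hu ▸ mul_mem (Subgroup.subset_closure (Set.mem_insert _ _))
      (Subgroup.subset_closure (Set.mem_insert_of_mem _ rfl))
  have hui : u⁻¹ = y * x := by rw [hu, _root_.mul_inv_rev, hxi, hyi]
  have hcx : ∀ k : ℕ, x * (u ^ k)⁻¹ = u ^ k * x := fun k => by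
    induction k with
    | zero => simp
    | succ k ih =>
      rw [pow_succ', _root_.mul_inv_rev, ← mul_assoc, ih, mul_assoc, hui, ← pow_succ', pow_succ, hu]
      simp only [mul_assoc]
  have hcy : ∀ k : ℕ, y * (u ^ k)⁻¹ = u ^ k * y := fun k => by
    induction k with
    | zero => simp
    | succ k ih =>
      rw [pow_succ', _root_.mul_inv_rev, ← mul_assoc, ih, mul_assoc, hui, ← mul_assoc y y x, hy, one_mul,
        ← pow_succ', pow_succ, hu]
      simp only [mul_assoc]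
      rw [hy, mul_one]
  rw [← hu]
  have hpos := orderOf_pos u
  rcases Nat.even_or_odd' (orderOf u) with ⟨n, hn | hn⟩
  · right
    have hsq : u ^ n * u ^ n = 1 := by rw [← pow_add, ← two_mul, ← hn, pow_orderOf_eq_one]
    have hni : (u ^ n)⁻¹ = u ^ n := inv_eq_of_mul_eq_one_right hsq
    refine ⟨n, fun h => ?_, hsq, ?_, ?_, ?_⟩
    · have := Nat.le_of_dvd (by omega) (orderOf_dvd_of_pow_eq_one h)
      omega
    · conv_rhs => rw [← hni, hcx]
    · conv_rhs => rw [← hni, hcy]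
    · rcases Nat.even_or_odd' n with ⟨k, hk | hk⟩
      · refine Or.inl ⟨⟨k, by omega⟩, u ^ k, pow_mem humem k, ?_⟩
        rw [mul_assoc, hcy, ← mul_assoc, ← pow_add, ← two_mul, ← hk]
      · refine Or.inr ⟨⟨k, hk⟩, u ^ k, pow_mem humem k, ?_⟩
        rw [mul_assoc (u ^ k) x, hcx, ← mul_assoc, ← pow_add, ← two_mul, hk, pow_succ, mul_assoc, hu, mul_assoc,
          hy, mul_one]
  · left
    refine ⟨u ^ (n + 1), pow_mem humem _, ?_⟩
    rw [mul_assoc, hcy, ← mul_assoc, ← pow_add, show n + 1 + (n + 1) = orderOf u + 1 by omega, pow_succ,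
      pow_orderOf_eq_one, one_mul, hu, mul_assoc, hy, mul_one]

/-- a symmetric form in at least three variables has a zero -/
theorem exists_zero_sym {F : Type*} [Field F] [Finite F] (h2 : (2 : F) ≠ 0) {r : ℕ} (hr : 3 ≤ r)
    (B : LinearMap.BilinForm F (Fin r → F)) (hB : ∀ x y, B x y = B y x) : ∃ a, a ≠ 0 ∧ B a a = 0 := by
  classical
  by_contra hcon
  push Not at hcon
  obtain ⟨a, ha⟩ : ∃ a : Fin r → F, a ≠ 0 := ⟨Pi.single ⟨0, by omega⟩ 1, by simp⟩
  obtain ⟨b, hb, hb0⟩ := Submodule.exists_mem_ne_zero_of_ne_bot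
    (LinearMap.ker_ne_bot_of_finrank_lt (f := B a) (by simp; omega))
  obtain ⟨c, hc, hc0⟩ := Submodule.exists_mem_ne_zero_of_ne_bot
    (LinearMap.ker_ne_bot_of_finrank_lt (f := (B a).prod (B b)) (by simp; omega))
  have hab : B a b = 0 := hb
  have hac : B a c = 0 := congrArg Prod.fst hc
  have hbc : B b c = 0 := congrArg Prod.snd hc
  have hcc := hcon c hc0
  obtain ⟨i, j, hij⟩ := CfsgLib.Classical.exists_binary_one (F := F) h2
    (div_ne_zero (hcon a ha) (neg_ne_zero.2 hcc)) (div_ne_zero (hcon b hb0) (neg_ne_zero.2 hcc))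
  refine hcon (i • a + j • b + c) (fun h => hcc ?_) ?_
  · have := congrArg (fun w => B w c) h
    simpa [hac, hbc] using this
  · simp only [map_add, map_smul, LinearMap.add_apply, LinearMap.smul_apply, smul_eq_mul, hab, hac, hbc, hB b a,
      hB c a, hB c b]
    field_simp at hij
    linear_combination -hij

variable {ι : Type} [Fintype ι] [DecidableEq ι] {F : Type*} [Field F] [Fintype F] {r s : ℕ}
variable {e : ι ≃ Fin r × Fin s} {P : GL ι F}
variable {f : (ι → F) → (ι → F) → F} {f₁ : (Fin r → F) → (Fin r → F) → F} {f₂ : (Fin s → F) → (Fin s → F) → F}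
variable {k : F} {M : Subgroup (GL ι F)}

local notation "T" => tvec e P

variable (D : SO f f₁ f₂ e P k M)
include D

theorem SO.exists_unit_pair : ∃ y y' : Fin s → F, f₂ y y' = 1 := by
  obtain ⟨y, hy⟩ : ∃ y : Fin s → F, y ≠ 0 := ⟨Pi.single ⟨0, by have := D.three; omega⟩ 1, by simp⟩
  obtain ⟨y', hy'⟩ := exists_dot_ne_zero hy D.s2
  exact ⟨y, (f₂ y y')⁻¹ • y', by rw [D.s2.bilinear.smul_right, inv_mul_cancel₀ hy']⟩

/-- members of the tensor product subgroup as pairs of similitudes -/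
theorem SO.tensor_data {x : GL ι F} (hx : x ∈ M) (hT : x ∈ tensorProductSubgroup r s e P) :
    ∃ (A : GL (Fin r) F) (B : GL (Fin s) F) (μ ν : F), μ * ν = 1 ∧
      (∀ a a', f₁ ((A : Matrix (Fin r) (Fin r) F) *ᵥ a) ((A : Matrix (Fin r) (Fin r) F) *ᵥ a') = μ * f₁ a a') ∧
      (∀ y y', f₂ ((B : Matrix (Fin s) (Fin s) F) *ᵥ y) ((B : Matrix (Fin s) (Fin s) F) *ᵥ y') = ν * f₂ y y') ∧
      x = kg e P A B := by
  obtain ⟨A, B, hAB⟩ := mem_tensor hT
  have key : ∀ a a' y y', f₁ ((A : Matrix (Fin r) (Fin r) F) *ᵥ a) ((A : Matrix (Fin r) (Fin r) F) *ᵥ a') *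
      f₂ ((B : Matrix (Fin s) (Fin s) F) *ᵥ y) ((B : Matrix (Fin s) (Fin s) F) *ᵥ y') = f₁ a a' * f₂ y y' :=
    fun a a' y y' => by
      have h := Symp.mem_isoSub.1 (D.le hx) (T a y) (T a' y')
      rw [hAB, hAB, D.pol, D.pol] at h
      exact mul_left_cancel₀ D.kne h
  obtain ⟨y, y', hy⟩ := D.exists_unit_pair
  obtain ⟨a, ha⟩ : ∃ a : Fin r → F, a ≠ 0 := ⟨Pi.single ⟨0, D.rpos⟩ 1, by simp⟩
  obtain ⟨c, hca⟩ := D.exists_partner ha
  obtain ⟨ν, hν⟩ : ∃ ν, ν = f₂ ((B : Matrix (Fin s) (Fin s) F) *ᵥ y) ((B : Matrix (Fin s) (Fin s) F) *ᵥ y') :=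
    ⟨_, rfl⟩
  have h1 := key c a y y'
  rw [hca, hy, ← hν, one_mul] at h1
  have hν0 : ν ≠ 0 := fun h => by rw [h, mul_zero] at h1; exact zero_ne_one h1
  have hA : ∀ a a', f₁ ((A : Matrix (Fin r) (Fin r) F) *ᵥ a) ((A : Matrix (Fin r) (Fin r) F) *ᵥ a') = ν⁻¹ * f₁ a a' :=
    fun a a' => by
      have h := key a a' y y'
      rw [hy, mul_one, ← hν] at h
      rw [← h]; field_simp
  refine ⟨A, B, ν⁻¹, ν, inv_mul_cancel₀ hν0, hA, fun z z' => ?_, gl_ext_tvec (e := e) (P := P) fun a y => ?_⟩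
  · have h := key c a z z'
    rw [hA, hca, mul_one, one_mul] at h
    rw [← h]; field_simp
  · rw [hAB, kg_tvec]

/-- elements of the first factor in `M` are isometries -/
theorem SO.left_iso {A : GL (Fin r) F} (h : kg e P A (1 : GL (Fin s) F) ∈ M) : A ∈ Symp.isoSub f₁ := by
  obtain ⟨y, y', hy⟩ := D.exists_unit_pair
  refine Symp.mem_isoSub.2 fun a a' => ?_
  have h := Symp.mem_isoSub.1 (D.le h) (T a y) (T a' y')
  rw [kg_tvec, kg_tvec, Units.val_one, one_mulVec, one_mulVec, D.pol, D.pol, hy, mul_one, mul_one] at h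
  exact mul_left_cancel₀ D.kne h

/-- the involution of a hyperbolic plane -/
noncomputable def SO.plane (D : SO f f₁ f₂ e P k M) (c d : Fin r → F) (hcd : f₁ c d = 1) : GL (Fin r) F :=
  glInj (LinearMap.id - (2 : F) • ((Symp.sfun D.s1 d).smulRight c - (Symp.sfun D.s1 c).smulRight d))
    (Function.LeftInverse.injective (g := fun x => x - (2 : F) • (f₁ x d • c - f₁ x c • d)) fun x => by
      simp only [LinearMap.sub_apply, LinearMap.id_apply, LinearMap.smul_apply, LinearMap.smulRight_apply,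
        show ∀ a y, Symp.sfun D.s1 a y = f₁ y a from fun a y => rfl, Symp.sub_left D.s1, D.s1.bilinear.smul_left,
        D.s1.alternating, hcd, D.s1.skew d c]
      module)

theorem SO.plane_mulVec (c d : Fin r → F) (hcd : f₁ c d = 1) (x : Fin r → F) :
    (D.plane c d hcd : Matrix (Fin r) (Fin r) F) *ᵥ x = x - (2 : F) • (f₁ x d • c - f₁ x c • d) := by
  rw [SO.plane, glInj_mulVec]
  rfl

theorem SO.plane_iso (c d : Fin r → F) (hcd : f₁ c d = 1) : D.plane c d hcd ∈ Symp.isoSub f₁ :=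
  Symp.mem_isoSub.2 fun x y => by
    simp only [D.plane_mulVec, Symp.sub_left D.s1, Symp.sub_right D.s1, D.s1.bilinear.smul_left,
      D.s1.bilinear.smul_right, D.s1.alternating, hcd, D.s1.skew d c, D.s1.skew c y, D.s1.skew d y]
    ring

theorem SO.plane_sq (c d : Fin r → F) (hcd : f₁ c d = 1) (x : Fin r → F) :
    (D.plane c d hcd : Matrix (Fin r) (Fin r) F) *ᵥ ((D.plane c d hcd : Matrix (Fin r) (Fin r) F) *ᵥ x) = x := by
  simp only [D.plane_mulVec, Symp.sub_left D.s1, D.s1.bilinear.smul_left, D.s1.alternating, hcd, D.s1.skew d c]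
  module

theorem SO.plane_left (c d : Fin r → F) (hcd : f₁ c d = 1) :
    (D.plane c d hcd : Matrix (Fin r) (Fin r) F) *ᵥ c = -c := by
  rw [D.plane_mulVec, D.s1.alternating, hcd]
  module

theorem SO.plane_right (c d : Fin r → F) (hcd : f₁ c d = 1) :
    (D.plane c d hcd : Matrix (Fin r) (Fin r) F) *ᵥ d = -d := by
  rw [D.plane_mulVec, D.s1.alternating, D.s1.skew d c, hcd]
  module

theorem SO.plane_perp (c d : Fin r → F) (hcd : f₁ c d = 1) {w : Fin r → F} (hc : f₁ w c = 0) (hd : f₁ w d = 0) :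
    (D.plane c d hcd : Matrix (Fin r) (Fin r) F) *ᵥ w = w := by
  rw [D.plane_mulVec, hc, hd]
  module

/-- a second eigenvector in each eigenspace -/
theorem SO.eigen_two (hr : 4 ≤ r) {A : GL (Fin r) F} {μ lam : F}
    (hA : ∀ a a', f₁ ((A : Matrix (Fin r) (Fin r) F) *ᵥ a) ((A : Matrix (Fin r) (Fin r) F) *ᵥ a') = μ * f₁ a a')
    (hsq : ∀ x, (A : Matrix (Fin r) (Fin r) F) *ᵥ ((A : Matrix (Fin r) (Fin r) F) *ᵥ x) = (lam * lam) • x)
    (hlam : lam ≠ 0) {v : Fin r → F} (hv : v ≠ 0) (hAv : (A : Matrix (Fin r) (Fin r) F) *ᵥ v = lam • v) :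
    ∃ v', (A : Matrix (Fin r) (Fin r) F) *ᵥ v' = lam • v' ∧ v' ∉ Submodule.span F {v} := by
  have h2 := D.two
  by_contra hcon
  push Not at hcon
  let U : Submodule F (Fin r → F) := LinearMap.ker (Matrix.mulVecLin (A : Matrix (Fin r) (Fin r) F) + lam • LinearMap.id)
  have hU : ∀ u ∈ U, (A : Matrix (Fin r) (Fin r) F) *ᵥ u = (-lam) • u := fun u hu => by
    rw [neg_smul]; exact eq_neg_of_add_eq_zero_left hu
  have hdec : ∀ x, ∃ t : F, ∃ u ∈ U, x = t • v + u := fun x => by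
    obtain ⟨p, hp⟩ : ∃ p, p = (2 : F)⁻¹ • (x + lam⁻¹ • ((A : Matrix (Fin r) (Fin r) F) *ᵥ x)) := ⟨_, rfl⟩
    have hp1 : (A : Matrix (Fin r) (Fin r) F) *ᵥ p = lam • p := by
      rw [hp, mulVec_smul, mulVec_add, mulVec_smul, hsq]
      match_scalars <;> field_simp
    obtain ⟨t, ht⟩ := Submodule.mem_span_singleton.1 (hcon p hp1)
    refine ⟨t, x - p, ?_, by rw [ht]; abel⟩
    show (A : Matrix (Fin r) (Fin r) F) *ᵥ (x - p) + lam • (x - p) = 0
    rw [mulVec_sub, hp1, hp]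
    match_scalars <;> field_simp <;> ring
  obtain ⟨x0, hx0⟩ := (D.s1.nondegenerate v hv).2
  have hμ2 : (μ - lam * lam) * (μ + lam * lam) = 0 := by
    have h := hA ((A : Matrix (Fin r) (Fin r) F) *ᵥ v) ((A : Matrix (Fin r) (Fin r) F) *ᵥ x0)
    rw [hsq, hsq, D.s1.bilinear.smul_left, D.s1.bilinear.smul_right, hA v x0] at h
    have : (μ * μ - lam * lam * (lam * lam)) * f₁ v x0 = 0 := by linear_combination -h
    linear_combination ((mul_eq_zero.1 this).resolve_right hx0)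
  rcases mul_eq_zero.1 hμ2 with hm | hm
  · -- `v` is in the radical
    obtain ⟨t, u, hu, hx⟩ := hdec x0
    refine hx0 ?_
    have h := hA v u
    rw [hAv, hU u hu, D.s1.bilinear.smul_left, D.s1.bilinear.smul_right, sub_eq_zero.1 hm] at h
    have h3 : (2 * (lam * lam)) * f₁ v u = 0 := by linear_combination -h
    rw [hx, D.s1.bilinear.add_right, D.s1.bilinear.smul_right, D.s1.alternating,
      (mul_eq_zero.1 h3).resolve_left (mul_ne_zero h2 (mul_ne_zero hlam hlam))]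
    ring
  · -- a vector of the other eigenspace is in the radical
    have hts : ∀ u ∈ U, ∀ u' ∈ U, f₁ u u' = 0 := fun u hu u' hu' => by
      have h := hA u u'
      rw [hU u hu, hU u' hu', D.s1.bilinear.smul_left, D.s1.bilinear.smul_right, eq_neg_of_add_eq_zero_left hm] at h
      have h3 : (2 * (lam * lam)) * f₁ u u' = 0 := by linear_combination h
      exact (mul_eq_zero.1 h3).resolve_left (mul_ne_zero h2 (mul_ne_zero hlam hlam))
    have htop : Submodule.span F {v} ⊔ U = ⊤ := eq_top_iff.2 fun x _ => by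
      obtain ⟨t, u, hu, rfl⟩ := hdec x
      exact Submodule.add_mem_sup (Submodule.smul_mem _ _ (Submodule.mem_span_singleton_self v)) hu
    have hdim : 2 ≤ Module.finrank F U := by
      have h := Submodule.finrank_sup_add_finrank_inf_eq (Submodule.span F {v}) U
      rw [htop, finrank_top, finrank_span_singleton hv] at h
      simp at h
      omega
    obtain ⟨u0, hu0, hu00⟩ := Submodule.exists_mem_ne_zero_of_ne_bot
      (LinearMap.ker_ne_bot_of_finrank_lt (f := (Symp.sfun D.s1 v).comp U.subtype) (by simp; omega))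
    obtain ⟨x1, hx1⟩ := (D.s1.nondegenerate (u0 : Fin r → F) (by simpa using hu00)).2
    obtain ⟨t, u, hu, hx⟩ := hdec x1
    refine hx1 ?_
    rw [hx, D.s1.bilinear.add_right, D.s1.bilinear.smul_right, show f₁ (u0 : Fin r → F) v = 0 from hu0,
      hts _ u0.2 u hu]
    ring

/-- both eigenspaces of a non-scalar similitude with scalar square have dimension at least two -/
theorem SO.eigen_frame (hr : 4 ≤ r) {A : GL (Fin r) F} {μ c₀ lam : F}
    (hA : ∀ a a', f₁ ((A : Matrix (Fin r) (Fin r) F) *ᵥ a) ((A : Matrix (Fin r) (Fin r) F) *ᵥ a') = μ * f₁ a a')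
    (hsq : ∀ x, (A : Matrix (Fin r) (Fin r) F) *ᵥ ((A : Matrix (Fin r) (Fin r) F) *ᵥ x) = c₀ • x)
    (hns : ¬ ∃ l : F, ∀ x, (A : Matrix (Fin r) (Fin r) F) *ᵥ x = l • x) {a₀ : Fin r → F} (ha₀ : a₀ ≠ 0)
    (hlam : (A : Matrix (Fin r) (Fin r) F) *ᵥ a₀ = lam • a₀) :
    lam ≠ 0 ∧ ∃ u₁ u₂ v₁ v₂, u₁ ≠ 0 ∧ v₁ ≠ 0 ∧ u₂ ∉ Submodule.span F {u₁} ∧ v₂ ∉ Submodule.span F {v₁} ∧
      (A : Matrix (Fin r) (Fin r) F) *ᵥ u₁ = lam • u₁ ∧ (A : Matrix (Fin r) (Fin r) F) *ᵥ u₂ = lam • u₂ ∧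
      (A : Matrix (Fin r) (Fin r) F) *ᵥ v₁ = (-lam) • v₁ ∧ (A : Matrix (Fin r) (Fin r) F) *ᵥ v₂ = (-lam) • v₂ := by
  have h0 : lam ≠ 0 := fun h => ha₀ (gl_mulVec_eq_zero.1 (by rw [hlam, h, zero_smul]))
  have hc : c₀ = lam * lam := by
    have h := hsq a₀
    rw [hlam, mulVec_smul, hlam, smul_smul] at h
    exact (smul_left_injective F ha₀ h).symm
  rw [hc] at hsq
  obtain ⟨v, hv, hAv⟩ : ∃ v, v ≠ 0 ∧ (A : Matrix (Fin r) (Fin r) F) *ᵥ v = (-lam) • v := by
    by_contra hcon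
    push Not at hcon
    refine hns ⟨lam, fun x => ?_⟩
    by_contra hne
    exact hcon _ (sub_ne_zero.2 hne) (by rw [mulVec_sub, mulVec_smul, hsq]; module)
  obtain ⟨u₂, hu₂, hu₂'⟩ := D.eigen_two hr hA hsq h0 ha₀ hlam
  obtain ⟨v₂, hv₂, hv₂'⟩ := D.eigen_two hr hA (fun x => by rw [hsq, neg_mul_neg]) (neg_ne_zero.2 h0) hv hAv
  exact ⟨h0, a₀, u₂, v, v₂, ha₀, hv, hu₂', hv₂', hlam, hu₂, hAv, hv₂⟩

/-- two vectors moved independently -/
theorem SO.four_indep (hr : 4 ≤ r) {A : GL (Fin r) F} {μ c₀ : F}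
    (hA : ∀ a a', f₁ ((A : Matrix (Fin r) (Fin r) F) *ᵥ a) ((A : Matrix (Fin r) (Fin r) F) *ᵥ a') = μ * f₁ a a')
    (hsq : ∀ x, (A : Matrix (Fin r) (Fin r) F) *ᵥ ((A : Matrix (Fin r) (Fin r) F) *ᵥ x) = c₀ • x)
    (hns : ¬ ∃ l : F, ∀ x, (A : Matrix (Fin r) (Fin r) F) *ᵥ x = l • x) :
    ∃ a b : Fin r → F, ∀ t₁ t₂ t₃ t₄ : F, t₁ • a + t₂ • ((A : Matrix (Fin r) (Fin r) F) *ᵥ a) + t₃ • b +
      t₄ • ((A : Matrix (Fin r) (Fin r) F) *ᵥ b) = 0 → t₁ = 0 ∧ t₂ = 0 ∧ t₃ = 0 ∧ t₄ = 0 := by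
  have h2 := D.two
  by_cases heig : ∃ (a₀ : Fin r → F) (lam : F), a₀ ≠ 0 ∧ (A : Matrix (Fin r) (Fin r) F) *ᵥ a₀ = lam • a₀
  · obtain ⟨a₀, lam, ha₀, hlam⟩ := heig
    obtain ⟨h0, u₁, u₂, v₁, v₂, hu₁, hv₁, hu₂, hv₂, e1, e2, e3, e4⟩ := D.eigen_frame hr hA hsq hns ha₀ hlam
    refine ⟨u₁ + v₁, u₂ + v₂, fun t₁ t₂ t₃ t₄ h => ?_⟩
    have key : ∀ {u w : Fin r → F}, u ≠ 0 → w ∉ Submodule.span F {u} → ∀ p q : F, p • u + q • w = 0 →
        p = 0 ∧ q = 0 := fun {u w} hu hw p q hpq => by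
      have hq : q = 0 := by
        by_contra hq
        refine hw (Submodule.mem_span_singleton.2 ⟨-(q⁻¹ * p), ?_⟩)
        have h1 := congrArg (fun z => q⁻¹ • z) hpq
        simp only [smul_add, smul_smul, inv_mul_cancel₀ hq, one_smul, smul_zero] at h1
        rw [neg_smul]; exact (eq_neg_of_add_eq_zero_right h1).symm
      rw [hq, zero_smul, add_zero, smul_eq_zero] at hpq
      exact ⟨hpq.resolve_right hu, hq⟩
    obtain ⟨X, hX⟩ : ∃ X, X = (t₁ + t₂ * lam) • u₁ + (t₃ + t₄ * lam) • u₂ := ⟨_, rfl⟩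
    obtain ⟨Y, hY⟩ : ∃ Y, Y = (t₁ - t₂ * lam) • v₁ + (t₃ - t₄ * lam) • v₂ := ⟨_, rfl⟩
    rw [mulVec_add, mulVec_add, e1, e2, e3, e4] at h
    have hXY : X + Y = 0 := by rw [hX, hY, ← h]; module
    have hAX : (A : Matrix (Fin r) (Fin r) F) *ᵥ X = lam • X := by
      rw [hX, mulVec_add, mulVec_smul, mulVec_smul, e1, e2]; module
    have hAY : (A : Matrix (Fin r) (Fin r) F) *ᵥ Y = (-lam) • Y := by
      rw [hY, mulVec_add, mulVec_smul, mulVec_smul, e3, e4]; module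
    have hXY' := congrArg (fun z => (A : Matrix (Fin r) (Fin r) F) *ᵥ z) hXY
    simp only [mulVec_add, hAX, hAY, mulVec_zero] at hXY'
    have hX0 : X = 0 := by
      have : (2 * lam) • X = 0 := by
        rw [eq_neg_of_add_eq_zero_right hXY] at hXY'
        rw [← hXY']; module
      exact (smul_eq_zero.1 this).resolve_left (mul_ne_zero h2 h0)
    have hY0 : Y = 0 := by simpa [hX0] using hXY
    obtain ⟨p1, p2⟩ := key hu₁ hu₂ _ _ (hX ▸ hX0)
    obtain ⟨p3, p4⟩ := key hv₁ hv₂ _ _ (hY ▸ hY0)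
    have q1 : (2 : F) * t₁ = 0 := by linear_combination p1 + p3
    have q2 : (2 * lam) * t₂ = 0 := by linear_combination p1 - p3
    have q3 : (2 : F) * t₃ = 0 := by linear_combination p2 + p4
    have q4 : (2 * lam) * t₄ = 0 := by linear_combination p2 - p4
    exact ⟨(mul_eq_zero.1 q1).resolve_left h2, (mul_eq_zero.1 q2).resolve_left (mul_ne_zero h2 h0),
      (mul_eq_zero.1 q3).resolve_left h2, (mul_eq_zero.1 q4).resolve_left (mul_ne_zero h2 h0)⟩
  push Not at heig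
  obtain ⟨a, ha⟩ : ∃ a : Fin r → F, a ≠ 0 := ⟨Pi.single ⟨0, by omega⟩ 1, by simp⟩
  obtain ⟨Aa, hAa⟩ : ∃ Aa, Aa = (A : Matrix (Fin r) (Fin r) F) *ᵥ a := ⟨_, rfl⟩
  let V : Submodule F (Fin r → F) := Submodule.span F {a} ⊔ Submodule.span F {Aa}
  obtain ⟨b, hb⟩ : ∃ b, b ∉ V := by
    by_contra hcon
    push Not at hcon
    have h := Submodule.finrank_add_le_finrank_add_finrank (Submodule.span F {a}) (Submodule.span F {Aa})
    have h' : Module.finrank F V = r := by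
      rw [show V = ⊤ from eq_top_iff.2 fun x _ => hcon x, finrank_top]; simp
    have h1 := finrank_span_le_card (R := F) ({a} : Set (Fin r → F))
    have h3 := finrank_span_le_card (R := F) ({Aa} : Set (Fin r → F))
    simp at h1 h3
    change Module.finrank F V ≤ _ at h
    omega
  refine ⟨a, b, fun t₁ t₂ t₃ t₄ h => ?_⟩
  obtain ⟨Ab, hAb⟩ : ∃ Ab, Ab = (A : Matrix (Fin r) (Fin r) F) *ᵥ b := ⟨_, rfl⟩
  have h' := congrArg (fun z => (A : Matrix (Fin r) (Fin r) F) *ᵥ z) h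
  simp only [mulVec_add, mulVec_smul, hsq, mulVec_zero] at h'
  rw [← hAa, ← hAb] at h'
  rw [← hAa, ← hAb] at h
  have hmem : (t₃ * t₃ - t₄ * t₄ * c₀) • b ∈ V := by
    have e : (t₃ * t₃ - t₄ * t₄ * c₀) • b =
        (-(t₁ * t₃) + t₄ * t₂ * c₀) • a + (-(t₂ * t₃) + t₄ * t₁) • Aa := by
      linear_combination (norm := module) t₃ • h - t₄ • h'
    rw [e]
    exact Submodule.add_mem_sup (Submodule.smul_mem _ _ (Submodule.mem_span_singleton_self _))
      (Submodule.smul_mem _ _ (Submodule.mem_span_singleton_self _))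
  have hq : t₃ * t₃ - t₄ * t₄ * c₀ = 0 := by
    by_contra hne
    have := Submodule.smul_mem V (t₃ * t₃ - t₄ * t₄ * c₀)⁻¹ hmem
    rw [smul_smul, inv_mul_cancel₀ hne, one_smul] at this
    exact hb this
  have ht₄ : t₄ = 0 := by
    by_contra h4
    obtain ⟨lam, hlam⟩ : ∃ lam, lam = t₃ / t₄ := ⟨_, rfl⟩
    have hl : c₀ = lam * lam := by rw [hlam]; field_simp; linear_combination -hq
    refine heig (Aa + lam • a) lam (fun h0 => heig a (-lam) ha ?_) ?_
    · rw [← hAa, neg_smul]; exact eq_neg_of_add_eq_zero_left h0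
    · rw [hAa, mulVec_add, mulVec_smul, hsq, hl]; module
  have ht₃ : t₃ = 0 := by
    rw [ht₄] at hq
    exact mul_self_eq_zero.1 (by linear_combination hq)
  rw [ht₃, ht₄, zero_smul, zero_smul, add_zero, add_zero] at h
  have ht₂ : t₂ = 0 := by
    by_contra h2'
    refine heig a (-(t₁ / t₂)) ha ?_
    have h1 := congrArg (fun z => t₂⁻¹ • z) h
    simp only [smul_add, smul_smul, inv_mul_cancel₀ h2', one_smul, smul_zero] at h1
    rw [← hAa, eq_neg_of_add_eq_zero_right h1, neg_smul, div_eq_inv_mul]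
  rw [ht₂, zero_smul, add_zero, smul_eq_zero] at h
  exact ⟨h.resolve_right ha, ht₂, ht₃, ht₄⟩

/-- a vector orthogonal to its image -/
theorem SO.exists_orth_image (hr : 4 ≤ r) {A : GL (Fin r) F} {μ c₀ : F}
    (hA : ∀ a a', f₁ ((A : Matrix (Fin r) (Fin r) F) *ᵥ a) ((A : Matrix (Fin r) (Fin r) F) *ᵥ a') = μ * f₁ a a')
    (hsq : ∀ x, (A : Matrix (Fin r) (Fin r) F) *ᵥ ((A : Matrix (Fin r) (Fin r) F) *ᵥ x) = c₀ • x)
    (hns : ¬ ∃ l : F, ∀ x, (A : Matrix (Fin r) (Fin r) F) *ᵥ x = l • x) :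
    ∃ a, a ≠ 0 ∧ f₁ a ((A : Matrix (Fin r) (Fin r) F) *ᵥ a) = 0 ∧
      (A : Matrix (Fin r) (Fin r) F) *ᵥ a ∉ Submodule.span F {a} := by
  have h2 := D.two
  by_cases heig : ∃ (a₀ : Fin r → F) (lam : F), a₀ ≠ 0 ∧ (A : Matrix (Fin r) (Fin r) F) *ᵥ a₀ = lam • a₀
  · obtain ⟨a₀, lam, ha₀, hlam⟩ := heig
    obtain ⟨h0, u₁, u₂, v, -, hu₁, hv, hu₂, -, e1, e2, e3, -⟩ := D.eigen_frame hr hA hsq hns ha₀ hlam
    obtain ⟨u, hu, hu0, huv⟩ : ∃ u, (A : Matrix (Fin r) (Fin r) F) *ᵥ u = lam • u ∧ u ≠ 0 ∧ f₁ u v = 0 := by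
      by_cases h : f₁ u₁ v = 0
      · exact ⟨u₁, e1, hu₁, h⟩
      refine ⟨u₂ - (f₁ u₂ v / f₁ u₁ v) • u₁, by rw [mulVec_sub, mulVec_smul, e1, e2]; module, fun h0 => hu₂ ?_, ?_⟩
      · rw [sub_eq_zero.1 h0]; exact Submodule.smul_mem _ _ (Submodule.mem_span_singleton_self _)
      · rw [Symp.sub_left D.s1, D.s1.bilinear.smul_left, div_mul_cancel₀ _ h, sub_self]
    have hsep : ∀ p q : F, p • u = q • v → p = 0 ∧ q = 0 := fun p q hpq => by
      have h' := congrArg (fun z => (A : Matrix (Fin r) (Fin r) F) *ᵥ z) hpq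
      simp only [mulVec_smul, hu, e3] at h'
      have : (2 * lam * p) • u = 0 := by
        rw [show (2 * lam * p) • u = p • lam • u + lam • (p • u) by module, h', hpq]; module
      have hp := (mul_eq_zero.1 ((smul_eq_zero.1 this).resolve_right hu0)).resolve_left (mul_ne_zero h2 h0)
      rw [hp, zero_smul, eq_comm, smul_eq_zero] at hpq
      exact ⟨hp, hpq.resolve_right hv⟩
    refine ⟨u + v, fun h => ?_, ?_, fun hm => ?_⟩
    · exact one_ne_zero (hsep 1 (-1) (by rw [one_smul, neg_one_smul]; exact eq_neg_of_add_eq_zero_left h)).1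
    · rw [mulVec_add, hu, e3]
      simp only [D.s1.bilinear.add_left, D.s1.bilinear.add_right, D.s1.bilinear.smul_right, D.s1.alternating, huv,
        D.s1.skew v u]
      ring
    · obtain ⟨l, hl⟩ := Submodule.mem_span_singleton.1 hm
      rw [mulVec_add, hu, e3] at hl
      obtain ⟨e4, e5⟩ := hsep (l - lam) (-(l + lam)) (by linear_combination (norm := module) hl)
      exact mul_ne_zero h2 h0 (by linear_combination -e4 - e5)
  push Not at heig
  let g : LinearMap.BilinForm F (Fin r → F) :=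
    LinearMap.mk₂ F (fun x y => f₁ x ((A : Matrix (Fin r) (Fin r) F) *ᵥ y) + f₁ y ((A : Matrix (Fin r) (Fin r) F) *ᵥ x))
      (fun x x' y => by simp only [D.s1.bilinear.add_left, mulVec_add, D.s1.bilinear.add_right]; ring)
      (fun c x y => by simp only [D.s1.bilinear.smul_left, mulVec_smul, D.s1.bilinear.smul_right, smul_eq_mul]; ring)
      (fun x y y' => by simp only [D.s1.bilinear.add_left, mulVec_add, D.s1.bilinear.add_right]; ring)
      (fun c x y => by simp only [D.s1.bilinear.smul_left, mulVec_smul, D.s1.bilinear.smul_right, smul_eq_mul]; ring)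
  obtain ⟨a, ha, hga⟩ := exists_zero_sym h2 (by omega) g fun x y => add_comm _ _
  refine ⟨a, ha, ?_, fun hm => ?_⟩
  · have : (2 : F) * f₁ a ((A : Matrix (Fin r) (Fin r) F) *ᵥ a) = 0 := by rw [two_mul]; exact hga
    exact (mul_eq_zero.1 this).resolve_left h2
  · obtain ⟨l, hl⟩ := Submodule.mem_span_singleton.1 hm
    exact heig a l ha hl.symm

/-- the square of the first factor of an involution -/
theorem SO.invol_sq {x : GL ι F} (hx2 : x * x = 1) {A : GL (Fin r) F} {B : GL (Fin s) F} (hx : x = kg e P A B) :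
    ∃ c₀ : F, c₀ ≠ 0 ∧ ∀ a, (A : Matrix (Fin r) (Fin r) F) *ᵥ ((A : Matrix (Fin r) (Fin r) F) *ᵥ a) = c₀ • a := by
  obtain ⟨y, hy⟩ : ∃ y : Fin s → F, y ≠ 0 := ⟨Pi.single ⟨0, by have := D.three; omega⟩ 1, by simp⟩
  obtain ⟨γ, hγ⟩ := exists_dot_one (show (B : Matrix (Fin s) (Fin s) F) *ᵥ ((B : Matrix (Fin s) (Fin s) F) *ᵥ y) ≠ 0
    from fun h => hy (gl_mulVec_eq_zero.1 (gl_mulVec_eq_zero.1 h)))
  have key : ∀ a, (A : Matrix (Fin r) (Fin r) F) *ᵥ ((A : Matrix (Fin r) (Fin r) F) *ᵥ a) = (γ ⬝ᵥ y) • a := fun a => by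
    have h : ((x * x : GL ι F) : Matrix ι ι F) *ᵥ T a y = T a y := by rw [hx2, Units.val_one, one_mulVec]
    rw [gl_mul_mulVec, hx, kg_tvec, kg_tvec] at h
    have h1 := congrArg (co e P γ) h
    rwa [co_tvec, co_tvec, hγ, one_smul] at h1
  refine ⟨γ ⬝ᵥ y, fun h0 => ?_, key⟩
  obtain ⟨a, ha⟩ : ∃ a : Fin r → F, a ≠ 0 := ⟨Pi.single ⟨0, D.rpos⟩ 1, by simp⟩
  exact ha (gl_mulVec_eq_zero.1 (gl_mulVec_eq_zero.1 ((key a).trans (by rw [h0, zero_smul]))))

/-- involutions of the tensor product subgroup with a small negative space -/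
theorem SO.tensor_invol_refl (hr : 4 ≤ r) (hrs : r < 2 * s) {x : GL ι F} (hx : x ∈ M)
    (hT : x ∈ tensorProductSubgroup r s e P) (hx2 : x * x = 1) (hx1 : x ≠ 1)
    (hle : Module.finrank F (LinearMap.ker (Matrix.mulVecLin (x : Matrix ι ι F) + LinearMap.id)) ≤ r) :
    ∃ e₀, ∃ he : f₂ e₀ e₀ ≠ 0, x = D.R e₀ he := by
  have h2 := D.two
  have hg := D.s2
  obtain ⟨A, B, μ, ν, hμν, hA, hB, hxAB⟩ := D.tensor_data hx hT
  obtain ⟨c₀, -, hsq⟩ := D.invol_sq hx2 hxAB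
  have hxx : ∀ z, (x : Matrix ι ι F) *ᵥ ((x : Matrix ι ι F) *ᵥ z) = z := fun z => by
    rw [← gl_mul_mulVec, hx2, Units.val_one, one_mulVec]
  let K := LinearMap.ker (Matrix.mulVecLin (x : Matrix ι ι F) + LinearMap.id)
  have hK : ∀ z, z - (x : Matrix ι ι F) *ᵥ z ∈ K := fun z => by
    show (x : Matrix ι ι F) *ᵥ (z - (x : Matrix ι ι F) *ᵥ z) + (z - (x : Matrix ι ι F) *ᵥ z) = 0
    rw [mulVec_sub, hxx]; abel
  by_cases hns : ∃ l : F, ∀ a, (A : Matrix (Fin r) (Fin r) F) *ᵥ a = l • a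
  swap
  · exfalso
    obtain ⟨a, b, hab⟩ := D.four_indep hr hA hsq hns
    obtain ⟨Aa, hAa⟩ : ∃ v, v = (A : Matrix (Fin r) (Fin r) F) *ᵥ a := ⟨_, rfl⟩
    obtain ⟨Ab, hAb⟩ : ∃ v, v = (A : Matrix (Fin r) (Fin r) F) *ᵥ b := ⟨_, rfl⟩
    have hna : a ∉ Submodule.span F ({Aa, b, Ab} : Set (Fin r → F)) := fun hm => by
      obtain ⟨p, z, hz, h⟩ := Submodule.mem_span_insert.1 hm
      obtain ⟨p', p'', h'⟩ := Submodule.mem_span_pair.1 hz
      refine neg_ne_zero.2 (one_ne_zero (α := F)) (hab (-1) p p' p'' ?_).1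
      rw [← hAa, ← hAb]; linear_combination (norm := module) -h + h'
    have hnb : b ∉ Submodule.span F ({a, Aa, Ab} : Set (Fin r → F)) := fun hm => by
      obtain ⟨p, z, hz, h⟩ := Submodule.mem_span_insert.1 hm
      obtain ⟨p', p'', h'⟩ := Submodule.mem_span_pair.1 hz
      refine neg_ne_zero.2 (one_ne_zero (α := F)) (hab p p' (-1) p'' ?_).2.2.1
      rw [← hAa, ← hAb]; linear_combination (norm := module) -h + h'
    obtain ⟨γ, hγ, hγ0⟩ := exists_dual _ hna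
    obtain ⟨δ, hδ, hδ0⟩ := exists_dual _ hnb
    let Φ : (Fin s → F) × (Fin s → F) →ₗ[F] (ι → F) :=
      (LinearMap.id - Matrix.mulVecLin (x : Matrix ι ι F)).comp ((tL e P a).coprod (tL e P b))
    have hinj : Function.Injective Φ := (injective_iff_map_eq_zero Φ).2 fun p hp => by
      have hp' : T a p.1 + T b p.2 - (x : Matrix ι ι F) *ᵥ (T a p.1 + T b p.2) = 0 := hp
      rw [hxAB, mulVec_add, kg_tvec, kg_tvec, ← hAa, ← hAb] at hp'
      have e1 := congrArg (rc e P γ) hp'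
      have e2 := congrArg (rc e P δ) hp'
      simp only [map_sub, map_add, map_zero, rc_tvec, hγ, hδ,
        hγ0 Aa (Submodule.subset_span (by simp)), hγ0 b (Submodule.subset_span (by simp)),
        hγ0 Ab (Submodule.subset_span (by simp)), hδ0 a (Submodule.subset_span (by simp)),
        hδ0 Aa (Submodule.subset_span (by simp)), hδ0 Ab (Submodule.subset_span (by simp)),
        zero_smul, one_smul, add_zero, zero_add, sub_zero] at e1 e2
      exact Prod.ext e1 e2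
    have hrange : LinearMap.range Φ ≤ K := by rintro _ ⟨p, rfl⟩; exact hK _
    have h := Submodule.finrank_mono hrange
    rw [LinearMap.finrank_range_of_inj hinj] at h
    simp [K] at h
    omega
  obtain ⟨l, hl⟩ := hns
  -- a reflection of the second factor
  obtain ⟨B', hB'⟩ : ∃ B' : (Fin s → F) →ₗ[F] (Fin s → F), B' = l • Matrix.mulVecLin (B : Matrix (Fin s) (Fin s) F) :=
    ⟨_, rfl⟩
  have hxT : ∀ a y, (x : Matrix ι ι F) *ᵥ T a y = T a (B' y) := fun a y => by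
    rw [hxAB, kg_tvec, hl, tvec_smul_left, ← tvec_smul_right, hB']; rfl
  obtain ⟨a, ha⟩ : ∃ a : Fin r → F, a ≠ 0 := ⟨Pi.single ⟨0, D.rpos⟩ 1, by simp⟩
  obtain ⟨c, hca⟩ := D.exists_partner ha
  have hB2 : ∀ y, B' (B' y) = y := fun y => by
    have h := hxx (T c y)
    rw [hxT, hxT] at h
    have h' := congrArg (D.cob a) h
    rwa [D.cob_tvec, D.cob_tvec, hca, one_smul, one_smul] at h'
  have hBiso : ∀ y y', f₂ (B' y) (B' y') = f₂ y y' := fun y y' => by
    have h := Symp.mem_isoSub.1 (D.le hx) (T c y) (T a y')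
    rw [hxT, hxT, D.pol, D.pol, hca, one_mul, one_mul] at h
    exact mul_left_cancel₀ D.kne h
  obtain ⟨v, hv, hBv⟩ : ∃ v, v ≠ 0 ∧ B' v = -v := by
    by_contra hcon
    push Not at hcon
    refine hx1 (gl_ext_tvec (e := e) (P := P) fun a y => ?_)
    rw [Units.val_one, one_mulVec, hxT]
    congr 1
    by_contra hne
    exact hcon (y - B' y) (sub_ne_zero.2 (Ne.symm hne)) (by rw [map_sub, hB2]; abel)
  have hline : ∀ y, y - B' y ∈ Submodule.span F {v} := by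
    intro y
    by_contra hnot
    obtain ⟨γ, hγ, hγ0⟩ := exists_dual _ hnot
    obtain ⟨δ, hδ⟩ := exists_dot_one hv
    let Φ : (Fin r → F) × (Fin r → F) →ₗ[F] (ι → F) := (tR e P v).coprod (tR e P (y - B' y))
    have hinj : Function.Injective Φ := (injective_iff_map_eq_zero Φ).2 fun p hp => by
      have hp' : T p.1 v + T p.2 (y - B' y) = 0 := hp
      have e1 := congrArg (co e P γ) hp'
      rw [map_add, co_tvec, co_tvec, hγ, hγ0 v (Submodule.mem_span_singleton_self v), zero_smul, zero_add, one_smul,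
        map_zero] at e1
      rw [e1, tvec_zero_left, add_zero] at hp'
      exact Prod.ext (tvec_left_inj hv (hp'.trans (tvec_zero_left v).symm)) e1
    have hrange : LinearMap.range Φ ≤ K := by
      rintro _ ⟨p, rfl⟩
      show (x : Matrix ι ι F) *ᵥ (T p.1 v + T p.2 (y - B' y)) + (T p.1 v + T p.2 (y - B' y)) = 0
      rw [mulVec_add, hxT, hxT, hBv, map_sub, hB2, tvec_neg_right, tvec_sub_right, tvec_sub_right]
      abel
    have h := Submodule.finrank_mono hrange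
    rw [LinearMap.finrank_range_of_inj hinj] at h
    simp [K] at h
    omega
  have key : ∀ y, ∃ t, y - B' y = t • v ∧ t * f₂ v v = 2 * f₂ y v := fun y => by
    obtain ⟨t, ht⟩ := Submodule.mem_span_singleton.1 (hline y)
    refine ⟨t, ht.symm, ?_⟩
    rw [← hg.bilinear.smul_left, ht, Orth.sym_sub_left hg]
    have := hBiso y v
    rw [hBv, Orth.sym_neg_right hg] at this
    linear_combination this
  have hvv : f₂ v v ≠ 0 := fun h0 => hv (sym_eq_zero hg fun y => by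
    obtain ⟨t, -, ht⟩ := key y
    rw [h0, mul_zero] at ht
    rw [hg.symm, (mul_eq_zero.1 ht.symm).resolve_left h2])
  refine ⟨v, hvv, gl_ext_tvec (e := e) (P := P) fun a y => ?_⟩
  obtain ⟨t, ht, ht'⟩ := key y
  rw [hxT, SO.R, kg_tvec, Units.val_one, one_mulVec, refl_mulVec,
    show 2 / f₂ v v * f₂ y v = t by field_simp; linear_combination -ht', ← ht, sub_sub_cancel]

/-- a conjugate of a plane involution in the tensor product subgroup -/
theorem SO.plane_conj_left (hr : 4 ≤ r) (hM : ¬ Symp.isoSub f ≤ M) (hex : 4 ≤ s ∨ ∃ t : F, t ≠ 0 ∧ t * t ≠ 1)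
    {c d : Fin r → F} (hcd : f₁ c d = 1) {h : GL ι F} (hh : h ∈ M)
    (hT : h * kg e P (D.plane c d hcd) (1 : GL (Fin s) F) * h⁻¹ ∈ tensorProductSubgroup r s e P) :
    ∃ A ∈ Symp.isoSub f₁, h * kg e P (D.plane c d hcd) (1 : GL (Fin s) F) * h⁻¹ = kg e P A (1 : GL (Fin s) F) := by
  obtain ⟨Y, hY⟩ : ∃ Y, Y = kg e P (D.plane c d hcd) (1 : GL (Fin s) F) := ⟨_, rfl⟩
  rw [← hY] at hT ⊢
  have hYM : Y ∈ M := hY ▸ D.kg_left_mem (D.plane_iso c d hcd)
  have hY2 : Y * Y = 1 := gl_ext_tvec (e := e) (P := P) fun a y => by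
    rw [gl_mul_mulVec, hY, kg_tvec, kg_tvec, Units.val_one, one_mulVec, one_mulVec, D.plane_sq]
    rw [Units.val_one, one_mulVec]
  obtain ⟨q, hq⟩ : ∃ q, q = h * Y * h⁻¹ := ⟨_, rfl⟩
  rw [← hq] at hT ⊢
  have hqM : q ∈ M := hq ▸ mul_mem (mul_mem hh hYM) (inv_mem hh)
  suffices h ∈ tensorProductSubgroup r s e P by
    obtain ⟨A, B, μ, ν, hμν, hA, hB, hAB⟩ := D.tensor_data hh this
    have hqe : q = kg e P (A * D.plane c d hcd * A⁻¹) (1 : GL (Fin s) F) := gl_ext_tvec (e := e) (P := P) fun a y => by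
      obtain ⟨a', rfl⟩ : ∃ a', a = (A : Matrix (Fin r) (Fin r) F) *ᵥ a' := ⟨_, (gl_mulVec_inv A a).symm⟩
      obtain ⟨y', rfl⟩ : ∃ y', y = (B : Matrix (Fin s) (Fin s) F) *ᵥ y' := ⟨_, (gl_mulVec_inv B y).symm⟩
      rw [← kg_tvec A B a' y', ← hAB, hq, gl_mul_mulVec, gl_mul_mulVec, gl_inv_mulVec, hY, hAB, kg_tvec, kg_tvec,
        Units.val_one, one_mulVec, kg_tvec, kg_tvec, Units.val_one, one_mulVec, gl_mul_mulVec, gl_mul_mulVec,
        gl_inv_mulVec]
    exact ⟨_, D.left_iso (hqe ▸ hqM), hqe⟩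
  obtain ⟨A, B, μ, ν, hμν, hA, hB, hAB⟩ := D.tensor_data hqM hT
  have hq2 : q * q = 1 := by
    rw [hq, show h * Y * h⁻¹ * (h * Y * h⁻¹) = h * (Y * Y) * h⁻¹ by group, hY2, mul_one, mul_inv_cancel]
  obtain ⟨c₀, hc₀, hsq⟩ := D.invol_sq hq2 hAB
  have hμ : μ ≠ 0 := left_ne_zero_of_mul_eq_one hμν
  have h2 := D.two
  obtain ⟨a₁, ha₁⟩ : ∃ a : Fin r → F, a ≠ 0 := ⟨Pi.single ⟨0, D.rpos⟩ 1, by simp⟩
  obtain ⟨p₁, hp₁⟩ := D.exists_partner ha₁
  have hμc : μ * μ = c₀ * c₀ := by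
    have h := hA ((A : Matrix (Fin r) (Fin r) F) *ᵥ p₁) ((A : Matrix (Fin r) (Fin r) F) *ᵥ a₁)
    rw [hsq, hsq, D.s1.bilinear.smul_left, D.s1.bilinear.smul_right, hA p₁ a₁, hp₁] at h
    linear_combination -h
  obtain ⟨a, ha, haA, hne⟩ : ∃ a, a ≠ 0 ∧ f₁ a ((A : Matrix (Fin r) (Fin r) F) *ᵥ a) = 0 ∧
      ∃ x, f₁ x a • a + (μ⁻¹ * f₁ x ((A : Matrix (Fin r) (Fin r) F) *ᵥ a)) • ((A : Matrix (Fin r) (Fin r) F) *ᵥ a)
        ≠ 0 := by
    by_cases hns : ∃ l : F, ∀ a, (A : Matrix (Fin r) (Fin r) F) *ᵥ a = l • a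
    · obtain ⟨l, hl⟩ := hns
      refine ⟨a₁, ha₁, by rw [hl, D.s1.bilinear.smul_right, D.s1.alternating, mul_zero], p₁, ?_⟩
      have hll : l * l = μ := by
        have h := hA p₁ a₁
        rw [hl, hl, D.s1.bilinear.smul_left, D.s1.bilinear.smul_right, hp₁] at h
        linear_combination h
      rw [hl, D.s1.bilinear.smul_right, hp₁, smul_smul, ← add_smul]
      refine smul_ne_zero ?_ ha₁
      rw [show μ⁻¹ * (l * 1) * l = μ⁻¹ * (l * l) by ring, hll, inv_mul_cancel₀ hμ, show (1 : F) + 1 = 2 by ring]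
      exact h2
    · obtain ⟨a, ha, haA, hnot⟩ := D.exists_orth_image hr hA hsq hns
      obtain ⟨p, hp⟩ := D.exists_partner ha
      refine ⟨a, ha, haA, p, fun h0 => ?_⟩
      rw [hp, one_smul] at h0
      obtain ⟨t, ht⟩ : ∃ t, t = μ⁻¹ * f₁ p ((A : Matrix (Fin r) (Fin r) F) *ᵥ a) := ⟨_, rfl⟩
      rw [← ht] at h0
      rcases eq_or_ne t 0 with h | h
      · rw [h, zero_smul, add_zero] at h0; exact ha h0
      · refine hnot (Submodule.mem_span_singleton.2 ⟨-t⁻¹, ?_⟩)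
        have h1 := congrArg (fun z => t⁻¹ • z) h0
        simp only [smul_add, smul_smul, inv_mul_cancel₀ h, one_smul, smul_zero] at h1
        rw [neg_smul]; exact (eq_neg_of_add_eq_zero_right h1).symm
  obtain ⟨x₀, hx₀⟩ := hne
  -- a unipotent element commuting with `A`
  obtain ⟨Aa, hAa⟩ : ∃ Aa, Aa = (A : Matrix (Fin r) (Fin r) F) *ᵥ a := ⟨_, rfl⟩
  rw [← hAa] at haA hx₀
  have hAAa : (A : Matrix (Fin r) (Fin r) F) *ᵥ Aa = c₀ • a := by rw [hAa, hsq]
  obtain ⟨u, hu⟩ : ∃ u, u = Symp.stv D.s1 a 1 * Symp.stv D.s1 Aa μ⁻¹ := ⟨_, rfl⟩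
  have huv : ∀ x, (u : Matrix (Fin r) (Fin r) F) *ᵥ x = x + (f₁ x a • a + (μ⁻¹ * f₁ x Aa) • Aa) := fun x => by
    rw [hu, gl_mul_mulVec, Symp.stv_mulVec, Symp.stv_mulVec, D.s1.bilinear.add_left, D.s1.bilinear.smul_left,
      D.s1.skew Aa a, haA]
    module
  have huiso : u ∈ Symp.isoSub f₁ := hu ▸ mul_mem (Symp.stv_iso D.s1 a 1) (Symp.stv_iso D.s1 Aa μ⁻¹)
  have huA : ∀ x, (u : Matrix (Fin r) (Fin r) F) *ᵥ ((A : Matrix (Fin r) (Fin r) F) *ᵥ x) =
      (A : Matrix (Fin r) (Fin r) F) *ᵥ ((u : Matrix (Fin r) (Fin r) F) *ᵥ x) := fun x => by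
    have e1 : f₁ ((A : Matrix (Fin r) (Fin r) F) *ᵥ x) Aa = μ * f₁ x a := by rw [hAa, hA]
    have e2 : c₀ * f₁ ((A : Matrix (Fin r) (Fin r) F) *ᵥ x) a = μ * f₁ x Aa := by
      rw [← D.s1.bilinear.smul_right, ← hAAa, hA]
    rw [huv, huv, mulVec_add, mulVec_add, mulVec_smul, mulVec_smul, hAAa, ← hAa, e1]
    match_scalars
    · ring
    · field_simp
      refine mul_left_cancel₀ hc₀ ?_
      linear_combination μ * e2 + f₁ x Aa * hμc
    · field_simp
  have hufix : (u : Matrix (Fin r) (Fin r) F) *ᵥ a = a := by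
    rw [huv, D.s1.alternating, haA]; module
  have humove : (u : Matrix (Fin r) (Fin r) F) *ᵥ x₀ ≠ x₀ := by
    rw [huv]; simpa using hx₀
  obtain ⟨U, hU⟩ : ∃ U, U = kg e P u (1 : GL (Fin s) F) := ⟨_, rfl⟩
  have hUM : U ∈ M := hU ▸ D.kg_left_mem huiso
  have hUq : U * q = q * U := gl_ext_tvec (e := e) (P := P) fun x y => by
    rw [gl_mul_mulVec, gl_mul_mulVec, hU, hAB, kg_tvec, kg_tvec, kg_tvec, kg_tvec, Units.val_one, one_mulVec,
      one_mulVec, huA]
  -- its conjugate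
  obtain ⟨m, hm⟩ : ∃ m, m = h⁻¹ * U * h := ⟨_, rfl⟩
  have hmM : m ∈ M := hm ▸ mul_mem (mul_mem (inv_mem hh) hUM) hh
  obtain ⟨w, hw, hwc, hwd⟩ : ∃ w : Fin r → F, w ≠ 0 ∧ f₁ w c = 0 ∧ f₁ w d = 0 := by
    obtain ⟨w, hw, hw0⟩ := Submodule.exists_mem_ne_zero_of_ne_bot
      (LinearMap.ker_ne_bot_of_finrank_lt (f := (Symp.sfun D.s1 c).prod (Symp.sfun D.s1 d)) (by simp; omega))
    exact ⟨w, hw0, congrArg Prod.fst hw, congrArg Prod.snd hw⟩
  have hmT : m ∈ tensorProductSubgroup r s e P := by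
    refine D.centralizer_left (by omega) hM hex (D.plane_iso c d hcd) hw (D.plane_perp c d hcd hwc hwd) (u := c)
      ?_ hmM ?_
    · rw [D.plane_left]
      intro h0
      have : (2 : F) • c = 0 := by rw [two_smul]; nth_rw 1 [← h0]; exact neg_add_cancel c
      have hc0 := (smul_eq_zero.1 this).resolve_left h2
      rw [hc0, Symp.zero_left D.s1] at hcd
      exact zero_ne_one hcd
    · rw [← hY, hm]
      have hY' : Y = h⁻¹ * q * h := by rw [hq]; group
      rw [hY', show h⁻¹ * U * h * (h⁻¹ * q * h) = h⁻¹ * (U * q) * h by group, hUq]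
      group
  obtain ⟨A', B', μ', ν', hμν', hA', hB', hm'⟩ := D.tensor_data hmM hmT
  have hUv : ∀ z, (U : Matrix ι ι F) *ᵥ ((U : Matrix ι ι F) *ᵥ z) - (U : Matrix ι ι F) *ᵥ z -
      ((U : Matrix ι ι F) *ᵥ z - z) = 0 := fun z => by
    induction tvec_span (e := e) (P := P) z using Submodule.span_induction with
    | mem v hv =>
      obtain ⟨x, y, rfl⟩ := hv
      rw [hU, kg_tvec, kg_tvec, Units.val_one, one_mulVec, one_mulVec, ← tvec_sub_left, ← tvec_sub_left,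
        ← tvec_sub_left, huv, huv x]
      simp only [D.s1.bilinear.add_left, D.s1.bilinear.smul_left, D.s1.alternating, haA, D.s1.skew Aa a]
      rw [← tvec_zero_left (e := e) (P := P) y]
      congr 1
      module
    | zero => simp
    | add v v' _ _ e1 e2 => simp only [mulVec_add]; linear_combination (norm := module) e1 + e2
    | smul t v _ e1 => simp only [mulVec_smul]; linear_combination (norm := module) t • e1
  have hmv : ∀ z, (m : Matrix ι ι F) *ᵥ ((m : Matrix ι ι F) *ᵥ z) - (m : Matrix ι ι F) *ᵥ z -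
      ((m : Matrix ι ι F) *ᵥ z - z) = 0 := fun z => by
    have h1 := congrArg (fun v => ((h⁻¹ : GL ι F) : Matrix ι ι F) *ᵥ v) (hUv ((h : Matrix ι ι F) *ᵥ z))
    simp only [mulVec_sub, mulVec_zero, gl_inv_mulVec] at h1
    simp only [hm, gl_mul_mulVec, gl_mulVec_inv]
    exact h1
  obtain ⟨b, hb, hbm⟩ : ∃ b, b ≠ 0 ∧ m * D.root b 1 = D.root b 1 * m := by
    rcases D.quad_split (fun x y => by rw [hm', kg_tvec]) hmv with ⟨l, hl⟩ | ⟨l, hl⟩
    · refine ⟨a₁, ha₁, gl_ext_tvec (e := e) (P := P) fun x y => ?_⟩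
      rw [gl_mul_mulVec, gl_mul_mulVec, SO.root, hm', kg_tvec, kg_tvec, kg_tvec, kg_tvec, Units.val_one, one_mulVec,
        one_mulVec, hl, hl, mulVec_smul]
    · obtain ⟨N, hN⟩ : ∃ N : (Fin r → F) →ₗ[F] (Fin r → F),
          N = l • Matrix.mulVecLin (A' : Matrix (Fin r) (Fin r) F) - LinearMap.id := ⟨_, rfl⟩
      have hNm : ∀ x y, (m : Matrix ι ι F) *ᵥ T x y = T (x + N x) y := fun x y => by
        rw [hm', kg_tvec, hl, tvec_smul_right, ← tvec_smul_left, hN]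
        congr 1
        show _ = x + (l • ((A' : Matrix (Fin r) (Fin r) F) *ᵥ x) - x)
        abel
      obtain ⟨y, y', hy⟩ := D.exists_unit_pair
      have hy0 : y ≠ 0 := fun h0 => by rw [h0, Orth.sym_zero_left D.s2] at hy; exact zero_ne_one hy
      have hNiso : ∀ x x', f₁ (x + N x) (x' + N x') = f₁ x x' := fun x x' => by
        have h1 := Symp.mem_isoSub.1 (D.le hmM) (T x y) (T x' y')
        rw [hNm, hNm, D.pol, D.pol, hy, mul_one, mul_one] at h1
        exact mul_left_cancel₀ D.kne h1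
      have hN2 : ∀ x, N (N x) = 0 := fun x => by
        have h1 := hmv (T x y)
        rw [hNm, hNm, ← tvec_sub_left, ← tvec_sub_left, ← tvec_sub_left, ← tvec_zero_left (e := e) (P := P) y] at h1
        rw [← tvec_left_inj hy0 h1, map_add]
        abel
      obtain ⟨b, hb, hNb⟩ : ∃ b, b ≠ 0 ∧ N b = 0 := by
        by_cases hz : ∀ x, N x = 0
        · exact ⟨a₁, ha₁, hz a₁⟩
        · push Not at hz
          obtain ⟨x, hx⟩ := hz
          exact ⟨N x, hx, hN2 x⟩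
      refine ⟨b, hb, gl_ext_tvec (e := e) (P := P) fun x y => ?_⟩
      rw [gl_mul_mulVec, gl_mul_mulVec, hNm, SO.root, kg_tvec, kg_tvec, Units.val_one, one_mulVec, hNm,
        Symp.stv_mulVec, Symp.stv_mulVec]
      congr 1
      have : f₁ (x + N x) b = f₁ x b := by
        have h1 := hNiso x b
        rwa [hNb, add_zero] at h1
      rw [this, map_add, map_smul, hNb]
      module
  refine D.weak_closure (by omega) hM hex hh hb (D.centralizer_left (by omega) hM hex huiso ha hufix humove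
    (mul_mem (mul_mem hh (D.root_mem b 1)) (inv_mem hh)) ?_)
  rw [← hU]
  have hU' : U = h * m * h⁻¹ := by rw [hm]; group
  rw [hU', show h * D.root b 1 * h⁻¹ * (h * m * h⁻¹) = h * (D.root b 1 * m) * h⁻¹ by group, ← hbm]
  group

end CfsgLib.Perm.Trans.TensorSO
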