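import Mathlib
import Cfsg.Agent.Lib.Perm.Trans.TensorSO.Conj

/-!
# A conjugate of a reflection commuting with the pure involutions of its dihedral groups is pure
-/

set_option autoImplicit false
set_option linter.all false

namespace CfsgLib.Perm.Trans.TensorSO

open scoped Matrix Kronecker
open Matrix Cfsg.Geo CfsgLib.Perm.Asch CfsgLib.Perm.Trans CfsgLib.Perm.Trans.TensorFrame
open CfsgLib.Perm.Trans.TensorMax

variable {ι : Type} [Fintype ι] [DecidableEq ι] {F : Type*} [Field F] [Fintype F] {r s : ℕ}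
variable {e : ι ≃ Fin r × Fin s} {P : GL ι F}
variable {f : (ι → F) → (ι → F) → F} {f₁ : (Fin r → F) → (Fin r → F) → F} {f₂ : (Fin s → F) → (Fin s → F) → F}
variable {k : F} {M : Subgroup (GL ι F)}

local notation "T" => tvec e P

variable (D : SO f f₁ f₂ e P k M)
include D

theorem SO.cod_add_left (m m' : Fin s → F) (z : ι → F) : D.cod (m + m') z = D.cod m z + D.cod m' z := by
  refine LinearMap.congr_fun (lin_ext (e := e) (P := P) (f := D.cod (m + m')) (g := D.cod m + D.cod m') fun x y => ?_) z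
  rw [LinearMap.add_apply, D.cod_tvec, D.cod_tvec, D.cod_tvec, D.s2.bilinear.add_right, add_smul]

theorem SO.cod_smul_left (t : F) (m : Fin s → F) (z : ι → F) : D.cod (t • m) z = t • D.cod m z := by
  refine LinearMap.congr_fun (lin_ext (e := e) (P := P) (f := D.cod (t • m)) (g := t • D.cod m) fun x y => ?_) z
  rw [LinearMap.smul_apply, D.cod_tvec, D.cod_tvec, D.s2.bilinear.smul_right, smul_smul]

theorem SO.cod_kg {A : GL (Fin r) F} {B : GL (Fin s) F}
    (hB : ∀ y y', f₂ ((B : Matrix (Fin s) (Fin s) F) *ᵥ y) ((B : Matrix (Fin s) (Fin s) F) *ᵥ y') = f₂ y y')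
    (m : Fin s → F) (z : ι → F) : D.cod ((B : Matrix (Fin s) (Fin s) F) *ᵥ m) ((kg e P A B : Matrix ι ι F) *ᵥ z) =
      (A : Matrix (Fin r) (Fin r) F) *ᵥ D.cod m z := by
  refine LinearMap.congr_fun (lin_ext (e := e) (P := P)
    (f := (D.cod ((B : Matrix (Fin s) (Fin s) F) *ᵥ m)).comp (Matrix.mulVecLin (kg e P A B : Matrix ι ι F)))
    (g := (Matrix.mulVecLin (A : Matrix (Fin r) (Fin r) F)).comp (D.cod m)) fun x y => ?_) z
  show D.cod _ ((kg e P A B : Matrix ι ι F) *ᵥ T x y) = (A : Matrix (Fin r) (Fin r) F) *ᵥ D.cod m (T x y)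
  rw [kg_tvec, D.cod_tvec, D.cod_tvec, hB, mulVec_smul]

theorem SO.refl_refl (d : Fin s → F) (hd : f₂ d d ≠ 0) (y : Fin s → F) :
    (refl D.s2 d hd : Matrix (Fin s) (Fin s) F) *ᵥ ((refl D.s2 d hd : Matrix (Fin s) (Fin s) F) *ᵥ y) = y := by
  simp only [refl_mulVec, Orth.sym_sub_left D.s2, D.s2.bilinear.smul_left]
  match_scalars <;> field_simp <;> ring

theorem SO.refl_self (d : Fin s → F) (hd : f₂ d d ≠ 0) :
    (refl D.s2 d hd : Matrix (Fin s) (Fin s) F) *ᵥ d = -d := by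
  rw [refl_mulVec]
  match_scalars
  field_simp
  ring

/-- the involution `J ⊗ r_d` -/
noncomputable def SO.Z (D : SO f f₁ f₂ e P k M) (c d : Fin r → F) (hcd : f₁ c d = 1) (m : Fin s → F)
    (hm : f₂ m m ≠ 0) : GL ι F := kg e P (D.plane c d hcd) (refl D.s2 m hm)

theorem SO.Z_cob (c d : Fin r → F) (hcd : f₁ c d = 1) (m : Fin s → F) (hm : f₂ m m ≠ 0) (p : Fin r → F) (v : ι → F) :
    D.cob p ((D.Z c d hcd m hm : Matrix ι ι F) *ᵥ v) =
      (refl D.s2 m hm : Matrix (Fin s) (Fin s) F) *ᵥ D.cob ((D.plane c d hcd : Matrix (Fin r) (Fin r) F) *ᵥ p) v := by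
  conv_lhs => rw [← D.plane_sq c d hcd p]
  rw [SO.Z, D.cob_kg (μ := 1) (fun x x' => by rw [Symp.mem_isoSub.1 (D.plane_iso c d hcd), one_mul]), one_smul]

theorem SO.Z_cod (c d : Fin r → F) (hcd : f₁ c d = 1) (m : Fin s → F) (hm : f₂ m m ≠ 0) (q : Fin s → F) (v : ι → F) :
    D.cod q ((D.Z c d hcd m hm : Matrix ι ι F) *ᵥ v) =
      (D.plane c d hcd : Matrix (Fin r) (Fin r) F) *ᵥ D.cod ((refl D.s2 m hm : Matrix (Fin s) (Fin s) F) *ᵥ q) v := by
  conv_lhs => rw [← D.refl_refl m hm q]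
  rw [SO.Z, D.cod_kg (refl_iso D.s2 m hm)]

theorem SO.Z_sq (c d : Fin r → F) (hcd : f₁ c d = 1) (m : Fin s → F) (hm : f₂ m m ≠ 0) (v : ι → F) :
    (D.Z c d hcd m hm : Matrix ι ι F) *ᵥ ((D.Z c d hcd m hm : Matrix ι ι F) *ᵥ v) = v := by
  have : D.Z c d hcd m hm * D.Z c d hcd m hm = 1 := gl_ext_tvec (e := e) (P := P) fun x y => by
    rw [gl_mul_mulVec, SO.Z, kg_tvec, kg_tvec, D.plane_sq, D.refl_refl, Units.val_one, one_mulVec]
  rw [← gl_mul_mulVec, this, Units.val_one, one_mulVec]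

/-- the endgame -/
theorem SO.endgame (hr : 4 ≤ r) (hM : ¬ Symp.isoSub f ≤ M) (hex : 4 ≤ s ∨ ∃ t : F, t ≠ 0 ∧ t * t ≠ 1) {x : GL ι F}
    (hx : x ∈ M) (hx2 : x * x = 1) {Γ : (Fin r → F) →ₗ[F] (ι → F)} (hΓ : Function.Injective Γ)
    (hxΓ : ∀ u, (x : Matrix ι ι F) *ᵥ Γ u = -Γ u)
    (hpl : ∀ c d (hcd : f₁ c d = 1), x ∈ tensorProductSubgroup r s e P ∨ ∃ m, ∃ hm : f₂ m m ≠ 0,
      (∀ v, (x : Matrix ι ι F) *ᵥ ((D.Z c d hcd m hm : Matrix ι ι F) *ᵥ v) =
        (D.Z c d hcd m hm : Matrix ι ι F) *ᵥ ((x : Matrix ι ι F) *ᵥ v)) ∧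
      ∀ v, (x : Matrix ι ι F) *ᵥ v = -v →
        ((kg e P (D.plane c d hcd) (1 : GL (Fin s) F) : Matrix ι ι F) *ᵥ v = v →
          (D.Z c d hcd m hm : Matrix ι ι F) *ᵥ v = -v) ∧
        ((kg e P (D.plane c d hcd) (1 : GL (Fin s) F) : Matrix ι ι F) *ᵥ v = -v →
          (D.Z c d hcd m hm : Matrix ι ι F) *ᵥ v = v)) :
    x ∈ tensorProductSubgroup r s e P := by
  have h2 := D.two
  have hg := D.s2
  have hf := D.hf
  obtain ⟨d, hd0⟩ : ∃ d : Fin r → F, d ≠ 0 := ⟨Pi.single ⟨0, D.rpos⟩ 1, by simp⟩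
  obtain ⟨c, hcd⟩ := D.exists_partner hd0
  have hdc : f₁ d c = -1 := by rw [D.s1.skew, hcd]
  have hc0 : c ≠ 0 := fun h => by rw [h, Symp.zero_left D.s1] at hcd; exact zero_ne_one hcd
  rcases hpl c d hcd with h | ⟨m, hm, hxZ, hpar⟩
  · exact h
  obtain ⟨Z, hZ⟩ : ∃ Z, Z = D.Z c d hcd m hm := ⟨_, rfl⟩
  rw [← hZ] at hxZ hpar
  have hxx : ∀ v, (x : Matrix ι ι F) *ᵥ ((x : Matrix ι ι F) *ᵥ v) = v := fun v => by
    rw [← gl_mul_mulVec, hx2, Units.val_one, one_mulVec]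
  have hiso := Symp.mem_isoSub.1 (D.le hx)
  have hxiso : ∀ v w, f ((x : Matrix ι ι F) *ᵥ v) w = f v ((x : Matrix ι ι F) *ᵥ w) := fun v w => by
    conv_lhs => rw [← hxx w, hiso]
  have half : ∀ {v : ι → F}, v = -v → v = 0 := fun {v} h => by
    have : (2 : F) • v = 0 := by rw [two_smul]; nth_rw 1 [h]; exact neg_add_cancel v
    exact (smul_eq_zero.1 this).resolve_left h2
  -- elements of the negative space are determined by their contraction with `m`
  have huniq : ∀ v, (x : Matrix ι ι F) *ᵥ v = -v → D.cod m v = 0 → v = 0 := by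
    intro v hv hv0
    have hYR : ∀ w, D.cod m w = 0 → (Z : Matrix ι ι F) *ᵥ w =
        (kg e P (D.plane c d hcd) (1 : GL (Fin s) F) : Matrix ι ι F) *ᵥ w := fun w hw => by
      have h1 : Z = kg e P (D.plane c d hcd) (1 : GL (Fin s) F) * D.R m hm :=
        gl_ext_tvec (e := e) (P := P) fun a y => by
          rw [gl_mul_mulVec, hZ, SO.Z, SO.R, kg_tvec, kg_tvec, Units.val_one, one_mulVec, kg_tvec, Units.val_one,
            one_mulVec]
      rw [h1, gl_mul_mulVec, D.R_mulVec, hw, smul_zero, tvec_zero_left, sub_zero]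
    have hZv0 : D.cod m ((Z : Matrix ι ι F) *ᵥ v) = 0 := by
      rw [hZ, D.Z_cod, D.refl_self, ← neg_one_smul F m, D.cod_smul_left, hv0, smul_zero, mulVec_zero]
    have hxZv : (x : Matrix ι ι F) *ᵥ ((Z : Matrix ι ι F) *ᵥ v) = -((Z : Matrix ι ι F) *ᵥ v) := by
      rw [hxZ, hv, mulVec_neg]
    have hplus : v + (Z : Matrix ι ι F) *ᵥ v = 0 := by
      obtain ⟨w, hw⟩ : ∃ w, w = v + (Z : Matrix ι ι F) *ᵥ v := ⟨_, rfl⟩
      rw [← hw]
      have hZw : (Z : Matrix ι ι F) *ᵥ w = w := by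
        rw [hw, mulVec_add, hZ, D.Z_sq, add_comm]
      refine half ?_
      have h1 := (hpar w (by rw [hw, mulVec_add, hv, hxZv, neg_add])).1 (by
        rw [← hYR w (by rw [hw, map_add, hv0, hZv0, add_zero]), hZw])
      rwa [hZw] at h1
    have hminus : v - (Z : Matrix ι ι F) *ᵥ v = 0 := by
      obtain ⟨w, hw⟩ : ∃ w, w = v - (Z : Matrix ι ι F) *ᵥ v := ⟨_, rfl⟩
      rw [← hw]
      have hZw : (Z : Matrix ι ι F) *ᵥ w = -w := by
        rw [hw, mulVec_sub, hZ, D.Z_sq, neg_sub]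
      refine half ?_
      have h1 := (hpar w (by rw [hw, mulVec_sub, hv, hxZv]; abel)).2 (by
        rw [← hYR w (by rw [hw, map_sub, hv0, hZv0, sub_zero]), hZw])
      rw [hZw] at h1
      exact h1.symm
    rw [← sub_eq_zero.1 hminus] at hplus
    exact half (eq_neg_of_add_eq_zero_left hplus)
  -- the negative space as a graph
  let ψ : (Fin r → F) →ₗ[F] (Fin r → F) := (D.cod m).comp Γ
  have hψ : Function.Injective ψ := (injective_iff_map_eq_zero ψ).2 fun u hu =>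
    hΓ (by rw [huniq _ (hxΓ u) hu, map_zero])
  let Λ : (Fin r → F) →ₗ[F] (ι → F) := Γ.comp (LinearEquiv.ofInjectiveEndo ψ hψ).symm.toLinearMap
  have hΛ : ∀ u, D.cod m (Λ u) = u := fun u => (LinearEquiv.ofInjectiveEndo ψ hψ).apply_symm_apply u
  have hxΛ : ∀ u, (x : Matrix ι ι F) *ᵥ Λ u = -Λ u := fun u => hxΓ _
  have hrep : ∀ v, (x : Matrix ι ι F) *ᵥ v = -v → v = Λ (D.cod m v) := fun v hv => by
    refine sub_eq_zero.1 (huniq _ ?_ ?_)
    · rw [mulVec_sub, hv, hxΛ]; abel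
    · rw [map_sub, hΛ, sub_self]
  have hnd : ∀ v, (x : Matrix ι ι F) *ᵥ v = -v → (∀ u, f v (Λ u) = 0) → v = 0 := by
    intro v hv h0
    by_contra hne
    obtain ⟨z, hz⟩ := (hf.nondegenerate v hne).2
    refine hz ?_
    have hzL : (x : Matrix ι ι F) *ᵥ (z - (x : Matrix ι ι F) *ᵥ z) = -(z - (x : Matrix ι ι F) *ᵥ z) := by
      rw [mulVec_sub, hxx]; abel
    have h1 := h0 (D.cod m (z - (x : Matrix ι ι F) *ᵥ z))
    rw [← hrep _ hzL, Symp.sub_right hf, ← hxiso, hv, ← neg_one_smul F v, hf.bilinear.smul_left] at h1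
    exact (mul_eq_zero.1 (show (2 : F) * f v z = 0 by linear_combination h1)).resolve_left h2
  have hZΛ : ∀ u, (Z : Matrix ι ι F) *ᵥ Λ u = -Λ ((D.plane c d hcd : Matrix (Fin r) (Fin r) F) *ᵥ u) := fun u => by
    have h1 := hrep ((Z : Matrix ι ι F) *ᵥ Λ u) (by rw [hxZ, hxΛ, mulVec_neg])
    rwa [hZ, D.Z_cod, D.refl_self, ← neg_one_smul F m, D.cod_smul_left, hΛ, neg_one_smul, mulVec_neg, map_neg,
      ← hZ] at h1
  -- contractions of the graph
  obtain ⟨ε, hε⟩ : ∃ ε, ε = f₂ m m := ⟨_, rfl⟩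
  have hε0 : ε ≠ 0 := hε ▸ hm
  have hfix : ∀ X, (refl hg m hm : Matrix (Fin s) (Fin s) F) *ᵥ X = -X → X = (f₂ X m / ε) • m := fun X hX => by
    rw [refl_mulVec, ← hε] at hX
    have h3 : (2 : F) • X = (2 : F) • ((f₂ X m / ε) • m) := by
      rw [smul_smul, show 2 * (f₂ X m / ε) = 2 / ε * f₂ X m by ring]
      linear_combination (norm := module) hX
    exact smul_right_injective (Fin s → F) h2 h3
  have hXm : ∀ p u, f₂ (D.cob p (Λ u)) m = f₁ u p := fun p u => by rw [D.cob_cod, hΛ]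
  have hcc : D.cob c (Λ c) = 0 := by
    have h1 := congrArg (D.cob c) (hZΛ c)
    rw [D.plane_left, map_neg Λ, neg_neg, hZ, D.Z_cob, D.plane_left, ← neg_one_smul F c, D.cob_smul_left,
      mulVec_smul, neg_one_smul] at h1
    have h3 := hfix _ (neg_eq_iff_eq_neg.1 h1)
    rwa [hXm, D.s1.alternating, zero_div, zero_smul] at h3
  have hpm : ∀ p w, (D.plane c d hcd : Matrix (Fin r) (Fin r) F) *ᵥ p = -p →
      (D.plane c d hcd : Matrix (Fin r) (Fin r) F) *ᵥ w = -w → D.cob p (Λ w) = (f₁ w p / ε) • m := by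
    intro p w hp hw
    have h1 := congrArg (D.cob p) (hZΛ w)
    rw [hw, map_neg Λ, neg_neg, hZ, D.Z_cob, hp, ← neg_one_smul F p, D.cob_smul_left, mulVec_smul, neg_one_smul] at h1
    have h3 := hfix _ (neg_eq_iff_eq_neg.1 h1)
    rwa [hXm] at h3
  have hpw : ∀ p w, f₁ p c = 0 → f₁ p d = 0 → f₁ w c = 0 → f₁ w d = 0 → D.cob p (Λ w) = (f₁ w p / ε) • m := by
    intro p w hp1 hp2 hw1 hw2
    have h1 := congrArg (D.cob p) (hZΛ w)
    rw [D.plane_perp c d hcd hw1 hw2, hZ, D.Z_cob, D.plane_perp c d hcd hp1 hp2, map_neg] at h1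
    have h3 := hfix _ h1
    rwa [hXm] at h3
  have hcd' : D.cob c (Λ d) = (-1 / ε) • m := by
    rw [hpm c d (D.plane_left c d hcd) (D.plane_right c d hcd), hdc]
  have hdcΛ : D.cob d (Λ c) = (1 / ε) • m := by
    rw [hpm d c (D.plane_right c d hcd) (D.plane_left c d hcd), hcd]
  have hcodw : ∀ n w, f₂ n m = 0 → f₁ w c = 0 → f₁ w d = 0 →
      D.cod n (Λ w) = f₂ (D.cob d (Λ w)) n • c - f₂ (D.cob c (Λ w)) n • d := by
    intro n w hn hw1 hw2
    have h1 := congrArg (D.cod n) (hZΛ w)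
    rw [D.plane_perp c d hcd hw1 hw2, hZ, D.Z_cod, refl_mulVec, hn, mul_zero, zero_smul, sub_zero, map_neg,
      D.plane_mulVec, ← D.cob_cod, ← D.cob_cod] at h1
    have h3 : (2 : F) • D.cod n (Λ w) =
        (2 : F) • (f₂ (D.cob d (Λ w)) n • c - f₂ (D.cob c (Λ w)) n • d) := by
      linear_combination (norm := module) h1
    exact smul_right_injective (Fin r → F) h2 h3
  -- the singular part
  by_cases hall : ∀ w, f₁ w c = 0 → f₁ w d = 0 → f₂ (D.cob c (Λ w)) (D.cob c (Λ w)) = 0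
  swap
  · push Not at hall
    obtain ⟨w, hwc, hwd, hBB⟩ := hall
    have hw0 : w ≠ 0 := fun h => hBB (by rw [h, map_zero, map_zero, Orth.sym_zero_left hg])
    obtain ⟨p0, hp0⟩ := D.exists_partner hw0
    obtain ⟨p, hp⟩ : ∃ p, p = -p0 + f₁ p0 d • c - f₁ p0 c • d := ⟨_, rfl⟩
    have hpc : f₁ p c = 0 := by
      rw [hp]
      simp only [Symp.sub_left D.s1, D.s1.bilinear.add_left, D.s1.bilinear.smul_left, D.s1.alternating, hdc,
        ← neg_one_smul F p0]
      ring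
    have hpd : f₁ p d = 0 := by
      rw [hp]
      simp only [Symp.sub_left D.s1, D.s1.bilinear.add_left, D.s1.bilinear.smul_left, D.s1.alternating, hcd,
        ← neg_one_smul F p0]
      ring
    have hpw' : f₁ p w = -1 := by
      rw [hp]
      simp only [Symp.sub_left D.s1, D.s1.bilinear.add_left, D.s1.bilinear.smul_left, ← neg_one_smul F p0, hp0,
        D.s1.skew c w, D.s1.skew d w, hwc, hwd]
      ring
    have hcdw : f₁ c (d + w) = 1 := by
      rw [D.s1.bilinear.add_right, hcd, Symp.swap_zero D.s1 hwc, add_zero]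
    rcases hpl c (d + w) hcdw with h | ⟨m', hm', hxZ', -⟩
    · exact h
    obtain ⟨Z', hZ'⟩ : ∃ Z', Z' = D.Z c (d + w) hcdw m' hm' := ⟨_, rfl⟩
    rw [← hZ'] at hxZ'
    obtain ⟨R', hR'⟩ : ∃ R' : GL (Fin s) F, R' = refl hg m' hm' := ⟨_, rfl⟩
    have hRR : ∀ y, (R' : Matrix (Fin s) (Fin s) F) *ᵥ ((R' : Matrix (Fin s) (Fin s) F) *ᵥ y) = y :=
      fun y => by rw [hR', D.refl_refl]
    have hRs : ∀ y y', f₂ ((R' : Matrix (Fin s) (Fin s) F) *ᵥ y) y' = f₂ y ((R' : Matrix (Fin s) (Fin s) F) *ᵥ y') :=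
      fun y y' => by conv_lhs => rw [← hRR y', hR', refl_iso hg m' hm', ← hR']
    obtain ⟨j, hj⟩ : ∃ j, j = D.plane c (d + w) hcdw := ⟨_, rfl⟩
    have hjw : (j : Matrix (Fin r) (Fin r) F) *ᵥ w = w := hj ▸ D.plane_perp _ _ hcdw hwc
      (by rw [D.s1.bilinear.add_right, hwd, D.s1.alternating, add_zero])
    have hjc : (j : Matrix (Fin r) (Fin r) F) *ᵥ c = -c := hj ▸ D.plane_left _ _ hcdw
    have hjd : (j : Matrix (Fin r) (Fin r) F) *ᵥ d = -d - (2 : F) • w := by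
      have h1 : (j : Matrix (Fin r) (Fin r) F) *ᵥ (d + w) = -(d + w) := hj ▸ D.plane_right _ _ hcdw
      rw [mulVec_add, hjw] at h1
      linear_combination (norm := module) h1
    have hjp : (j : Matrix (Fin r) (Fin r) F) *ᵥ p = p + (2 : F) • c := by
      rw [hj, D.plane_mulVec, D.s1.bilinear.add_right, hpd, hpw', hpc]
      module
    obtain ⟨B, hB⟩ : ∃ B, B = D.cob c (Λ w) := ⟨_, rfl⟩
    obtain ⟨A, hA⟩ : ∃ A, A = D.cob d (Λ w) := ⟨_, rfl⟩
    rw [← hB] at hBB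
    obtain ⟨α, hα⟩ : ∃ α, α = f₂ ((R' : Matrix (Fin s) (Fin s) F) *ᵥ m) m / ε := ⟨_, rfl⟩
    obtain ⟨n, hn⟩ : ∃ n, n = (R' : Matrix (Fin s) (Fin s) F) *ᵥ m - α • m := ⟨_, rfl⟩
    have hnm : f₂ n m = 0 := by
      rw [hn, Orth.sym_sub_left hg, hg.bilinear.smul_left, hα, ← hε, div_mul_cancel₀ _ hε0, sub_self]
    have hRm : (R' : Matrix (Fin s) (Fin s) F) *ᵥ m = α • m + n := by rw [hn]; abel
    have hRn : (R' : Matrix (Fin s) (Fin s) F) *ᵥ n = (1 - α * α) • m - α • n := by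
      conv_lhs => rw [hn, mulVec_sub, mulVec_smul, hRR, hRm]
      module
    have hBm : f₂ B m = 0 := by rw [hB, hXm, hwc]
    obtain ⟨κ, hκ⟩ : ∃ κ, κ = f₂ B n := ⟨_, rfl⟩
    obtain ⟨τ, hτ⟩ : ∃ τ, τ = f₂ A n := ⟨_, rfl⟩
    -- the image in the graph
    obtain ⟨l, hl⟩ : ∃ l, l = (Z' : Matrix ι ι F) *ᵥ Λ w := ⟨_, rfl⟩
    have hlΛ : l = (α + 2 * κ) • Λ w - τ • Λ c + κ • Λ d := by
      rw [hrep l (by rw [hl, hxZ', hxΛ, mulVec_neg])]
      conv_lhs => rw [hl, hZ', D.Z_cod, ← hR', hRm, D.cod_add_left, D.cod_smul_left, hΛ, hcodw n w hnm hwc hwd,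
        ← hA, ← hB, ← hκ, ← hτ, ← hj, mulVec_add, mulVec_smul, mulVec_sub, mulVec_smul, mulVec_smul, hjw, hjc, hjd]
      rw [show α • w + (τ • -c - κ • (-d - (2 : F) • w)) = (α + 2 * κ) • w - τ • c + κ • d by module,
        map_add, map_sub, map_smul, map_smul, map_smul]
    have eB : (R' : Matrix (Fin s) (Fin s) F) *ᵥ B = (κ / ε) • m - (α + 2 * κ) • B := by
      have h1 := congrArg (D.cob c) hlΛ
      rw [hl, hZ', D.Z_cob, ← hR', ← hj, hjc, ← neg_one_smul F c, D.cob_smul_left, mulVec_smul, neg_one_smul] at h1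
      rw [map_add, map_sub, map_smul, map_smul, map_smul, ← hB, hcc, hcd', smul_zero, sub_zero] at h1
      rw [← neg_neg ((R' : Matrix (Fin s) (Fin s) F) *ᵥ B), h1]
      module
    have hκ0 : κ = 0 := by
      have h1 : f₂ ((R' : Matrix (Fin s) (Fin s) F) *ᵥ B) n = -α * κ := by
        rw [hRs, hRn, Orth.sym_sub_right hg, hg.bilinear.smul_right, hg.bilinear.smul_right, hBm, ← hκ]
        ring
      rw [eB, Orth.sym_sub_left hg, hg.bilinear.smul_left, hg.bilinear.smul_left, hg.symm m n, hnm, ← hκ] at h1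
      have h3 : (2 : F) * (κ * κ) = 0 := by linear_combination -h1
      exact mul_self_eq_zero.1 ((mul_eq_zero.1 h3).resolve_left h2)
    rw [hκ0, zero_div, zero_smul, mul_zero, add_zero, zero_sub] at eB
    have hB1 : (1 - α * α) • B = 0 := by
      have h1 := hRR B
      rw [eB, mulVec_neg, mulVec_smul, eB] at h1
      linear_combination (norm := module) -h1
    have hαα : α * α = 1 := by
      by_contra hne
      rw [(smul_eq_zero.1 hB1).resolve_left (sub_ne_zero.2 (Ne.symm hne)), Orth.sym_zero_left hg] at hBB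
      exact hBB rfl
    have eA : (R' : Matrix (Fin s) (Fin s) F) *ᵥ A = (τ / ε) • m - α • A := by
      have h1 := congrArg (D.cob d) hlΛ
      rw [hκ0, zero_smul, mul_zero, add_zero, add_zero, hl, hZ', D.Z_cob, ← hR', ← hj, hjd, sub_eq_add_neg,
        D.cob_add_left, ← neg_one_smul F d, ← neg_smul, D.cob_smul_left, D.cob_smul_left, hpw w w hwc hwd hwc hwd,
        D.s1.alternating, zero_div, zero_smul, smul_zero, add_zero, mulVec_smul, neg_one_smul] at h1
      rw [map_sub, map_smul, map_smul, ← hA, hdcΛ] at h1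
      rw [← neg_neg ((R' : Matrix (Fin s) (Fin s) F) *ᵥ A), h1]
      module
    have hτ0 : τ = 0 := by
      have h1 := hRR A
      rw [eA, mulVec_sub, mulVec_smul, mulVec_smul, eA, hRm] at h1
      have h3 : (τ / ε) • n = 0 := by
        linear_combination (norm := module) h1 - hαα • A
      rcases smul_eq_zero.1 h3 with h | h
      · exact (div_eq_zero_iff.1 h).resolve_right hε0
      · rw [hτ, h, Orth.sym_zero_right hg]
    rw [hκ0, hτ0, zero_smul, zero_smul, mul_zero, add_zero, sub_zero, add_zero] at hlΛ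
    have e3 : (2 : F) • B = (α / ε) • n := by
      have h1 := congrArg (D.cob p) hlΛ
      rw [map_smul, hl, hZ', D.Z_cob, ← hR', ← hj, hjp, D.cob_add_left, D.cob_smul_left, ← hB,
        hpw p w hpc hpd hwc hwd, D.s1.skew w p, hpw', neg_neg] at h1
      have h3 := congrArg (fun y => (R' : Matrix (Fin s) (Fin s) F) *ᵥ y) h1
      simp only [hRR, mulVec_smul, hRm] at h3
      linear_combination (norm := module) h3 + (1 / ε) • hαα • m
    refine absurd ?_ hBB
    have hnn : f₂ n n = 0 := by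
      rw [hn]
      simp only [Orth.sym_sub_left hg, Orth.sym_sub_right hg, hg.bilinear.smul_left, hg.bilinear.smul_right, hRs,
        hRR, ← hε]
      rw [show f₂ m ((R' : Matrix (Fin s) (Fin s) F) *ᵥ m) = α * ε by
        rw [hg.symm, hα, div_mul_cancel₀ _ hε0]]
      linear_combination -ε * hαα
    have h4 := congrArg (fun y => f₂ y y) e3
    simp only [hg.bilinear.smul_left, hg.bilinear.smul_right, hnn, mul_zero] at h4
    exact (mul_eq_zero.1 ((mul_eq_zero.1 h4).resolve_left h2)).resolve_left h2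
  -- the singular parts are orthogonal
  have hpol : ∀ w w', f₁ w c = 0 → f₁ w d = 0 → f₁ w' c = 0 → f₁ w' d = 0 →
      f₂ (D.cob c (Λ w)) (D.cob c (Λ w')) = 0 := by
    intro w w' h1 h3 h4 h5
    have h := hall (w + w') (by rw [D.s1.bilinear.add_left, h1, h4, add_zero])
      (by rw [D.s1.bilinear.add_left, h3, h5, add_zero])
    rw [map_add, map_add, hg.bilinear.add_left, hg.bilinear.add_right, hg.bilinear.add_right, hall w h1 h3,
      hall w' h4 h5, hg.symm (D.cob c (Λ w')) (D.cob c (Λ w))] at h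
    exact (mul_eq_zero.1 (show (2 : F) * f₂ (D.cob c (Λ w)) (D.cob c (Λ w')) = 0 by
      linear_combination h)).resolve_left h2
  have hdec : ∀ u, ∃ w, f₁ w c = 0 ∧ f₁ w d = 0 ∧ u = f₁ u d • c - f₁ u c • d + w := fun u =>
    ⟨u - (f₁ u d • c - f₁ u c • d),
      by simp [Symp.sub_left D.s1, D.s1.bilinear.smul_left, D.s1.alternating, hdc],
      by simp [Symp.sub_left D.s1, D.s1.bilinear.smul_left, D.s1.alternating, hcd], by abel⟩
  have hΛcw : ∀ w, f₁ w c = 0 → f₁ w d = 0 → f (Λ c) (Λ w) = 0 := by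
    intro w h1 h3
    have hZM : Z ∈ M := hZ ▸ D.kg_mem_M (μ := 1) (ν := 1) (one_mul 1)
      (fun a b => by rw [Symp.mem_isoSub.1 (D.plane_iso c d hcd), one_mul]) fun y y' => by rw [refl_iso hg m hm, one_mul]
    have h := Symp.mem_isoSub.1 (D.le hZM) (Λ c) (Λ w)
    rw [hZΛ, hZΛ, D.plane_left, D.plane_perp c d hcd h1 h3, map_neg, neg_neg, Symp.neg_right hf] at h
    exact (mul_eq_zero.1 (show (2 : F) * f (Λ c) (Λ w) = 0 by linear_combination -h)).resolve_left h2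
  have hΛcd : f (Λ c) (Λ d) ≠ 0 := fun h => by
    have h0 := hnd (Λ c) (hxΛ c) fun u => by
      obtain ⟨w, h1, h3, hu⟩ := hdec u
      rw [hu, map_add, map_sub, map_smul, map_smul, hf.bilinear.add_right, Symp.sub_right hf, hf.bilinear.smul_right,
        hf.bilinear.smul_right, hf.alternating, h, hΛcw w h1 h3]
      ring
    exact hc0 (by rw [← hΛ c, h0, map_zero])
  -- displacement of `c ⊗ W`
  have hΦ : ∀ η, ∃ w, f₁ w c = 0 ∧ f₁ w d = 0 ∧ D.cob c ((x : Matrix ι ι F) *ᵥ T c η) = -D.cob c (Λ w) := by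
    intro η
    obtain ⟨v, hv⟩ : ∃ v, v = T c η - (x : Matrix ι ι F) *ᵥ T c η := ⟨_, rfl⟩
    have hxv : (x : Matrix ι ι F) *ᵥ v = -v := by rw [hv, mulVec_sub, hxx]; abel
    have h0 : f (Λ c) v = 0 := by
      rw [hv, Symp.sub_right hf, ← hxiso, hxΛ, ← neg_one_smul F (Λ c), hf.bilinear.smul_left, D.pol_cob, hcc,
        Orth.sym_zero_left hg]
      ring
    obtain ⟨w, h1, h3, hu⟩ := hdec (D.cod m v)
    have hγ : f₁ (D.cod m v) c = 0 := by
      rw [hrep v hxv, hu, map_add, map_sub, map_smul, map_smul, hf.bilinear.add_right, Symp.sub_right hf,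
        hf.bilinear.smul_right, hf.bilinear.smul_right, hf.alternating, hΛcw w h1 h3] at h0
      exact (mul_eq_zero.1 (show f₁ (D.cod m v) c * f (Λ c) (Λ d) = 0 by linear_combination -h0)).resolve_right hΛcd
    refine ⟨w, h1, h3, ?_⟩
    have h4 : D.cob c v = D.cob c (Λ w) := by
      rw [hrep v hxv, hu, hγ, zero_smul, sub_zero, map_add, map_smul, map_add, map_smul, hcc, smul_zero, zero_add]
    rw [← h4, hv, map_sub, D.cob_self, zero_sub, neg_neg]
  have hfixB : ∀ w, f₁ w c = 0 → f₁ w d = 0 →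
      (x : Matrix ι ι F) *ᵥ T c (D.cob c (Λ w)) = T c (D.cob c (Λ w)) := by
    intro w h1 h3
    refine (sub_eq_zero.1 (hnd (T c (D.cob c (Λ w)) - (x : Matrix ι ι F) *ᵥ T c (D.cob c (Λ w)))
      (by rw [mulVec_sub, hxx]; abel) fun u => ?_)).symm
    obtain ⟨w', h4, h5, hu⟩ := hdec u
    rw [Symp.sub_left hf, hxiso, hxΛ, Symp.neg_right hf, hf.skew (T c _), D.pol_cob, hu, map_add, map_sub, map_smul,
      map_smul, map_add, map_sub, map_smul, map_smul, hcc, hcd', hg.bilinear.add_left, Orth.sym_sub_left hg,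
      hg.bilinear.smul_left, hg.bilinear.smul_left, hg.bilinear.smul_left, Orth.sym_zero_left hg, hg.symm m,
      hXm, h1, hpol w' w h4 h5 h1 h3]
    ring
  -- the conjugated root preserves `c ⊗ W`
  have hxinv : x⁻¹ = x := inv_eq_of_mul_eq_one_right hx2
  refine D.weak_closure (by omega) hM hex hx hc0 (D.pure_rigid hM hex
    (mul_mem (mul_mem hx (D.root_mem c 1)) (inv_mem hx)) hc0 hc0 fun η => ?_)
  obtain ⟨w, h1, h3, hw⟩ := hΦ η
  refine ⟨η - D.cob c (Λ w), ?_⟩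
  rw [hxinv, gl_mul_mulVec, gl_mul_mulVec, D.root_mulVec, one_smul, mulVec_add, hxx, hw, tvec_neg_right, mulVec_neg,
    hfixB w h1 h3, tvec_sub_right, sub_eq_add_neg]

end CfsgLib.Perm.Trans.TensorSO
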