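import Mathlib
import Cfsg.Agent.Lib.Perm.Trans.TensorSO.Endgame

/-!
# Overgroups with a symplectic factor of dimension at least four
-/

set_option autoImplicit false
set_option linter.all false

namespace CfsgLib.Perm.Trans.TensorSO

open scoped Matrix Kronecker
open Matrix Cfsg.Geo CfsgLib.Perm.Asch CfsgLib.Perm.Trans CfsgLib.Perm.Trans.TensorFrame
open CfsgLib.Perm.Trans.TensorMax

variable {ι : Type} [Fintype ι] [DecidableEq ι] {F : Type*} [Field F] [Fintype F] {r s : ℕ}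
variable {e : ι ≃ Fin r × Fin s} {P : GL ι F}
variable {f : (ι → F) → (ι → F) → F} {f₁ : (Fin r → F) → (Fin r → F) → F} {f₂ : (Fin s → F) → (Fin s → F) → F}
variable {k : F} {M : Subgroup (GL ι F)}

local notation "T" => tvec e P

theorem pow_mulVec_eigen {u : GL ι F} {v : ι → F} {t : F} (h : (u : Matrix ι ι F) *ᵥ v = t • v) (n : ℕ) :
    ((u ^ n : GL ι F) : Matrix ι ι F) *ᵥ v = t ^ n • v := by
  induction n with
  | zero => simp
  | succ n ih => rw [pow_succ, gl_mul_mulVec, h, mulVec_smul, ih, smul_smul, pow_succ, mul_comm]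

variable (D : SO f f₁ f₂ e P k M)
include D

theorem SO.R_neg (d : Fin s → F) (hd : f₂ d d ≠ 0) (x : Fin r → F) :
    (D.R d hd : Matrix ι ι F) *ᵥ T x d = -T x d := by
  rw [SO.R, kg_tvec, D.refl_self, Units.val_one, one_mulVec, tvec_neg_right]

theorem SO.R_ne_one (d : Fin s → F) (hd : f₂ d d ≠ 0) : D.R d hd ≠ 1 := fun h => by
  obtain ⟨a, ha⟩ : ∃ a : Fin r → F, a ≠ 0 := ⟨Pi.single ⟨0, D.rpos⟩ 1, by simp⟩
  have h1 := D.R_neg d hd a
  rw [h, Units.val_one, one_mulVec] at h1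
  have h2 : (2 : F) • T a d = 0 := by rw [two_smul]; nth_rw 1 [h1]; exact neg_add_cancel _
  exact tvec_ne_zero ha (fun h0 => hd (by rw [h0, Orth.sym_zero_left D.s2]))
    ((smul_eq_zero.1 h2).resolve_left D.two)

theorem SO.R_sq (d : Fin s → F) (hd : f₂ d d ≠ 0) : D.R d hd * D.R d hd = 1 :=
  gl_ext_tvec (e := e) (P := P) fun x y => by
    rw [gl_mul_mulVec, SO.R, kg_tvec, kg_tvec, Units.val_one, one_mulVec, one_mulVec, D.refl_refl]
    rw [Units.val_one, one_mulVec]

theorem SO.R_neg_pure (d : Fin s → F) (hd : f₂ d d ≠ 0) {v : ι → F}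
    (hv : (D.R d hd : Matrix ι ι F) *ᵥ v = -v) : ∃ x, v = T x d := by
  rw [D.R_mulVec] at hv
  refine ⟨(2 : F)⁻¹ • (2 / f₂ d d) • D.cod d v, ?_⟩
  rw [tvec_smul_left (2 : F)⁻¹]
  have h : T ((2 / f₂ d d) • D.cod d v) d = (2 : F) • v := by
    linear_combination (norm := module) -hv
  rw [h, smul_smul, inv_mul_cancel₀ D.two, one_smul]

/-- the negative space of a conjugate of a reflection -/
theorem SO.neg_le (d : Fin s → F) (hd : f₂ d d ≠ 0) (g : GL ι F) :
    Module.finrank F (LinearMap.ker (Matrix.mulVecLin ((g * D.R d hd * g⁻¹ : GL ι F) : Matrix ι ι F) +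
      LinearMap.id)) ≤ r := by
  have h : LinearMap.ker (Matrix.mulVecLin ((g * D.R d hd * g⁻¹ : GL ι F) : Matrix ι ι F) + LinearMap.id) ≤
      LinearMap.range ((Matrix.mulVecLin (g : Matrix ι ι F)).comp (tR e P d)) := fun v hv => by
    have hv' : ((g * D.R d hd * g⁻¹ : GL ι F) : Matrix ι ι F) *ᵥ v = -v := eq_neg_of_add_eq_zero_left hv
    rw [gl_mul_mulVec, gl_mul_mulVec] at hv'
    obtain ⟨x, hx⟩ := D.R_neg_pure d hd (v := ((g⁻¹ : GL ι F) : Matrix ι ι F) *ᵥ v) (by
      rw [← gl_inv_mulVec g ((D.R d hd : Matrix ι ι F) *ᵥ (((g⁻¹ : GL ι F) : Matrix ι ι F) *ᵥ v)), hv', mulVec_neg])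
    exact ⟨x, show (g : Matrix ι ι F) *ᵥ T x d = v by rw [← hx, gl_mulVec_inv]⟩
  have h1 := Submodule.finrank_mono h
  have h2 := LinearMap.finrank_range_le ((Matrix.mulVecLin (g : Matrix ι ι F)).comp (tR e P d))
  simp at h1 h2 ⊢
  omega

theorem SO.left_mulVec_plane (c d : Fin r → F) (hcd : f₁ c d = 1) (v : ι → F) :
    (kg e P (D.plane c d hcd) (1 : GL (Fin s) F) : Matrix ι ι F) *ᵥ v =
      v - (2 : F) • (T c (D.cob d v) - T d (D.cob c v)) := by
  have h : Matrix.mulVecLin (kg e P (D.plane c d hcd) (1 : GL (Fin s) F) : Matrix ι ι F) =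
      LinearMap.id - (2 : F) • ((tL e P c).comp (D.cob d) - (tL e P d).comp (D.cob c)) :=
    lin_ext (e := e) (P := P) fun x y => by
      show (kg e P (D.plane c d hcd) (1 : GL (Fin s) F) : Matrix ι ι F) *ᵥ T x y =
        T x y - (2 : F) • (T c (D.cob d (T x y)) - T d (D.cob c (T x y)))
      rw [kg_tvec, Units.val_one, one_mulVec, D.plane_mulVec, D.cob_tvec, D.cob_tvec, tvec_smul_right,
        tvec_smul_right, tvec_sub_left, tvec_smul_left, tvec_sub_left, tvec_smul_left, tvec_smul_left]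
  exact LinearMap.congr_fun h v

/-- conjugates of reflections lie in the tensor product subgroup -/
theorem SO.refl_conj_tensor (hr : 4 ≤ r) (hrs : r < 2 * s) (hM : ¬ Symp.isoSub f ≤ M)
    (hex : 4 ≤ s ∨ ∃ t : F, t ≠ 0 ∧ t * t ≠ 1) {g : GL ι F} (hg : g ∈ M) {a : Fin s → F} (ha : f₂ a a ≠ 0) :
    g * D.R a ha * g⁻¹ ∈ tensorProductSubgroup r s e P := by
  obtain ⟨x, hx⟩ : ∃ x, x = g * D.R a ha * g⁻¹ := ⟨_, rfl⟩
  rw [← hx]
  have hxM : x ∈ M := hx ▸ mul_mem (mul_mem hg (D.R_mem a ha)) (inv_mem hg)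
  have hx2 : x * x = 1 := by
    rw [hx, show g * D.R a ha * g⁻¹ * (g * D.R a ha * g⁻¹) = g * (D.R a ha * D.R a ha) * g⁻¹ by group, D.R_sq,
      mul_one, mul_inv_cancel]
  have hxv : ∀ v, (x : Matrix ι ι F) *ᵥ v = v - (g : Matrix ι ι F) *ᵥ
      T ((2 / f₂ a a) • D.cod a (((g⁻¹ : GL ι F) : Matrix ι ι F) *ᵥ v)) a := fun v => by
    rw [hx, gl_mul_mulVec, gl_mul_mulVec, D.R_mulVec, mulVec_sub, gl_mulVec_inv]
  refine D.endgame hr hM hex hxM hx2 (Γ := (Matrix.mulVecLin (g : Matrix ι ι F)).comp (tR e P a)) ?_ ?_ ?_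
  · refine (injective_iff_map_eq_zero _).2 fun u hu => ?_
    exact tvec_left_inj (fun h => ha (by rw [h, Orth.sym_zero_left D.s2]))
      ((gl_mulVec_eq_zero.1 hu).trans (tvec_zero_left a).symm)
  · intro u
    show (x : Matrix ι ι F) *ᵥ ((g : Matrix ι ι F) *ᵥ T u a) = -((g : Matrix ι ι F) *ᵥ T u a)
    rw [hx, gl_mul_mulVec, gl_mul_mulVec, gl_inv_mulVec, D.R_neg, mulVec_neg]
  intro c d hcd
  obtain ⟨y, hy⟩ : ∃ y, y = kg e P (D.plane c d hcd) (1 : GL (Fin s) F) := ⟨_, rfl⟩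
  have hyM : y ∈ M := hy ▸ D.kg_left_mem (D.plane_iso c d hcd)
  have hyT : y ∈ tensorProductSubgroup r s e P := hy ▸ kg_mem _ _
  have hy2 : y * y = 1 := gl_ext_tvec (e := e) (P := P) fun b w => by
    rw [gl_mul_mulVec, hy, kg_tvec, kg_tvec, Units.val_one, one_mulVec, one_mulVec, D.plane_sq]
    rw [Units.val_one, one_mulVec]
  have hcl : Subgroup.closure ({x, y} : Set (GL ι F)) ≤ M :=
    (Subgroup.closure_le _).2 (Set.insert_subset hxM (Set.singleton_subset_iff.2 hyM))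
  have hc0 : c ≠ 0 := fun h => by rw [h, Symp.zero_left D.s1] at hcd; exact zero_ne_one hcd
  have hd0 : d ≠ 0 := fun h => by rw [h, Symp.zero_right D.s1] at hcd; exact zero_ne_one hcd
  have hmove : (D.plane c d hcd : Matrix (Fin r) (Fin r) F) *ᵥ c ≠ c := by
    rw [D.plane_left]
    intro h0
    have : (2 : F) • c = 0 := by rw [two_smul]; nth_rw 1 [← h0]; exact neg_add_cancel c
    exact hc0 ((smul_eq_zero.1 this).resolve_left D.two)
  obtain ⟨w, hw0, hwc, hwd⟩ : ∃ w : Fin r → F, w ≠ 0 ∧ f₁ w c = 0 ∧ f₁ w d = 0 := by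
    obtain ⟨w, hw, hw0⟩ := Submodule.exists_mem_ne_zero_of_ne_bot
      (LinearMap.ker_ne_bot_of_finrank_lt (f := (Symp.sfun D.s1 c).prod (Symp.sfun D.s1 d)) (by simp; omega))
    exact ⟨w, hw0, congrArg Prod.fst hw, congrArg Prod.snd hw⟩
  rcases invol_pair hx2 hy2 with ⟨h, hh, hconj⟩ | ⟨n, hn1, hnn, hnx, hny, hcase⟩
  · -- the two classes differ
    exfalso
    let Φ : (Fin s → F) × (Fin s → F) →ₗ[F] (ι → F) :=
      (Matrix.mulVecLin (h : Matrix ι ι F)).comp ((tL e P c).coprod (tL e P d))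
    have hinj : Function.Injective Φ := (injective_iff_map_eq_zero Φ).2 fun p hp => by
      have hp' : T c p.1 + T d p.2 = 0 := (gl_mulVec_eq_zero (g := h)).1 hp
      have e1 := congrArg (D.cob d) hp'
      have e2 := congrArg (D.cob c) hp'
      rw [map_add, map_zero, D.cob_tvec, D.cob_self, hcd, one_smul, add_zero] at e1
      rw [map_add, map_zero, D.cob_tvec c d, D.cob_self, D.s1.skew d c, hcd, zero_add, neg_one_smul, neg_eq_zero] at e2
      exact Prod.ext e1 e2
    have hrange : LinearMap.range Φ ≤ LinearMap.ker (Matrix.mulVecLin (x : Matrix ι ι F) + LinearMap.id) := by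
      rintro _ ⟨p, rfl⟩
      show (x : Matrix ι ι F) *ᵥ ((h : Matrix ι ι F) *ᵥ (T c p.1 + T d p.2)) +
        (h : Matrix ι ι F) *ᵥ (T c p.1 + T d p.2) = 0
      rw [hconj, gl_mul_mulVec, gl_mul_mulVec, gl_inv_mulVec, hy, mulVec_add (kg e P _ _ : Matrix ι ι F), kg_tvec,
        kg_tvec, Units.val_one, one_mulVec, one_mulVec, D.plane_left, D.plane_right, tvec_neg_left, tvec_neg_left,
        ← neg_add, mulVec_neg, neg_add_cancel]
    have h1 := Submodule.finrank_mono hrange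
    rw [LinearMap.finrank_range_of_inj hinj] at h1
    have h3 := D.neg_le a ha g
    rw [← hx] at h3
    simp at h1 h3
    omega
  obtain ⟨z, hz⟩ : ∃ z, z = (x * y) ^ n := ⟨_, rfl⟩
  rw [← hz] at hn1 hnn hnx hny hcase
  have hzM : z ∈ M := hz ▸ pow_mem (mul_mem hxM hyM) n
  have hzT : z ∈ tensorProductSubgroup r s e P :=
    D.centralizer_left (by omega) hM hex (D.plane_iso c d hcd) hw0 (D.plane_perp c d hcd hwc hwd) (u := c) hmove hzM
      (hy ▸ hny)
  rcases hcase with ⟨-, h, hh, hconj⟩ | ⟨hodd, h, hh, hconj⟩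
  · left
    obtain ⟨A, hA, hAe⟩ := D.plane_conj_left hr hM hex hcd (hcl hh) (h := h)
      (hy ▸ hconj ▸ mul_mem hzT hyT)
    rw [← hy, ← hconj] at hAe
    have hze : z = kg e P (A * D.plane c d hcd) (1 : GL (Fin s) F) := gl_ext_tvec (e := e) (P := P) fun b u => by
      rw [show z = z * y * y by rw [mul_assoc, hy2, mul_one], hAe, gl_mul_mulVec, hy, kg_tvec, kg_tvec, kg_tvec,
        Units.val_one, one_mulVec, one_mulVec, gl_mul_mulVec]
    obtain ⟨A0, hA0⟩ : ∃ A0, A0 = A * D.plane c d hcd := ⟨_, rfl⟩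
    rw [← hA0] at hze
    have hA0iso : A0 ∈ Symp.isoSub f₁ := hA0 ▸ mul_mem hA (D.plane_iso c d hcd)
    -- a common fixed vector
    obtain ⟨v, hv0, hzv⟩ : ∃ v, v ≠ 0 ∧ (z : Matrix ι ι F) *ᵥ v = v := by
      obtain ⟨v, hv, hv0⟩ := Submodule.exists_mem_ne_zero_of_ne_bot
        (LinearMap.ker_ne_bot_of_finrank_lt (f := ((D.cob c).prod (D.cob d)).prod
          ((D.cod a).comp (Matrix.mulVecLin ((g⁻¹ : GL ι F) : Matrix ι ι F)))) (by
            have hc := Fintype.card_congr e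
            simp at hc ⊢
            rw [hc]
            nlinarith))
      have e1 : D.cob c v = 0 := congrArg (fun p => p.1.1) hv
      have e2 : D.cob d v = 0 := congrArg (fun p => p.1.2) hv
      have e3 : D.cod a (((g⁻¹ : GL ι F) : Matrix ι ι F) *ᵥ v) = 0 := congrArg Prod.snd hv
      refine ⟨v, hv0, ?_⟩
      rw [hz, pow_mulVec_eigen (t := 1) ?_ n, one_pow, one_smul]
      rw [gl_mul_mulVec, hy, D.left_mulVec_plane, e1, e2, tvec_zero_right, tvec_zero_right, sub_zero, smul_zero,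
        sub_zero, hxv, e3, smul_zero, tvec_zero_left, mulVec_zero, sub_zero, one_smul]
    have hAA : ∀ b, (A0 : Matrix (Fin r) (Fin r) F) *ᵥ ((A0 : Matrix (Fin r) (Fin r) F) *ᵥ b) = b := fun b => by
      obtain ⟨u, u', hu⟩ : ∃ u u' : Fin s → F, f₂ u u' = 1 := D.exists_unit_pair
      have h1 : ((z * z : GL ι F) : Matrix ι ι F) *ᵥ T b u = T b u := by rw [hnn, Units.val_one, one_mulVec]
      rw [gl_mul_mulVec, hze, kg_tvec, kg_tvec, Units.val_one, one_mulVec, one_mulVec] at h1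
      exact tvec_left_inj (fun h0 => by rw [h0, Orth.sym_zero_left D.s2] at hu; exact zero_ne_one hu) h1
    obtain ⟨b, hb⟩ : ∃ b, b + (A0 : Matrix (Fin r) (Fin r) F) *ᵥ b ≠ 0 := by
      by_contra hcon
      push Not at hcon
      have hneg : Matrix.mulVecLin (z : Matrix ι ι F) = -LinearMap.id := lin_ext (e := e) (P := P) fun b u => by
        show (z : Matrix ι ι F) *ᵥ T b u = -T b u
        rw [hze, kg_tvec, Units.val_one, one_mulVec, ← tvec_neg_left]
        exact congrArg (fun q => T q u) (eq_neg_of_add_eq_zero_right (hcon b))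
      have h1 := LinearMap.congr_fun hneg v
      rw [Matrix.mulVecLin_apply, hzv, LinearMap.neg_apply, LinearMap.id_apply] at h1
      have h2 : (2 : F) • v = 0 := by rw [two_smul]; nth_rw 1 [h1]; exact neg_add_cancel v
      exact hv0 ((smul_eq_zero.1 h2).resolve_left D.two)
    obtain ⟨b', hb'⟩ : ∃ b', (A0 : Matrix (Fin r) (Fin r) F) *ᵥ b' ≠ b' := by
      by_contra hcon
      push Not at hcon
      refine hn1 (gl_ext_tvec (e := e) (P := P) fun b u => ?_)
      rw [hze, kg_tvec, hcon, Units.val_one, one_mulVec, Units.val_one, one_mulVec]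
    exact D.centralizer_left (by omega) hM hex hA0iso hb (by rw [mulVec_add, hAA, add_comm]) hb' hxM
      (by rw [← hze, hnx])
  · right
    have hzy : z * y ∈ tensorProductSubgroup r s e P := mul_mem hzT hyT
    have e0 : z * y = (h * g) * D.R a ha * (h * g)⁻¹ := by rw [hconj, hx]; group
    obtain ⟨m, hm, hzR⟩ := D.tensor_invol_refl hr hrs (mul_mem hzM hyM) hzy
      (by rw [hconj, show h * x * h⁻¹ * (h * x * h⁻¹) = h * (x * x) * h⁻¹ by group, hx2, mul_one, mul_inv_cancel])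
      (fun h1 => D.R_ne_one a ha (by
        rw [e0] at h1
        calc D.R a ha = (h * g)⁻¹ * (h * g * D.R a ha * (h * g)⁻¹) * (h * g) := by group
          _ = 1 := by rw [h1]; group))
      (by rw [e0]; exact D.neg_le a ha (h * g))
    have hzZ : z = D.Z c d hcd m hm := gl_ext_tvec (e := e) (P := P) fun b u => by
      rw [show z = z * y * y by rw [mul_assoc, hy2, mul_one], hzR, gl_mul_mulVec, hy, SO.R, SO.Z, kg_tvec, kg_tvec,
        kg_tvec, Units.val_one, one_mulVec, Units.val_one, one_mulVec]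
    refine ⟨m, hm, fun v => ?_, fun v hv => ⟨fun hyv => ?_, fun hyv => ?_⟩⟩
    · rw [← hzZ, ← gl_mul_mulVec, ← gl_mul_mulVec, hnx]
    · rw [← hzZ, hz, pow_mulVec_eigen (t := -1) ?_ n, hodd.neg_one_pow, neg_one_smul]
      rw [gl_mul_mulVec, hy, hyv, hv, neg_one_smul]
    · rw [← hzZ, hz, pow_mulVec_eigen (t := 1) ?_ n, one_pow, one_smul]
      rw [gl_mul_mulVec, hy, hyv, mulVec_neg, hv, neg_neg, one_smul]

/-- elements mapping anisotropic pure subspaces to pure subspaces -/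
theorem SO.frame_tensor {g : GL ι F} (hg : g ∈ M)
    (h : ∀ d, f₂ d d ≠ 0 → ∃ m, f₂ m m ≠ 0 ∧ ∀ x, ∃ x', (g : Matrix ι ι F) *ᵥ T x d = T x' m) :
    g ∈ tensorProductSubgroup r s e P := by
  classical
  have h2 := D.two
  have hg₂ := D.s2
  let B : LinearMap.BilinForm F (Fin s → F) :=
    LinearMap.mk₂ F f₂ hg₂.bilinear.add_left hg₂.bilinear.smul_left hg₂.bilinear.add_right hg₂.bilinear.smul_right
  have hB : B.Nondegenerate :=
    ⟨fun x hx => sym_eq_zero hg₂ hx, fun x hx => sym_eq_zero hg₂ fun y => by rw [hg₂.symm]; exact hx y⟩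
  obtain ⟨v, ho, hne⟩ := CfsgLib.Classical.exists_orthogonal_anisotropic h2 B ⟨fun x y => hg₂.symm x y⟩ hB
    (n := s) (by simp)
  have ho' : ∀ i j, i ≠ j → f₂ (v i) (v j) = 0 := ho
  have hne' : ∀ i, f₂ (v i) (v i) ≠ 0 := hne
  choose m hm hmap using fun i => h (v i) (hne' i)
  let C : Fin s → (Fin r → F) →ₗ[F] (Fin r → F) := fun i =>
    (f₂ (m i) (m i))⁻¹ • (D.cod (m i)).comp ((Matrix.mulVecLin (g : Matrix ι ι F)).comp (tR e P (v i)))
  have hC : ∀ i x, (g : Matrix ι ι F) *ᵥ T x (v i) = T (C i x) (m i) := fun i x => by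
    obtain ⟨x', hx'⟩ := hmap i x
    rw [hx', show C i x = (f₂ (m i) (m i))⁻¹ • D.cod (m i) ((g : Matrix ι ι F) *ᵥ T x (v i)) from rfl, hx',
      D.cod_tvec, smul_smul, inv_mul_cancel₀ (hm i), one_smul]
  have hCsurj : ∀ i, Function.Surjective (C i) := fun i =>
    LinearMap.surjective_of_injective ((injective_iff_map_eq_zero (C i)).2 fun x hx => by
      have h1 := hC i x
      rw [hx, tvec_zero_left, gl_mulVec_eq_zero] at h1
      exact tvec_left_inj (fun h0 => hne' i (by rw [h0, Orth.sym_zero_left hg₂])) (h1.trans (tvec_zero_left _).symm))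
  obtain ⟨a, ha⟩ : ∃ a : Fin r → F, a ≠ 0 := ⟨Pi.single ⟨0, D.rpos⟩ 1, by simp⟩
  obtain ⟨p, hp⟩ := D.exists_partner ha
  have horth : ∀ i j, i ≠ j → f₂ (m i) (m j) = 0 := fun i j hij => by
    obtain ⟨x, hx⟩ := hCsurj i p
    obtain ⟨x', hx'⟩ := hCsurj j a
    have h1 := Symp.mem_isoSub.1 (D.le hg) (T x (v i)) (T x' (v j))
    rw [hC, hC, hx, hx', D.pol, D.pol, hp, ho' i j hij, mul_zero, mul_zero, one_mul] at h1
    exact (mul_eq_zero.1 h1).resolve_left D.kne
  -- the maps of the first factor are proportional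
  have cmp : ∀ (S : Finset (Fin s)), f₂ (∑ i ∈ S, v i) (∑ i ∈ S, v i) ≠ 0 → ∀ i ∈ S, ∀ j ∈ S,
      ∃ t : F, ∀ x, C i x = t • C j x := by
    intro S hS i hi j hj
    obtain ⟨m0, hm0, hmap0⟩ := h _ hS
    have key : ∀ i ∈ S, ∀ x, C i x = (f₂ m0 (m i) / f₂ (m i) (m i) / f₂ m0 m0) •
        D.cod m0 ((g : Matrix ι ι F) *ᵥ T x (∑ i ∈ S, v i)) := fun i hi x => by
      obtain ⟨x', hx'⟩ := hmap0 x
      have h1 : D.cod (m i) ((g : Matrix ι ι F) *ᵥ T x (∑ i ∈ S, v i)) = f₂ (m i) (m i) • C i x := by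
        rw [← tL_apply, map_sum, mulVec_sum, map_sum, Finset.sum_eq_single i]
        · rw [tL_apply, hC, D.cod_tvec]
        · intro j _ hji; rw [tL_apply, hC, D.cod_tvec, horth j i hji, zero_smul]
        · exact fun h => absurd hi h
      rw [hx', D.cod_tvec] at h1
      rw [hx', D.cod_tvec, smul_smul, div_mul_cancel₀ _ hm0, div_eq_inv_mul, ← smul_smul, h1, smul_smul,
        inv_mul_cancel₀ (hm i), one_smul]
    have hc0 : f₂ m0 (m j) / f₂ (m j) (m j) / f₂ m0 m0 ≠ 0 := fun h0 => by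
      obtain ⟨x, hx⟩ := hCsurj j a
      refine ha ?_
      rw [← hx, key j hj, h0, zero_smul]
    refine ⟨f₂ m0 (m i) / f₂ (m i) (m i) / f₂ m0 m0 / (f₂ m0 (m j) / f₂ (m j) (m j) / f₂ m0 m0), fun x => ?_⟩
    rw [key i hi, key j hj, smul_smul, div_mul_cancel₀ _ hc0]
  have hs := D.three
  let i0 : Fin s := ⟨0, by omega⟩
  have hall : ∀ i, ∃ t : F, ∀ x, C i x = t • C i0 x := by
    intro i
    rcases eq_or_ne i i0 with rfl | hij
    · exact ⟨1, fun x => (one_smul _ _).symm⟩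
    by_cases h1 : f₂ (v i) (v i) + f₂ (v i0) (v i0) = 0
    · obtain ⟨l, hli, hl0⟩ : ∃ l : Fin s, l ≠ i ∧ l ≠ i0 := by
        by_contra hc
        push Not at hc
        have h1 := Finset.card_le_card (show (Finset.univ : Finset (Fin s)) ⊆ {i, i0} from fun l _ => by
          simp only [Finset.mem_insert, Finset.mem_singleton]
          exact or_iff_not_imp_left.2 (hc l))
        rw [Finset.card_univ, Fintype.card_fin] at h1
        have := (Finset.card_insert_le i ({i0} : Finset (Fin s)))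
        rw [Finset.card_singleton] at this
        omega
      refine cmp {i, i0, l} ?_ i (by simp) i0 (by simp)
      rw [Finset.sum_insert (by simp [hij, hli.symm]), Finset.sum_insert (by simp [hl0.symm]), Finset.sum_singleton]
      simp [hg₂.bilinear.add_left, hg₂.bilinear.add_right, ho' i i0 hij, ho' i0 i hij.symm, ho' i l hli.symm,
        ho' l i hli, ho' i0 l hl0.symm, ho' l i0 hl0]
      rw [← add_assoc, h1, zero_add]
      exact hne' l
    · refine cmp {i, i0} ?_ i (by simp) i0 (by simp)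
      rw [Finset.sum_insert (by simp [hij]), Finset.sum_singleton]
      simpa [hg₂.bilinear.add_left, hg₂.bilinear.add_right, ho' i i0 hij, ho' i0 i hij.symm] using h1
  choose t ht using hall
  have hli : LinearIndependent F v := Fintype.linearIndependent_iff.2 fun c hsum i => by
    have h1 := congrArg (fun x => B x (v i)) hsum
    rw [map_sum, LinearMap.sum_apply, Finset.sum_eq_single i
      (fun j _ hj => by rw [map_smul, LinearMap.smul_apply, ho j i hj, smul_zero])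
      (fun h => absurd (Finset.mem_univ i) h), map_smul, LinearMap.smul_apply, map_zero, LinearMap.zero_apply,
      smul_eq_mul] at h1
    exact (mul_eq_zero.1 h1).resolve_right (hne i)
  haveI : Nonempty (Fin s) := ⟨i0⟩
  let bv : Module.Basis (Fin s) F (Fin s → F) := basisOfLinearIndependentOfCardEqFinrank hli (by simp)
  let L : (Fin s → F) →ₗ[F] (Fin s → F) := bv.constr F fun i => t i • m i
  have hL : ∀ i, L (v i) = t i • m i := fun i => by
    rw [show v i = bv i by simp [bv]]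
    exact bv.constr_basis F _ i
  have hgen : ∀ x y, (g : Matrix ι ι F) *ᵥ T x y = T (C i0 x) (L y) := fun x y => by
    have : (Matrix.mulVecLin (g : Matrix ι ι F)).comp (tL e P x) = (tL e P (C i0 x)).comp L :=
      bv.ext fun i => by
        show (g : Matrix ι ι F) *ᵥ T x (bv i) = T (C i0 x) (L (bv i))
        rw [show bv i = v i by simp [bv], hL, hC, ht, tvec_smul_left, tvec_smul_right]
    exact LinearMap.congr_fun this y
  have hCinj : Function.Injective (C i0) := LinearMap.injective_iff_surjective.2 (hCsurj i0)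
  have hLinj : Function.Injective L := (injective_iff_map_eq_zero L).2 fun y hy => by
    have h1 := hgen a y
    rw [hy, tvec_zero_right, gl_mulVec_eq_zero] at h1
    by_contra hy0
    exact tvec_ne_zero ha hy0 h1
  have hge : g = kg e P (glInj (C i0) hCinj) (glInj L hLinj) := gl_ext_tvec (e := e) (P := P) fun x y => by
    rw [kg_tvec, glInj_mulVec, glInj_mulVec, hgen]
  exact hge ▸ kg_mem _ _

/-- the case of a small first factor -/
theorem SO.le_tensor_small (hr : 4 ≤ r) (hrs : r < 2 * s) (hM : ¬ Symp.isoSub f ≤ M)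
    (hex : 4 ≤ s ∨ ∃ t : F, t ≠ 0 ∧ t * t ≠ 1) : M ≤ tensorProductSubgroup r s e P := by
  intro g hg
  refine D.frame_tensor hg fun d hd => ?_
  have hT := D.refl_conj_tensor hr hrs hM hex hg hd
  have hM' : g * D.R d hd * g⁻¹ ∈ M := mul_mem (mul_mem hg (D.R_mem d hd)) (inv_mem hg)
  obtain ⟨m, hm, hR⟩ := D.tensor_invol_refl hr hrs hM' hT
    (by rw [show g * D.R d hd * g⁻¹ * (g * D.R d hd * g⁻¹) = g * (D.R d hd * D.R d hd) * g⁻¹ by group, D.R_sq,
      mul_one, mul_inv_cancel])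
    (fun h1 => D.R_ne_one d hd (by
      calc D.R d hd = g⁻¹ * (g * D.R d hd * g⁻¹) * g := by group
        _ = 1 := by rw [h1]; group))
    (D.neg_le d hd g)
  refine ⟨m, hm, fun x => ?_⟩
  refine D.R_neg_pure m hm (v := (g : Matrix ι ι F) *ᵥ T x d) ?_
  rw [← hR, gl_mul_mulVec, gl_mul_mulVec, gl_inv_mulVec, D.R_neg, mulVec_neg]

/-- the case of a large first factor, by the descent -/
theorem SO.le_tensor_large (hrs : s + 2 ≤ r) (hM : ¬ Symp.isoSub f ≤ M)
    (hex : 4 ≤ s ∨ ∃ t : F, t ≠ 0 ∧ t * t ≠ 1) : M ≤ tensorProductSubgroup r s e P := by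
  obtain ⟨e', he'⟩ : ∃ e' : ι ≃ Fin s × Fin r, e' = e.trans (Equiv.prodComm _ _) := ⟨_, rfl⟩
  have hts : ∀ (y : Fin s → F) (x : Fin r → F), tvec e' P y x = T x y := fun y x => by
    rw [he', tvec, tvec]
    congr 1
    funext i
    simp [mul_comm]
  have hco : ∀ b z, co e' P (Symp.sv D.s1 b) z = D.cob b z := fun b z =>
    LinearMap.congr_fun (lin_ext (e := e) (P := P) (f := co e' P (Symp.sv D.s1 b)) (g := D.cob b) fun x y => by
      rw [D.cob_tvec, ← hts, co_tvec, Symp.sv_dot]) z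
  have hroot : ∀ b (h : Symp.sv D.s1 b ⬝ᵥ b = 0), rootGL e' P b (Symp.sv D.s1 b) h = D.root b 1 := fun b h =>
    gl_ext_vec fun z => by rw [TensorMax.root_mulVec, hco, D.root_mulVec, one_smul, hts]
  have hsub : M ≤ tensorProductSubgroup s r e' P := by
    refine descend (e := e') (P := P) (by have := D.three; omega) (by omega) M
      (fun b β => b ≠ 0 ∧ β = Symp.sv D.s1 b) ?_ ?_ ?_ ?_
    · rintro b β ⟨hb, rfl⟩
      refine ⟨by rw [Symp.sv_dot, D.s1.alternating], hb, fun h0 => ?_, by rw [hroot]; exact D.root_mem b 1⟩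
      obtain ⟨x, hx⟩ := D.exists_partner hb
      have h1 : Symp.sv D.s1 b ⬝ᵥ x = 1 := by rw [Symp.sv_dot, hx]
      rw [h0, zero_dotProduct] at h1
      exact zero_ne_one h1
    · exact ⟨Pi.single ⟨0, by omega⟩ 1, _, by simp, rfl⟩
    · intro b hb g hg b'' hb'' hmap
      have h1 := D.pure_rigid hM hex hg hb hb'' fun y => by
        obtain ⟨y', hy'⟩ := hmap y
        rw [hts, hts] at hy'
        exact ⟨y', hy'⟩
      obtain ⟨A, B, hAB⟩ := mem_tensor h1
      have : g = kg e' P B A := gl_ext_tvec (e := e') (P := P) fun y x => by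
        rw [kg_tvec, hts, hts, hAB]
      exact this ▸ kg_mem _ _
    · intro g hg b₀ hb₀ A hA0 hA
      obtain ⟨a, ha⟩ : ∃ a, a ∉ A := by
        by_contra hcon
        push Not at hcon
        exact hA (eq_top_iff.2 fun y _ => hcon y)
      obtain ⟨z, hz⟩ : ∃ z, z = ((g⁻¹ : GL ι F) : Matrix ι ι F) *ᵥ tvec e' P a b₀ := ⟨_, rfl⟩
      let L : (Fin r → F) →ₗ[F] (Fin s → F) :=
        { toFun := fun b => D.cob b z
          map_add' := fun b b' => D.cob_add_left b b' z
          map_smul' := fun t b => D.cob_smul_left t b z }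
      obtain ⟨b, hb, hb0⟩ := Submodule.exists_mem_ne_zero_of_ne_bot
        (LinearMap.ker_ne_bot_of_finrank_lt (f := L.prod (Symp.sfun D.s1 b₀)) (by simp; omega))
      have e1 : D.cob b z = 0 := congrArg Prod.fst hb
      have e2 : f₁ b b₀ = 0 := congrArg Prod.snd hb
      refine ⟨a, ha, b, _, ⟨hb0, rfl⟩, ?_, Or.inl ?_⟩
      · rw [Symp.sv_dot, Symp.swap_zero D.s1 e2]
      · rw [hco, ← hz, e1]
  intro g hg
  obtain ⟨A, B, hAB⟩ := mem_tensor (hsub hg)
  have : g = kg e P B A := gl_ext_tvec (e := e) (P := P) fun x y => by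
    rw [kg_tvec, ← hts, ← hts, hAB]
  exact this ▸ kg_mem _ _

end CfsgLib.Perm.Trans.TensorSO
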