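import Mathlib
import Cfsg.Agent.Lib.Perm.Trans.TensorSO.Main

/-!
# Overgroups with a symplectic factor of dimension two
-/

set_option autoImplicit false
set_option linter.all false

namespace CfsgLib.Perm.Trans.TensorSO

open scoped Matrix Kronecker
open Matrix Cfsg.Geo CfsgLib.Perm.Asch CfsgLib.Perm.Trans CfsgLib.Perm.Trans.TensorFrame
open CfsgLib.Perm.Trans.TensorMax

variable {ι : Type} [Fintype ι] [DecidableEq ι] {F : Type*} [Field F] [Fintype F] {r s : ℕ}
variable {e : ι ≃ Fin r × Fin s} {P : GL ι F}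
variable {f : (ι → F) → (ι → F) → F} {f₁ : (Fin r → F) → (Fin r → F) → F} {f₂ : (Fin s → F) → (Fin s → F) → F}
variable {k : F} {M : Subgroup (GL ι F)}

local notation "T" => tvec e P

variable (D : SO f f₁ f₂ e P k M)
include D

/-- a vector killed by the contractions orthogonal to `n` -/
theorem SO.pure_of_perp {n p : Fin s → F} (hpn : f₂ p n = 1) {z : ι → F}
    (h : ∀ y, f₂ y n = 0 → D.cod y z = 0) : z = T (D.cod p z) n := by
  have hg := D.s2
  refine sub_eq_zero.1 (D.eq_zero_of_cob fun a => sym_eq_zero hg fun y => ?_)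
  have h1 := h (y - f₂ y n • p) (by rw [Orth.sym_sub_left hg, hg.bilinear.smul_left, hpn, mul_one, sub_self])
  have h2 : f₂ (D.cob a z) (y - f₂ y n • p) = 0 := by rw [D.cob_cod, h1, Symp.zero_left D.s1]
  rw [Orth.sym_sub_right hg, hg.bilinear.smul_right, D.cob_cod a p] at h2
  rw [map_sub, D.cob_tvec, Orth.sym_sub_left hg, hg.bilinear.smul_left, hg.symm n y]
  linear_combination h2

/-- elements fixing `U ⊗ n⊥` pointwise are trivial -/
theorem SO.central_eq_one (hM : ¬ Symp.isoSub f ≤ M) {n : Fin s → F} (hn : n ≠ 0) (hnn : f₂ n n = 0)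
    {m : GL ι F} (hm : m ∈ M) (hfix : ∀ z, D.cod n z = 0 → (m : Matrix ι ι F) *ᵥ z = z) : m = 1 := by
  have h2 := D.two
  have hg := D.s2
  obtain ⟨q0, hq0⟩ := exists_dot_ne_zero hn hg
  obtain ⟨q, hq⟩ : ∃ q, f₂ q n = 1 :=
    ⟨(f₂ n q0)⁻¹ • q0, by rw [hg.bilinear.smul_left, hg.symm q0 n, inv_mul_cancel₀ hq0]⟩
  let S : (Fin r → F) →ₗ[F] (Fin r → F) :=
    (D.cod q).comp ((Matrix.mulVecLin (m : Matrix ι ι F) - LinearMap.id).comp (tR e P q))
  have hpure : ∀ z, (m : Matrix ι ι F) *ᵥ z - z = T (D.cod q ((m : Matrix ι ι F) *ᵥ z - z)) n := fun z => by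
    refine D.pure_of_perp hq fun y hy => ?_
    refine sub_eq_zero.1 ?_
    by_contra hne
    rw [sub_zero] at hne
    obtain ⟨u, hu⟩ := (D.s1.nondegenerate _ hne).2
    have hw : (m : Matrix ι ι F) *ᵥ T u y = T u y := hfix _ (by rw [D.cod_tvec, hy, zero_smul])
    have h1 := Symp.mem_isoSub.1 (D.le hm) z (T u y)
    rw [hw, D.pol_cod, D.pol_cod] at h1
    rw [map_sub, Symp.sub_left D.s1, mul_left_cancel₀ D.kne h1, sub_self] at hu
    exact hu rfl
  have hmz : ∀ z, (m : Matrix ι ι F) *ᵥ z = z + T (S (D.cod n z)) n := fun z => by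
    have h1 : D.cod n (z - T (D.cod n z) q) = 0 := by rw [map_sub, D.cod_tvec, hq, one_smul, sub_self]
    have h3 := hfix _ h1
    rw [mulVec_sub] at h3
    have h4 : (m : Matrix ι ι F) *ᵥ z - z =
        (m : Matrix ι ι F) *ᵥ T (D.cod n z) q - T (D.cod n z) q := by
      linear_combination (norm := module) h3
    have h5 := hpure (T (D.cod n z) q)
    rw [← h4] at h5
    rw [← sub_eq_iff_eq_add', h5]
    show T (D.cod q ((m : Matrix ι ι F) *ᵥ z - z)) n =
      T (D.cod q ((m : Matrix ι ι F) *ᵥ T (D.cod n z) q - T (D.cod n z) q)) n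
    rw [← h4]
  by_contra hne
  -- a vector seen by the symmetric form
  have hsym : ∀ u u', f₁ (S u) u' + f₁ u (S u') = 0 := fun u u' => by
    have h1 := Symp.mem_isoSub.1 (D.le hm) (T u q) (T u' q)
    rw [hmz, hmz, D.cod_tvec, D.cod_tvec, hq, one_smul, one_smul, D.hf.bilinear.add_left, D.hf.bilinear.add_right,
      D.hf.bilinear.add_right, D.pol, D.pol, D.pol, D.pol, hnn, hq, hg.symm n q, hq] at h1
    have h3 : k * (f₁ (S u) u' + f₁ u (S u')) = 0 := by linear_combination h1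
    exact (mul_eq_zero.1 h3).resolve_left D.kne
  obtain ⟨a, ha⟩ : ∃ a, f₁ (S a) a ≠ 0 := by
    by_contra hcon
    push Not at hcon
    refine hne (gl_ext_vec fun z => ?_)
    have hS : ∀ u, S u = 0 := fun u => by
      by_contra hSu
      obtain ⟨u', hu'⟩ := (D.s1.nondegenerate _ hSu).2
      have e1 := hcon (u + u')
      rw [map_add, D.s1.bilinear.add_left, D.s1.bilinear.add_right, D.s1.bilinear.add_right, hcon, hcon,
        D.s1.skew (S u') u] at e1
      have e2 := hsym u u'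
      exact hu' ((mul_eq_zero.1 (show (2 : F) * f₁ (S u) u' = 0 by linear_combination e1 + e2)).resolve_left h2)
    rw [hmz, hS, tvec_zero_left, add_zero, Units.val_one, one_mulVec]
  have ha0 : a ≠ 0 := fun h => ha (by rw [h, map_zero, Symp.zero_left D.s1])
  -- the realised operators
  let C : Set ((Fin r → F) →ₗ[F] (Fin r → F)) :=
    {X | ∃ u ∈ M, ∀ z, (u : Matrix ι ι F) *ᵥ z = z + T (X (D.cod n z)) n}
  have hkill : ∀ b : Fin r → F, D.cod n (T b n) = 0 := fun b => by rw [D.cod_tvec, hnn, zero_smul]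
  have hadd : ∀ {X Y}, X ∈ C → Y ∈ C → X + Y ∈ C := by
    rintro X Y ⟨u, hu, huz⟩ ⟨v, hv, hvz⟩
    refine ⟨u * v, mul_mem hu hv, fun z => ?_⟩
    rw [gl_mul_mulVec, hvz, huz, map_add (D.cod n), hkill, add_zero, LinearMap.add_apply, tvec_add_left]
    abel
  have hneg : ∀ {X}, X ∈ C → -X ∈ C := by
    rintro X ⟨u, hu, huz⟩
    refine ⟨u⁻¹, inv_mem hu, fun z => ?_⟩
    have h1 : z = (u : Matrix ι ι F) *ᵥ (z + T ((-X) (D.cod n z)) n) := by
      rw [huz, map_add, hkill, add_zero, LinearMap.neg_apply, tvec_neg_left]; abel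
    conv_lhs => rw [h1, gl_inv_mulVec]
  have hconj : ∀ {X X'} (A : GL (Fin r) F), A ∈ Symp.isoSub f₁ → X ∈ C →
      (∀ b, X' ((A : Matrix (Fin r) (Fin r) F) *ᵥ b) = (A : Matrix (Fin r) (Fin r) F) *ᵥ X b) → X' ∈ C := by
    rintro X X' A hA ⟨u, hu, huz⟩ hXX'
    obtain ⟨g, hgdef⟩ : ∃ g, g = kg e P A (1 : GL (Fin s) F) := ⟨_, rfl⟩
    have hgM : g ∈ M := hgdef ▸ D.kg_left_mem hA
    refine ⟨g * u * g⁻¹, mul_mem (mul_mem hgM hu) (inv_mem hgM), fun z => ?_⟩
    obtain ⟨w, rfl⟩ : ∃ w, z = (g : Matrix ι ι F) *ᵥ w := ⟨_, (gl_mulVec_inv g z).symm⟩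
    rw [gl_mul_mulVec, gl_mul_mulVec, gl_inv_mulVec, huz, mulVec_add]
    have e1 := D.cod_kg (A := A) (B := (1 : GL (Fin s) F)) (fun y y' => by simp) n w
    rw [Units.val_one, one_mulVec, ← hgdef] at e1
    rw [e1, hXX', hgdef, kg_tvec, Units.val_one, one_mulVec]
  have hSC : S ∈ C := ⟨m, hm, hmz⟩
  -- the second difference
  let N : (Fin r → F) →ₗ[F] (Fin r → F) := (Symp.sfun D.s1 a).smulRight a
  have hN : ∀ b, N b = f₁ b a • a := fun b => rfl
  obtain ⟨σ, hσ⟩ : ∃ σ, σ = -2 * f₁ (S a) a := ⟨_, rfl⟩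
  have hσ0 : σ ≠ 0 := hσ ▸ mul_ne_zero (neg_ne_zero.2 h2) ha
  have hstv : ∀ (l : F) b, (Symp.stv D.s1 a l : Matrix (Fin r) (Fin r) F) *ᵥ b = b + l • N b := fun l b => by
    rw [Symp.stv_mulVec, hN, smul_smul]
  have hσN : σ • N ∈ C := by
    let tp : (Fin r → F) →ₗ[F] (Fin r → F) := LinearMap.id + N
    let tm : (Fin r → F) →ₗ[F] (Fin r → F) := LinearMap.id - N
    have hN2 : ∀ b, N (N b) = 0 := fun b => by
      rw [hN b, map_smul, hN a, D.s1.alternating, zero_smul, smul_zero]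
    have e1 : tp.comp (S.comp tm) ∈ C := by
      refine hconj (Symp.stv D.s1 a 1) (Symp.stv_iso D.s1 a 1) hSC fun b => ?_
      simp only [hstv, tp, tm, LinearMap.comp_apply, LinearMap.add_apply, LinearMap.sub_apply, LinearMap.id_apply,
        one_smul, map_add, map_sub, hN2, map_zero, smul_zero, add_zero, sub_zero]
      abel
    have e2 : tm.comp (S.comp tp) ∈ C := by
      refine hconj (Symp.stv D.s1 a (-1)) (Symp.stv_iso D.s1 a (-1)) hSC fun b => ?_
      simp only [hstv, tp, tm, LinearMap.comp_apply, LinearMap.add_apply, LinearMap.sub_apply, LinearMap.id_apply,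
        neg_one_smul, map_add, map_sub, map_neg, hN2, map_zero, neg_zero, add_zero, sub_zero]
      abel
    have e3 := hadd (hadd e1 e2) (hneg (hadd hSC hSC))
    convert e3 using 1
    refine LinearMap.ext fun b => ?_
    simp only [tp, tm, LinearMap.comp_apply, LinearMap.add_apply, LinearMap.sub_apply, LinearMap.id_apply,
      LinearMap.neg_apply, LinearMap.smul_apply, map_add, map_sub, hN b, hN (S b), map_smul, hN (S a), hσ,
      D.s1.bilinear.smul_left]
    match_scalars <;> ring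
  have hall : ∀ t : F, (σ * t) • N ∈ C := by
    intro t
    have hsq : ∀ l : F, (σ * (l * l)) • N ∈ C := fun l => by
      rcases eq_or_ne l 0 with rfl | hl
      · refine ⟨1, one_mem M, fun z => ?_⟩
        rw [Units.val_one, one_mulVec, mul_zero, mul_zero, zero_smul, LinearMap.zero_apply, tvec_zero_left, add_zero]
      obtain ⟨A, hA, hAa⟩ := exists_simil D.s1 one_ne_zero ha0 (a' := l • a) (smul_ne_zero hl ha0)
      refine hconj A (Symp.mem_isoSub.2 fun x y => by rw [hA, one_mul]) hσN fun b => ?_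
      have e1 : f₁ ((A : Matrix (Fin r) (Fin r) F) *ᵥ b) (l • a) = f₁ b a := by rw [← hAa, hA, one_mul]
      rw [D.s1.bilinear.smul_right] at e1
      simp only [LinearMap.smul_apply, hN, mulVec_smul, hAa, smul_smul]
      congr 1
      rw [← e1]; ring
    obtain ⟨u, v, huv⟩ := CfsgLib.Classical.SpInvolClasses.exists_two_sq h2 t
    rw [← huv, sq, sq, mul_add, add_smul]
    exact hadd (hsq u) (hsq v)
  refine hM (D.full_of_centre ha0 hn hnn fun c => ?_)
  obtain ⟨u, hu, huz⟩ := hall (σ⁻¹ * (c * k))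
  convert hu using 1
  refine gl_ext_vec fun z => ?_
  rw [huz, Symp.stv_mulVec, D.pol_cob, LinearMap.smul_apply, hN, smul_smul, tvec_smul_left, D.cob_cod,
    ← mul_assoc σ, mul_inv_cancel₀ hσ0, one_mul, mul_assoc]

/-- Eichler elements lie in `M` -/
theorem SO.exists_eich {n y : Fin s → F} (hnn : f₂ n n = 0) (hy : f₂ y n = 0) :
    ∃ E ∈ M, ∀ z, (E : Matrix ι ι F) *ᵥ z = z + T (D.cod n z) y - T (D.cod y z) n -
        T ((f₂ y y / 2) • D.cod n z) n := by
  have h2 := D.two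
  have hg₂ := D.s2
  obtain ⟨B, -, hB⟩ := Orth.exists_eich hg₂ h2 hnn (show f₂ n y = 0 by rw [hg₂.symm, hy])
  have hBiso : ∀ w w', f₂ ((B : Matrix (Fin s) (Fin s) F) *ᵥ w) ((B : Matrix (Fin s) (Fin s) F) *ᵥ w') = f₂ w w' :=
    fun w w' => by
      simp only [hB w, hB w', Orth.sym_sub_left hg₂, Orth.sym_sub_right hg₂, hg₂.bilinear.add_left,
        hg₂.bilinear.add_right, hg₂.bilinear.smul_left, hg₂.bilinear.smul_right, hnn, hy, hg₂.symm n y,
        hg₂.symm n w', hg₂.symm y w']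
      field_simp
      ring
  refine ⟨kg e P 1 B, D.kg_right_mem hBiso, fun z => ?_⟩
  have h : Matrix.mulVecLin (kg e P (1 : GL (Fin r) F) B : Matrix ι ι F) = LinearMap.id +
      (tR e P y).comp (D.cod n) - (tR e P n).comp (D.cod y) - (tR e P n).comp ((f₂ y y / 2) • D.cod n) :=
    lin_ext (e := e) (P := P) fun b w => by
      show (kg e P (1 : GL (Fin r) F) B : Matrix ι ι F) *ᵥ T b w = T b w + T (D.cod n (T b w)) y -
        T (D.cod y (T b w)) n - T ((f₂ y y / 2) • D.cod n (T b w)) n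
      rw [kg_tvec, hB, Units.val_one, one_mulVec, D.cod_tvec, D.cod_tvec, tvec_sub_right, tvec_sub_right,
        tvec_add_right, tvec_smul_right, tvec_smul_right, tvec_smul_right, smul_smul, tvec_smul_left,
        tvec_smul_left, tvec_smul_left]
  exact LinearMap.congr_fun h z

/-- in a plane, an operator mapping every vector into its orthogonal is a scalar -/
theorem SO.scalar_of_skew (hr : r = 2) (C : (Fin r → F) →ₗ[F] (Fin r → F)) (hC : ∀ u, f₁ (C u) u = 0) :
    ∃ b : F, ∀ u, C u = b • u := by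
  obtain ⟨b, hb⟩ := scalar_of_eigen D.rpos (A := LinearMap.toMatrix' C) fun u => by
    rw [LinearMap.toMatrix'_mulVec]
    by_contra hcon
    push Not at hcon
    rcases eq_or_ne u 0 with rfl | hu
    · exact hcon 0 (by rw [map_zero, zero_smul])
    -- in dimension two the orthogonal of a vector is its line
    subst hr
    have hker : LinearMap.ker (Symp.sfun D.s1 u) = Submodule.span F {u} := by
      refine (Submodule.eq_of_le_of_finrank_le ?_ ?_).symm
      · rw [Submodule.span_singleton_le_iff_mem]; exact D.s1.alternating u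
      · rw [finrank_span_singleton hu]
        have h := LinearMap.finrank_range_add_finrank_ker (Symp.sfun D.s1 u)
        obtain ⟨p, hp⟩ := D.exists_partner hu
        have hr' : LinearMap.range (Symp.sfun D.s1 u) = ⊤ := LinearMap.range_eq_top.2 fun t => ⟨t • p, by
          show f₁ (t • p) u = t
          rw [D.s1.bilinear.smul_left, hp, mul_one]⟩
        rw [hr', finrank_top] at h
        simp at h
        omega
    have hmem : C u ∈ LinearMap.ker (Symp.sfun D.s1 u) := hC u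
    rw [hker] at hmem
    obtain ⟨t, ht⟩ := Submodule.mem_span_singleton.1 hmem
    exact hcon t ht.symm
  exact ⟨b, fun u => (LinearMap.toMatrix'_mulVec C u).symm.trans (hb u)⟩

/-- maps agreeing on `U ⊗ n⊥` agree on the vectors killed by the contraction at `n` -/
theorem SO.ext_perp {N : Type*} [AddCommGroup N] [Module F N] {n q : Fin s → F} (hq : f₂ q n = 1)
    {L L' : (ι → F) →ₗ[F] N} (h : ∀ u y, f₂ y n = 0 → L (T u y) = L' (T u y)) {z : ι → F} (hz : D.cod n z = 0) :
    L z = L' z := by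
  have hg₂ := D.s2
  have key : (L - L').comp (LinearMap.id - (tR e P q).comp (D.cod n)) = 0 :=
    lin_ext (e := e) (P := P) fun b w => by
      show (L - L') (T b w - T (D.cod n (T b w)) q) = 0
      rw [D.cod_tvec, tvec_smul_left, ← tvec_smul_right, ← tvec_sub_right, LinearMap.sub_apply, sub_eq_zero]
      exact h _ _ (by rw [Orth.sym_sub_left hg₂, hg₂.bilinear.smul_left, hq, mul_one, sub_self])
  have h1 : (L - L') (z - T (D.cod n z) q) = 0 := LinearMap.congr_fun key z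
  rwa [hz, tvec_zero_left, sub_zero, LinearMap.sub_apply, sub_eq_zero] at h1

/-- an element fixing `U ⊗ n` pointwise maps the pure vectors over `n⊥` to pure vectors -/
theorem SO.fix_pure (hr : r = 2) (hM : ¬ Symp.isoSub f ≤ M) {n : Fin s → F} (hn : n ≠ 0) (hnn : f₂ n n = 0)
    {x : GL ι F} (hxM : x ∈ M) (hxn : ∀ b, (x : Matrix ι ι F) *ᵥ T b n = T b n) {y : Fin s → F}
    (hy : f₂ y n = 0) : ∃ e₀ : Fin s → F, ∀ u, (x : Matrix ι ι F) *ᵥ T u y = T u e₀ := by
  have h2 := D.two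
  have hg₂ := D.s2
  obtain ⟨q0, hq0⟩ := exists_dot_ne_zero hn hg₂
  obtain ⟨q, hq⟩ : ∃ q, f₂ q n = 1 :=
    ⟨(f₂ n q0)⁻¹ • q0, by rw [hg₂.bilinear.smul_left, hg₂.symm q0 n, inv_mul_cancel₀ hq0]⟩
  have hiso := Symp.mem_isoSub.1 (D.le hxM)
  have hxin : ∀ b, ((x⁻¹ : GL ι F) : Matrix ι ι F) *ᵥ T b n = T b n := fun b => by
    conv_lhs => rw [← hxn b, gl_inv_mulVec]
  have hxcod : ∀ v, D.cod n ((x : Matrix ι ι F) *ᵥ v) = D.cod n v := fun v => by
    refine sub_eq_zero.1 ?_
    by_contra hne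
    obtain ⟨b, hb⟩ := (D.s1.nondegenerate _ hne).2
    refine hb (mul_left_cancel₀ D.kne ?_)
    rw [Symp.sub_left D.s1, mul_sub, mul_zero, ← D.pol_cod, ← D.pol_cod, sub_eq_zero]
    conv_lhs => rw [← hxn b, hiso]
  have hxicod : ∀ v, D.cod n (((x⁻¹ : GL ι F) : Matrix ι ι F) *ᵥ v) = D.cod n v := fun v => by
    conv_rhs => rw [← gl_mulVec_inv x v, hxcod]
  have key : ∀ y y', f₂ y n = 0 → f₂ y' n = 0 → ∀ u,
      D.cod y (((x⁻¹ : GL ι F) : Matrix ι ι F) *ᵥ T u y') = D.cod y' ((x : Matrix ι ι F) *ᵥ T u y) := by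
    intro y y' hy hy' u
    obtain ⟨E, hEM, hE⟩ := D.exists_eich hnn hy
    obtain ⟨E', hE'M, hE'⟩ := D.exists_eich hnn hy'
    have hEn : ∀ b, (E : Matrix ι ι F) *ᵥ T b n = T b n := fun b => by
      rw [hE, D.cod_tvec n, D.cod_tvec y, hnn, hg₂.symm n y, hy, zero_smul, smul_zero, tvec_zero_left,
        tvec_zero_left]
      simp
    have hE'n : ∀ b, (E' : Matrix ι ι F) *ᵥ T b n = T b n := fun b => by
      rw [hE', D.cod_tvec n, D.cod_tvec y', hnn, hg₂.symm n y', hy', zero_smul, smul_zero, tvec_zero_left,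
        tvec_zero_left]
      simp
    obtain ⟨m, hm⟩ : ∃ m, m = x * E * x⁻¹ := ⟨_, rfl⟩
    have hmM : m ∈ M := hm ▸ mul_mem (mul_mem hxM hEM) (inv_mem hxM)
    have hmv : ∀ z, (m : Matrix ι ι F) *ᵥ z = z + (x : Matrix ι ι F) *ᵥ T (D.cod n z) y -
        T (D.cod y (((x⁻¹ : GL ι F) : Matrix ι ι F) *ᵥ z)) n - T ((f₂ y y / 2) • D.cod n z) n := fun z => by
      rw [hm, gl_mul_mulVec, gl_mul_mulVec, hE, mulVec_sub, mulVec_sub, mulVec_add, gl_mulVec_inv, hxn, hxn, hxicod]
    have hmn : ∀ b, (m : Matrix ι ι F) *ᵥ T b n = T b n := fun b => by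
      rw [hm, gl_mul_mulVec, gl_mul_mulVec, hxin, hEn, hxn]
    have hlow : ∀ z, D.cod n z = 0 →
        ((m * E' : GL ι F) : Matrix ι ι F) *ᵥ z = ((E' * m : GL ι F) : Matrix ι ι F) *ᵥ z := fun z hz => by
      have e1 : (m : Matrix ι ι F) *ᵥ z = z - T (D.cod y (((x⁻¹ : GL ι F) : Matrix ι ι F) *ᵥ z)) n := by
        rw [hmv, hz, smul_zero, tvec_zero_left, tvec_zero_left, mulVec_zero, add_zero, sub_zero]
      have e2 : (E' : Matrix ι ι F) *ᵥ z = z - T (D.cod y' z) n := by
        rw [hE', hz, smul_zero, tvec_zero_left, tvec_zero_left, add_zero, sub_zero]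
      rw [gl_mul_mulVec, gl_mul_mulVec, e1, e2, mulVec_sub, mulVec_sub, e1, e2, hmn, hE'n]
      abel
    have hcomm : m * E' = E' * m := by
      have h1 := D.central_eq_one hM hn hnn (m := m * E' * (E' * m)⁻¹)
        (mul_mem (mul_mem hmM hE'M) (inv_mem (mul_mem hE'M hmM))) fun z hz => by
          obtain ⟨w, rfl⟩ : ∃ w, z = ((E' * m : GL ι F) : Matrix ι ι F) *ᵥ w := ⟨_, (gl_mulVec_inv _ z).symm⟩
          rw [gl_mul_mulVec, gl_inv_mulVec]
          refine hlow w ?_
          rw [gl_mul_mulVec, hmv, hE'] at hz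
          simpa [D.cod_tvec, hnn, hy', hg₂.symm n y', hy, hxcod] using hz
      exact mul_inv_eq_one.1 h1
    -- evaluation at a vector over `q`
    obtain ⟨z, hz⟩ : ∃ z, z = T u q := ⟨_, rfl⟩
    have hzn : D.cod n z = u := by rw [hz, D.cod_tvec, hq, one_smul]
    have h1 := congrArg (fun v => D.cod q v)
      (congrArg (fun w : GL ι F => (w : Matrix ι ι F) *ᵥ z) hcomm)
    simp only [gl_mul_mulVec] at h1
    have hxyn : D.cod n ((x : Matrix ι ι F) *ᵥ T u y) = 0 := by rw [hxcod, D.cod_tvec, hy, zero_smul]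
    have hy'n : D.cod n (T u y') = 0 := by rw [D.cod_tvec, hy', zero_smul]
    have e1 : (m : Matrix ι ι F) *ᵥ T u y' =
        T u y' - T (D.cod y (((x⁻¹ : GL ι F) : Matrix ι ι F) *ᵥ T u y')) n := by
      rw [hmv, hy'n, smul_zero, tvec_zero_left, tvec_zero_left, mulVec_zero, add_zero, sub_zero]
    have e2 : (E' : Matrix ι ι F) *ᵥ ((x : Matrix ι ι F) *ᵥ T u y) =
        (x : Matrix ι ι F) *ᵥ T u y - T (D.cod y' ((x : Matrix ι ι F) *ᵥ T u y)) n := by
      rw [hE', hxyn, smul_zero, tvec_zero_left, tvec_zero_left, add_zero, sub_zero]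
    rw [hE' z, hmv z, hzn] at h1
    simp only [mulVec_add, mulVec_sub, hmn, hE'n] at h1
    rw [e1, e2, hmv z, hE' z, hzn] at h1
    simp only [map_add, map_sub, D.cod_tvec, hg₂.symm n q, hq, one_smul] at h1
    linear_combination (norm := module) -h1
  -- the image modulo `n`
  have hscal : ∀ y', f₂ y' n = 0 → ∃ b : F, ∀ u, D.cod y' ((x : Matrix ι ι F) *ᵥ T u y) = b • u := by
    intro y' hy'
    obtain ⟨b, hb⟩ := D.scalar_of_skew hr
      ((D.cod y').comp ((Matrix.mulVecLin (x : Matrix ι ι F)).comp (tR e P y))) fun u => by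
        show f₁ (D.cod y' ((x : Matrix ι ι F) *ᵥ T u y)) u = 0
        have e1 := Symp.mem_isoSub.1 (D.le (inv_mem hxM)) ((x : Matrix ι ι F) *ᵥ T u y) (T u y')
        rw [gl_inv_mulVec, D.hf.skew (T u y), D.pol_cod u y, key y y' hy hy' u, D.pol_cod u y'] at e1
        exact (mul_eq_zero.1 ((mul_eq_zero.1 (show (2 : F) * (k * f₁ (D.cod y' ((x : Matrix ι ι F) *ᵥ T u y)) u) = 0 by
          linear_combination -e1)).resolve_left h2)).resolve_left D.kne
    exact ⟨b, hb⟩
  obtain ⟨a, ha⟩ : ∃ a : Fin r → F, a ≠ 0 := ⟨Pi.single ⟨0, D.rpos⟩ 1, by simp⟩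
  obtain ⟨c, hca⟩ := D.exists_partner ha
  let lam : (Fin s → F) →ₗ[F] F :=
    { toFun := fun y' => f₁ (D.cod y' ((x : Matrix ι ι F) *ᵥ T c y)) a
      map_add' := fun y' y'' => by rw [D.cod_add_left, D.s1.bilinear.add_left]
      map_smul' := fun t y' => by rw [D.cod_smul_left, D.s1.bilinear.smul_left]; rfl }
  obtain ⟨e₀, he₀⟩ := Orth.exists_rep hg₂ (fvec lam)
  have hEy : ∀ y', f₂ y' n = 0 → ∀ u, D.cod y' ((x : Matrix ι ι F) *ᵥ T u y) = f₂ y' e₀ • u := fun y' hy' u => by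
    obtain ⟨b, hb⟩ := hscal y' hy'
    rw [hb, he₀, fvec_dot, show lam y' = f₁ (D.cod y' ((x : Matrix ι ι F) *ᵥ T c y)) a from rfl, hb,
      D.s1.bilinear.smul_left, hca, mul_one]
  have he₀n : f₂ e₀ n = 0 := by
    have h1 := congrArg (fun v => f₁ v a) (hEy n hnn c)
    rwa [hxcod, D.cod_tvec, hy, zero_smul, Symp.zero_left D.s1, D.s1.bilinear.smul_left, hca, mul_one, hg₂.symm,
      eq_comm] at h1
  -- the conjugate of an Eichler element is an Eichler element
  obtain ⟨E, hEM, hE⟩ := D.exists_eich hnn hy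
  obtain ⟨E₀, hE₀M, hE₀⟩ := D.exists_eich hnn he₀n
  have hconj : x * E * x⁻¹ = E₀ := by
    refine mul_inv_eq_one.1 (D.central_eq_one hM hn hnn
      (mul_mem (mul_mem (mul_mem hxM hEM) (inv_mem hxM)) (inv_mem hE₀M)) fun z hz => ?_)
    obtain ⟨w, rfl⟩ : ∃ w, z = (E₀ : Matrix ι ι F) *ᵥ w := ⟨_, (gl_mulVec_inv E₀ z).symm⟩
    have hw : D.cod n w = 0 := by
      rw [hE₀] at hz
      simpa [D.cod_tvec, hnn, he₀n] using hz
    rw [gl_mul_mulVec, gl_inv_mulVec, gl_mul_mulVec, gl_mul_mulVec, hE, hE₀, hxicod, hw]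
    simp only [smul_zero, tvec_zero_left, add_zero, sub_zero, mulVec_sub, gl_mulVec_inv, hxn]
    congr 2
    have h1 := D.ext_perp hq (L := (D.cod y).comp (Matrix.mulVecLin ((x⁻¹ : GL ι F) : Matrix ι ι F)))
      (L' := D.cod e₀) (fun u y' hy' => by
        show D.cod y (((x⁻¹ : GL ι F) : Matrix ι ι F) *ᵥ T u y') = D.cod e₀ (T u y')
        rw [key y y' hy hy' u, hEy y' hy' u, D.cod_tvec]) hw
    exact h1
  let C : (Fin r → F) →ₗ[F] (Fin r → F) :=
    (D.cod e₀).comp ((Matrix.mulVecLin (x : Matrix ι ι F)).comp (tR e P q))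
  have heval : ∀ u, (x : Matrix ι ι F) *ᵥ T u y = T u e₀ +
      T ((f₂ q y + f₂ y y / 2 - f₂ e₀ e₀ / 2) • u - C u) n := fun u => by
    have h1 := congrArg (fun w : GL ι F => (w : Matrix ι ι F) *ᵥ ((x : Matrix ι ι F) *ᵥ T u q)) hconj
    simp only [gl_mul_mulVec, gl_inv_mulVec] at h1
    rw [hE, hE₀, hxcod, D.cod_tvec, D.cod_tvec, hq, one_smul,
      show D.cod e₀ ((x : Matrix ι ι F) *ᵥ T u q) = C u from rfl] at h1
    simp only [mulVec_add, mulVec_sub, hxn] at h1
    rw [tvec_sub_left, tvec_smul_left, sub_smul, add_smul]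
    simp only [tvec_smul_left] at h1
    linear_combination (norm := module) h1
  obtain ⟨b, hb⟩ := D.scalar_of_skew hr C fun u => by
    have h1 := hiso (T u q) (T u y)
    rw [heval, D.hf.bilinear.add_right, D.pol_cod u e₀, D.pol_cod _ n, hxcod, D.cod_tvec, hq, one_smul, D.pol,
      D.s1.alternating, zero_mul, mul_zero, show D.cod e₀ ((x : Matrix ι ι F) *ᵥ T u q) = C u from rfl,
      Symp.sub_right D.s1, D.s1.bilinear.smul_right, D.s1.alternating, mul_zero, zero_sub,
      D.s1.skew u (C u), neg_neg] at h1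
    exact (mul_eq_zero.1 ((mul_eq_zero.1 (show (2 : F) * (k * f₁ (C u) u) = 0 by
      linear_combination h1)).resolve_left h2)).resolve_left D.kne
  exact ⟨e₀ + (f₂ q y + f₂ y y / 2 - f₂ e₀ e₀ / 2 - b) • n, fun u => by
    rw [heval, hb, ← sub_smul, tvec_smul_left, ← tvec_smul_right, ← tvec_add_right]⟩

/-- a singular vector in a large subspace -/
theorem SO.exists_singular_ker {V : Type*} [AddCommGroup V] [Module F V] [FiniteDimensional F V]
    (L : (Fin s → F) →ₗ[F] V) (hV : Module.finrank F V + 3 ≤ s) : ∃ n, n ≠ 0 ∧ L n = 0 ∧ f₂ n n = 0 := by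
  have h1 := LinearMap.finrank_range_add_finrank_ker L
  have h3 := Submodule.finrank_le (LinearMap.range L)
  simp at h1
  have hk : 3 ≤ Module.finrank F (LinearMap.ker L) := by omega
  let i : (Fin (Module.finrank F (LinearMap.ker L)) → F) →ₗ[F] (Fin s → F) :=
    (LinearMap.ker L).subtype.comp (Module.finBasis F (LinearMap.ker L)).equivFun.symm.toLinearMap
  let B : LinearMap.BilinForm F (Fin s → F) := LinearMap.mk₂ F f₂ D.s2.bilinear.add_left D.s2.bilinear.smul_left
    D.s2.bilinear.add_right D.s2.bilinear.smul_right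
  obtain ⟨u, hu, huu⟩ := exists_zero_sym D.two hk (B.compl₁₂ i i) fun x y => D.s2.symm _ _
  refine ⟨i u, fun h => hu ?_, ?_, huu⟩
  · have h' : (Module.finBasis F (LinearMap.ker L)).equivFun.symm u = 0 := Subtype.ext h
    exact (LinearEquiv.map_eq_zero_iff _).1 h'
  · exact ((Module.finBasis F (LinearMap.ker L)).equivFun.symm u).2

/-- the case of a symplectic plane -/
theorem SO.le_tensor_two (hr : r = 2) (hs : 5 ≤ s) (hM : ¬ Symp.isoSub f ≤ M) :
    M ≤ tensorProductSubgroup r s e P := by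
  intro g hg
  refine D.frame_tensor hg fun d hd => ?_
  have h2 := D.two
  have hg₂ := D.s2
  obtain ⟨a, ha⟩ : ∃ a : Fin r → F, a ≠ 0 := ⟨Pi.single ⟨0, D.rpos⟩ 1, by simp⟩
  obtain ⟨c, hca⟩ := D.exists_partner ha
  -- coordinates in the plane
  have hdec : ∀ u, u = f₁ u a • c - f₁ u c • a := fun u => by
    subst hr
    refine sub_eq_zero.1 ?_
    by_contra hne
    obtain ⟨p, hp⟩ := (D.s1.nondegenerate _ hne).2
    obtain ⟨z, hz⟩ : ∃ z, z = u - (f₁ u a • c - f₁ u c • a) := ⟨_, rfl⟩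
    have e1 : f₁ z a = 0 := by
      simp [hz, Symp.sub_left D.s1, D.s1.bilinear.smul_left, hca, D.s1.alternating]
    have e2 : f₁ z c = 0 := by
      simp [hz, Symp.sub_left D.s1, D.s1.bilinear.smul_left, D.s1.skew a c, hca, D.s1.alternating]
    have hli : LinearIndependent F ![c, a] := LinearIndependent.pair_iff.2 fun s t h => by
      have h1 := congrArg (fun v => f₁ v a) h
      have h3 := congrArg (fun v => f₁ v c) h
      simp [D.s1.bilinear.add_left, D.s1.bilinear.smul_left, hca, D.s1.alternating, Symp.zero_left D.s1] at h1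
      simp [D.s1.bilinear.add_left, D.s1.bilinear.smul_left, D.s1.skew a c, hca, D.s1.alternating,
        Symp.zero_left D.s1] at h3
      exact ⟨h1, h3⟩
    have htop := hli.span_eq_top_of_card_eq_finrank (by simp)
    have hp' : p ∈ Submodule.span F (Set.range ![c, a]) := by rw [htop]; trivial
    rw [Matrix.range_cons, Matrix.range_cons, Matrix.range_empty, Set.union_empty, Set.singleton_union] at hp'
    obtain ⟨s, t, rfl⟩ := Submodule.mem_span_pair.1 hp'
    rw [← hz, D.s1.bilinear.add_right, D.s1.bilinear.smul_right, D.s1.bilinear.smul_right, e1, e2] at hp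
    exact hp (by ring)
  let Γ : (Fin r → F) →ₗ[F] (ι → F) := (Matrix.mulVecLin (g : Matrix ι ι F)).comp (tR e P d)
  obtain ⟨v, hv⟩ : ∃ v, v = Γ a := ⟨_, rfl⟩
  obtain ⟨w, hw⟩ : ∃ w, w = Γ c := ⟨_, rfl⟩
  obtain ⟨K, hKdef⟩ : ∃ K, K = k * f₂ d d := ⟨_, rfl⟩
  have hK : K ≠ 0 := hKdef ▸ mul_ne_zero D.kne hd
  obtain ⟨x, hx⟩ : ∃ x, x = g * D.R d hd * g⁻¹ := ⟨_, rfl⟩
  have hxM : x ∈ M := hx ▸ mul_mem (mul_mem hg (D.R_mem d hd)) (inv_mem hg)
  have hwv : f w v = K := by
    rw [hv, hw]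
    show f ((g : Matrix ι ι F) *ᵥ T c d) ((g : Matrix ι ι F) *ᵥ T a d) = K
    rw [Symp.mem_isoSub.1 (D.le hg), D.pol, hca, one_mul, hKdef]
  have hvw : f v w = -K := by rw [D.hf.skew, hwv]
  have hxv : ∀ z, (x : Matrix ι ι F) *ᵥ z = z + (2 / K) • (f z w • v - f z v • w) := fun z => by
    have e1 : ∀ u, f₁ (D.cod d (((g⁻¹ : GL ι F) : Matrix ι ι F) *ᵥ z)) u = f z (Γ u) / k := fun u => by
      rw [eq_div_iff D.kne, mul_comm, ← D.pol_cod,
        ← Symp.mem_isoSub.1 (D.le hg) (((g⁻¹ : GL ι F) : Matrix ι ι F) *ᵥ z) (T u d), gl_mulVec_inv]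
      rfl
    rw [hx, gl_mul_mulVec, gl_mul_mulVec, D.R_mulVec, mulVec_sub, gl_mulVec_inv,
      hdec (D.cod d (((g⁻¹ : GL ι F) : Matrix ι ι F) *ᵥ z)), e1, e1]
    show z - Γ _ = _
    rw [map_smul, map_sub, map_smul, map_smul, ← hv, ← hw, hKdef]
    have := D.kne
    match_scalars <;> field_simp <;> ring
  -- a singular point orthogonal to the support of `v`
  obtain ⟨n, hn, hLn, hnn⟩ := D.exists_singular_ker
    ((Orth.sfl hg₂ (D.cob a v)).prod (Orth.sfl hg₂ (D.cob c v))) (by simp; omega)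
  obtain ⟨q0, hq0⟩ := exists_dot_ne_zero hn hg₂
  obtain ⟨q, hq⟩ : ∃ q, f₂ q n = 1 :=
    ⟨(f₂ n q0)⁻¹ • q0, by rw [hg₂.bilinear.smul_left, hg₂.symm q0 n, inv_mul_cancel₀ hq0]⟩
  have hsupp : ∀ y, f₂ y (D.cob a v) = 0 → f₂ y (D.cob c v) = 0 → D.cod y v = 0 := fun y h1 h3 => by
    rw [hdec (D.cod y v), ← D.cob_cod, ← D.cob_cod, hg₂.symm, h1, hg₂.symm, h3, zero_smul, zero_smul, sub_zero]
  have hvn : D.cod n v = 0 := hsupp n (congrArg Prod.fst hLn) (congrArg Prod.snd hLn)
  have hTv : ∀ b, f (T b n) v = 0 := fun b => by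
    rw [D.hf.skew, D.pol_cod, hvn, Symp.zero_left D.s1, mul_zero, neg_zero]
  obtain ⟨u0, hu0⟩ : ∃ u0, u0 = D.cod n w := ⟨_, rfl⟩
  by_cases hu00 : u0 = 0
  · -- the plane lies in the orthogonal of `U ⊗ n`
    have hxn : ∀ b, (x : Matrix ι ι F) *ᵥ T b n = T b n := fun b => by
      have : f (T b n) w = 0 := by rw [D.hf.skew, D.pol_cod, ← hu0, hu00, Symp.zero_left D.s1, mul_zero, neg_zero]
      rw [hxv, hTv, this, zero_smul, zero_smul, sub_zero, smul_zero, add_zero]
    obtain ⟨y, hy, N, hN0, hN⟩ : ∃ y, f₂ y n = 0 ∧ ∃ N, N ≠ 0 ∧ ∀ u, (x : Matrix ι ι F) *ᵥ T u y = T u y + T u N := by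
      by_contra hcon
      push Not at hcon
      have hfix : ∀ u y, f₂ y n = 0 → (x : Matrix ι ι F) *ᵥ T u y = T u y := fun u y hy => by
        obtain ⟨e₀, he₀⟩ := D.fix_pure hr hM hn hnn hxM hxn hy
        by_cases h0 : e₀ - y = 0
        · rw [he₀, sub_eq_zero.1 h0]
        · obtain ⟨u', hu'⟩ := hcon y hy _ h0
          exact absurd (by rw [he₀, ← tvec_add_right, add_sub_cancel]) hu'
      have h1 := D.central_eq_one hM hn hnn hxM fun z hz =>
        D.ext_perp hq (L := Matrix.mulVecLin (x : Matrix ι ι F)) (L' := LinearMap.id) hfix hz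
      refine D.R_ne_one d hd ?_
      calc D.R d hd = g⁻¹ * x * g := by rw [hx]; group
        _ = 1 := by rw [h1]; group
    let φ : (Fin r → F) →ₗ[F] (Fin r → F) :=
      ((Symp.sfun D.hf w).comp (tR e P y)).smulRight ((2 / K) • a) -
        ((Symp.sfun D.hf v).comp (tR e P y)).smulRight ((2 / K) • c)
    have hφ : ∀ u, T u N = Γ (φ u) := fun u => by
      have h1 := hN u
      rw [hxv] at h1
      rw [← add_left_cancel h1]
      show _ = Γ (f (T u y) w • ((2 / K) • a) - f (T u y) v • ((2 / K) • c))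
      rw [map_sub, map_smul, map_smul, map_smul, map_smul, ← hv, ← hw]
      module
    have hφi : Function.Injective φ := (injective_iff_map_eq_zero φ).2 fun u hu => by
      have h1 := hφ u
      rw [hu, map_zero] at h1
      exact tvec_left_inj hN0 (h1.trans (tvec_zero_left _).symm)
    have hsurj := LinearMap.injective_iff_surjective.1 hφi
    refine ⟨N, fun h0 => hK ?_, fun u => ?_⟩
    · obtain ⟨ua, hua⟩ := hsurj a
      obtain ⟨uc, huc⟩ := hsurj c
      rw [← hwv, hv, hw, ← hua, ← huc, ← hφ, ← hφ, D.pol, h0, mul_zero, mul_zero]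
    · obtain ⟨u', hu'⟩ := hsurj u
      exact ⟨u', by rw [hφ, hu']; rfl⟩
  exfalso
  obtain ⟨b₀, hb₀⟩ : ∃ b, f₁ u0 b = 1 := by
    obtain ⟨b, hb⟩ := (D.s1.nondegenerate _ hu00).2
    exact ⟨(f₁ u0 b)⁻¹ • b, by rw [D.s1.bilinear.smul_right, inv_mul_cancel₀ hb]⟩
  have hstep : ∀ y, f₂ y n = 0 → D.cod y v = 0 → y ∉ Submodule.span F {n} →
      ∃ γ : F, ∀ b, ∃ t : F, f₁ u0 b • y + t • n = γ • D.cob b v := by
    intro y hy hyv hyn
    obtain ⟨E, hEM, hE⟩ := D.exists_eich hnn hy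
    have hEv : (E : Matrix ι ι F) *ᵥ v = v := by
      rw [hE, hvn, hyv, smul_zero, tvec_zero_left, tvec_zero_left]
      simp
    obtain ⟨δ, hδ⟩ : ∃ δ, δ = (E : Matrix ι ι F) *ᵥ w - w := ⟨_, rfl⟩
    have hδ' : δ = T u0 y - T (D.cod y w) n - T ((f₂ y y / 2) • u0) n := by rw [hδ, hE, ← hu0]; abel
    have hvδ : f v δ = 0 := by
      rw [hδ, Symp.sub_right D.hf]
      conv_lhs => lhs; rw [← hEv, Symp.mem_isoSub.1 (D.le hEM)]
      rw [sub_self]
    have hδn : D.cod n δ = 0 := by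
      rw [hδ', map_sub, map_sub, D.cod_tvec, D.cod_tvec, D.cod_tvec, hy, hnn, zero_smul, zero_smul, zero_smul]
      simp
    obtain ⟨B, hB⟩ : ∃ B, B = E * x * E⁻¹ * x := ⟨_, rfl⟩
    have hBM : B ∈ M := hB ▸ mul_mem (mul_mem (mul_mem hEM hxM) (inv_mem hEM)) hxM
    have hBv : ∀ z, (B : Matrix ι ι F) *ᵥ z = z +
        (2 / K) • ((f z δ - 2 / K * f w δ * f z v) • v + f z v • δ) := fun z => by
      have hEw : (E : Matrix ι ι F) *ᵥ w = w + δ := by rw [hδ]; abel
      have e1 : ∀ z p, f (((E⁻¹ : GL ι F) : Matrix ι ι F) *ᵥ z) p = f z ((E : Matrix ι ι F) *ᵥ p) := fun z p => by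
        rw [← Symp.mem_isoSub.1 (D.le hEM), gl_mulVec_inv]
      have e2 : f ((x : Matrix ι ι F) *ᵥ z) v = -f z v := by
        rw [hxv, D.hf.bilinear.add_left, D.hf.bilinear.smul_left, Symp.sub_left D.hf, D.hf.bilinear.smul_left,
          D.hf.bilinear.smul_left, D.hf.alternating, hwv]
        field_simp
        ring
      have e3 : f ((x : Matrix ι ι F) *ᵥ z) (w + δ) = f z δ - f z w - 2 / K * f z v * f w δ := by
        rw [hxv, D.hf.bilinear.add_left, D.hf.bilinear.smul_left, Symp.sub_left D.hf, D.hf.bilinear.smul_left,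
          D.hf.bilinear.smul_left, D.hf.bilinear.add_right, D.hf.bilinear.add_right, D.hf.bilinear.add_right,
          D.hf.alternating, hvw, hvδ]
        field_simp
        ring
      rw [hB, gl_mul_mulVec, gl_mul_mulVec, gl_mul_mulVec, hxv (((E⁻¹ : GL ι F) : Matrix ι ι F) *ᵥ _), e1, e1, hEv,
        hEw, e2, e3, mulVec_add, mulVec_smul, mulVec_sub, mulVec_smul, mulVec_smul, gl_mulVec_inv, hEv, hEw, hxv z]
      module
    have hBn : ∀ b, (B : Matrix ι ι F) *ᵥ T b n = T b n := fun b => by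
      have : f (T b n) δ = 0 := by rw [D.hf.skew, D.pol_cod, hδn, Symp.zero_left D.s1, mul_zero, neg_zero]
      rw [hBv, hTv, this]
      simp
    obtain ⟨t₀, ht₀⟩ : ∃ t₀ : F, D.cob b₀ δ = y + t₀ • n := by
      refine ⟨-f₁ (D.cod y w) b₀ - f₂ y y / 2, ?_⟩
      rw [hδ', map_sub, map_sub, D.cob_tvec, D.cob_tvec, D.cob_tvec, D.s1.bilinear.smul_left, hb₀]
      module
    obtain ⟨p, hp⟩ : ∃ p, p = y + t₀ • n := ⟨_, rfl⟩
    rw [← hp] at ht₀
    have hp0 : p ∉ Submodule.span F {n} := fun h => hyn (by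
      have := Submodule.sub_mem _ h (Submodule.smul_mem _ t₀ (Submodule.mem_span_singleton_self n))
      rwa [hp, add_sub_cancel_right] at this)
    -- the translation part is a multiple of `p`
    have hline : ∀ y', f₂ y' n = 0 → ∃ l : F, (∀ u, (B : Matrix ι ι F) *ᵥ T u y' = T u (y' + l • p)) ∧
        (l ≠ 0 → f₂ p p = 0) := by
      intro y' hy'
      obtain ⟨e', he'⟩ := D.fix_pure hr hM hn hnn hBM hBn hy'
      obtain ⟨N, hN⟩ : ∃ N, N = e' - y' := ⟨_, rfl⟩
      by_cases hN0 : N = 0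
      · refine ⟨0, fun u => ?_, fun h => absurd rfl h⟩
        rw [zero_smul, add_zero, he', ← sub_eq_zero.1 (hN.symm.trans hN0)]
      let αf : (ι → F) →ₗ[F] F := (2 / K) • (Symp.sfun D.hf δ - (2 / K * f w δ) • Symp.sfun D.hf v)
      let φ : (Fin r → F) →ₗ[F] (F × F) :=
        ((αf.prod ((2 / K) • Symp.sfun D.hf v))).comp (tR e P y')
      have hφ : ∀ u, T u N = (φ u).1 • v + (φ u).2 • δ := fun u => by
        have h1 := hBv (T u y')
        rw [he', show e' = y' + N by rw [hN]; abel, tvec_add_right] at h1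
        rw [add_left_cancel h1]
        show _ = ((2 / K) • (f (T u y') δ - (2 / K * f w δ) * f (T u y') v)) • v + ((2 / K) • f (T u y') v) • δ
        simp only [smul_eq_mul]
        module
      have hφi : Function.Injective φ := (injective_iff_map_eq_zero φ).2 fun u hu => by
        have h1 := hφ u
        rw [hu] at h1
        simp only [Prod.fst_zero, Prod.snd_zero, zero_smul, add_zero] at h1
        exact tvec_left_inj hN0 (h1.trans (tvec_zero_left _).symm)
      have hsurj := (LinearMap.injective_iff_surjective_of_finrank_eq_finrank (by simp [hr])).1 hφi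
      obtain ⟨u₂, hu₂⟩ := hsurj (0, 1)
      have hδN : δ = T u₂ N := by rw [hφ, hu₂]; simp
      have hpN : p = f₁ u₂ b₀ • N := by rw [← ht₀, hδN, D.cob_tvec]
      have hs₂ : f₁ u₂ b₀ ≠ 0 := fun h => hp0 (by rw [hpN, h, zero_smul]; exact Submodule.zero_mem _)
      have hNN : f₂ N N = 0 := by
        have h1 : f (T c N) (T a N) = 0 := by
          rw [hφ c, hφ a]
          simp only [D.hf.bilinear.add_left, D.hf.bilinear.add_right, D.hf.bilinear.smul_left,
            D.hf.bilinear.smul_right, D.hf.alternating, hvδ, D.hf.skew δ v]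
          ring
        rw [D.pol, hca, one_mul] at h1
        exact (mul_eq_zero.1 h1).resolve_left D.kne
      refine ⟨(f₁ u₂ b₀)⁻¹, fun u => ?_, fun _ => ?_⟩
      · rw [he', hpN, smul_smul, inv_mul_cancel₀ hs₂, one_smul, hN, add_sub_cancel]
      · rw [hpN, hg₂.bilinear.smul_left, hg₂.bilinear.smul_right, hNN, mul_zero, mul_zero]
    choose l hl hlp using hline
    have hl0 : ∀ y' (hy' : f₂ y' n = 0), l y' hy' = 0 := by
      intro y' hy'
      by_contra hne
      have hpp := hlp y' hy' hne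
      have hrel : ∀ y'' (hy'' : f₂ y'' n = 0), l y' hy' * f₂ p y'' + l y'' hy'' * f₂ y' p = 0 := fun y'' hy'' => by
        have h1 := Symp.mem_isoSub.1 (D.le hBM) (T c y') (T a y'')
        rw [hl y' hy', hl y'' hy'', D.pol, D.pol, hca, one_mul, one_mul] at h1
        simp only [hg₂.bilinear.add_left, hg₂.bilinear.add_right, hg₂.bilinear.smul_left, hg₂.bilinear.smul_right,
          hpp] at h1
        linear_combination mul_left_cancel₀ D.kne h1
      have h0 : f₂ y' p = 0 := by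
        have h1 := hrel y' hy'
        rw [hg₂.symm p y'] at h1
        exact (mul_eq_zero.1 ((mul_eq_zero.1 (show (2 : F) * (l y' hy' * f₂ y' p) = 0 by
          linear_combination h1)).resolve_left h2)).resolve_left hne
      have hperp : ∀ y'', f₂ y'' n = 0 → f₂ p y'' = 0 := fun y'' hy'' => by
        have h1 := hrel y'' hy''
        rw [h0, mul_zero, add_zero] at h1
        exact (mul_eq_zero.1 h1).resolve_left hne
      refine hp0 (Submodule.mem_span_singleton.2 ⟨f₂ p q, (sub_eq_zero.1 (sym_eq_zero hg₂ fun z => ?_)).symm⟩)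
      have h1 := hperp (z - f₂ z n • q) (by rw [Orth.sym_sub_left hg₂, hg₂.bilinear.smul_left, hq, mul_one, sub_self])
      rw [Orth.sym_sub_right hg₂, hg₂.bilinear.smul_right] at h1
      rw [Orth.sym_sub_left hg₂, hg₂.bilinear.smul_left, hg₂.symm n z]
      linear_combination h1
    have hB1 : B = 1 := D.central_eq_one hM hn hnn hBM fun z hz =>
      D.ext_perp hq (L := Matrix.mulVecLin (B : Matrix ι ι F)) (L' := LinearMap.id) (fun u y' hy' => by
        show (B : Matrix ι ι F) *ᵥ T u y' = T u y'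
        rw [hl y' hy', hl0, zero_smul, add_zero]) hz
    have h1 := hBv w
    rw [hB1, Units.val_one, one_mulVec, hwv] at h1
    refine ⟨f w δ / K, fun b => ⟨-f₁ (D.cod y w) b - f₂ y y / 2 * f₁ u0 b, ?_⟩⟩
    have h3 : δ = (f w δ / K) • v := by
      have h4 : (2 / K) • ((f w δ - 2 / K * f w δ * K) • v + K • δ) = 0 := add_eq_left.1 h1.symm
      have h5 := (smul_eq_zero.1 h4).resolve_left (div_ne_zero h2 hK)
      rw [mul_comm (2 / K), mul_assoc, div_mul_cancel₀ _ hK] at h5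
      have h6 : K • δ = K • ((f w δ / K) • v) := by
        rw [smul_smul, mul_div_cancel₀ _ hK]
        linear_combination (norm := module) h5
      exact smul_right_injective _ hK h6
    have h4 := congrArg (D.cob b) (h3.symm.trans hδ')
    rw [map_smul, map_sub, map_sub, D.cob_tvec, D.cob_tvec, D.cob_tvec, D.s1.bilinear.smul_left] at h4
    rw [h4]
    module
  -- a first point `y`
  have hex : ∀ {V : Type _} [AddCommGroup V] [Module F V] [FiniteDimensional F V] (L : (Fin s → F) →ₗ[F] V)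
      (S : Submodule F (Fin s → F)), Module.finrank F V + Module.finrank F S < s → ∃ y, L y = 0 ∧ y ∉ S := by
    intro V _ _ _ L S hlt
    by_contra hcon
    push Not at hcon
    have h1 := LinearMap.finrank_range_add_finrank_ker L
    have h3 := Submodule.finrank_le (LinearMap.range L)
    have h4 := Submodule.finrank_mono (show LinearMap.ker L ≤ S from fun y hy => hcon y hy)
    simp at h1
    omega
  obtain ⟨y, hLy, hyn⟩ := hex ((Orth.sfl hg₂ (D.cob a v)).prod ((Orth.sfl hg₂ (D.cob c v)).prod (Orth.sfl hg₂ n)))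
    (Submodule.span F {n}) (by rw [finrank_span_singleton hn]; simp; omega)
  have hy1 : f₂ y (D.cob a v) = 0 := congrArg Prod.fst hLy
  have hy2 : f₂ y (D.cob c v) = 0 := congrArg (fun z => z.2.1) hLy
  have hy3 : f₂ y n = 0 := congrArg (fun z => z.2.2) hLy
  have hyv := hsupp y hy1 hy2
  obtain ⟨γ, hγ⟩ := hstep y hy3 hyv hyn
  have hγ0 : γ ≠ 0 := fun h => hyn (by
    obtain ⟨t, ht⟩ := hγ b₀
    rw [h, zero_smul, hb₀, one_smul] at ht
    rw [eq_neg_of_add_eq_zero_left ht]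
    exact Submodule.neg_mem _ (Submodule.smul_mem _ t (Submodule.mem_span_singleton_self n)))
  obtain ⟨S, hS⟩ : ∃ S : Submodule F (Fin s → F), S = Submodule.span F {y, n} := ⟨_, rfl⟩
  have hcobS : ∀ b, D.cob b v ∈ S := fun b => by
    obtain ⟨t, ht⟩ := hγ b
    have h1 : γ • D.cob b v ∈ S := by
      rw [← ht, hS]
      exact Submodule.mem_span_pair.2 ⟨_, _, rfl⟩
    have := S.smul_mem γ⁻¹ h1
    rwa [smul_smul, inv_mul_cancel₀ hγ0, one_smul] at this
  have hSdim : Module.finrank F S ≤ 2 := by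
    classical
    rw [hS, ← Matrix.range_cons_cons_empty y n ![]]
    exact (finrank_range_le_card (R := F) _).trans (by simp)
  -- a second one, outside `⟨y, n⟩`
  obtain ⟨y', hLy', hy'S⟩ := hex ((Orth.sfl hg₂ y).prod (Orth.sfl hg₂ n)) S (by simp; omega)
  have hy'y : f₂ y' y = 0 := congrArg Prod.fst hLy'
  have hy'n : f₂ y' n = 0 := congrArg Prod.snd hLy'
  have hy'v : ∀ b, f₂ y' (D.cob b v) = 0 := fun b => by
    obtain ⟨p1, p2, hp⟩ := Submodule.mem_span_pair.1 (hS ▸ hcobS b)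
    rw [← hp, hg₂.bilinear.add_right, hg₂.bilinear.smul_right, hg₂.bilinear.smul_right, hy'y, hy'n]
    ring
  obtain ⟨γ', hγ'⟩ := hstep y' hy'n (hsupp y' (hy'v a) (hy'v c)) fun h => hy'S (by
    rw [hS]
    exact Submodule.span_mono (by simp) h)
  obtain ⟨t, ht⟩ := hγ' b₀
  rw [hb₀, one_smul] at ht
  refine hy'S ?_
  have h1 := S.sub_mem (S.smul_mem γ' (hcobS b₀)) (S.smul_mem t (show n ∈ S from hS ▸ Submodule.subset_span (by simp)))
  rwa [← ht, add_sub_cancel_right] at h1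

end CfsgLib.Perm.Trans.TensorSO
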