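import Mathlib
import Cfsg.Agent.Lib.Perm.Trans.TensorSO.TwoRow

/-!
# The symplectic-orthogonal tensor product subgroup is maximal
-/

set_option autoImplicit false
set_option linter.all false

namespace CfsgLib.Perm.Trans.TensorSO

open scoped Matrix Kronecker
open Matrix Cfsg.Geo CfsgLib.Perm.Asch CfsgLib.Perm.Trans CfsgLib.Perm.Trans.TensorFrame
open CfsgLib.Perm.Trans.TensorMax

theorem two_ne_zero_of_odd_card {F : Type*} [Field F] [Fintype F] (h : Odd (Fintype.card F)) : (2 : F) ≠ 0 := by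
  intro h0
  haveI : CharP F 2 := CharTwo.of_one_ne_zero_of_two_eq_zero one_ne_zero h0
  obtain ⟨n, hp, hn⟩ := FiniteField.card F 2
  rw [hn] at h
  exact absurd h (Nat.not_odd_iff_even.2 (Nat.even_pow.2 ⟨even_two, n.pos.ne'⟩))

theorem exists_non_sign {F : Type*} [Field F] [Fintype F] (h : 3 < Fintype.card F) :
    ∃ t : F, t ≠ 0 ∧ t * t ≠ 1 := by
  classical
  by_contra hcon
  push Not at hcon
  have hsub : (Finset.univ : Finset F) ⊆ {0, 1, -1} := fun t _ => by
    simp only [Finset.mem_insert, Finset.mem_singleton]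
    by_cases ht : t = 0
    · exact Or.inl ht
    · exact Or.inr (mul_self_eq_one_iff.1 (hcon t ht))
  have h1 := Finset.card_le_card hsub
  rw [Finset.card_univ] at h1
  have h2 : ({0, 1, -1} : Finset F).card ≤ 3 := Finset.card_le_three
  omega

variable {ι : Type} [Fintype ι] [DecidableEq ι] {F : Type*} [Field F] [Fintype F] {r s : ℕ}
variable {e : ι ≃ Fin r × Fin s} {P : GL ι F}
variable {f : (ι → F) → (ι → F) → F} {f₁ : (Fin r → F) → (Fin r → F) → F} {f₂ : (Fin s → F) → (Fin s → F) → F}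
variable {k : F} {M : Subgroup (GL ι F)}

local notation "T" => tvec e P

/-- a pure transvection is not a tensor product -/
theorem SO.not_tensor (D : SO f f₁ f₂ e P k M) : ¬ Symp.isoSub f ≤ tensorProductSubgroup r s e P := by
  intro hle
  obtain ⟨a, ha⟩ : ∃ a : Fin r → F, a ≠ 0 := ⟨Pi.single ⟨0, D.rpos⟩ 1, by simp⟩
  obtain ⟨c, hca⟩ := D.exists_partner ha
  obtain ⟨y, b, hyb⟩ := D.exists_unit_pair
  obtain ⟨y', hy'0, hy', -⟩ := exists_perp_pair D.s2 D.three b b
  have hb : b ≠ 0 := fun h => by rw [h, Orth.sym_zero_right D.s2] at hyb; exact zero_ne_one hyb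
  obtain ⟨A, B, hAB⟩ := mem_tensor (hle (Symp.stv_iso D.hf (T a b) 1))
  have e1 := hAB a y
  have e2 := hAB c y
  have e3 := hAB a y'
  have e4 := hAB c y'
  rw [Symp.stv_mulVec, D.pol, D.s1.alternating, zero_mul, mul_zero, mul_zero, zero_smul, add_zero] at e1 e3
  rw [Symp.stv_mulVec, D.pol, hca, hyb, one_mul, one_mul, mul_one] at e2
  rw [Symp.stv_mulVec, D.pol, hy', mul_zero, mul_zero, mul_zero, zero_smul, add_zero] at e4
  have hBy' : (B : Matrix (Fin s) (Fin s) F) *ᵥ y' ≠ 0 := fun h => hy'0 (gl_mulVec_eq_zero.1 h)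
  obtain ⟨γ, hγ⟩ := exists_dot_one hBy'
  have h3 := congrArg (co e P γ) e3
  have h4 := congrArg (co e P γ) e4
  rw [co_tvec, co_tvec, hγ, one_smul] at h3 h4
  rw [← h3, tvec_smul_left, ← tvec_smul_right] at e1
  rw [← h4, tvec_smul_left, ← tvec_smul_right] at e2
  have h5 : y = (γ ⬝ᵥ y') • ((B : Matrix (Fin s) (Fin s) F) *ᵥ y) := by
    have h := congrArg (D.cob c) e1
    rw [D.cob_tvec, D.cob_tvec, D.s1.skew a c, hca, neg_one_smul, neg_one_smul, neg_inj] at h
    exact h
  rw [← tvec_smul_right (γ ⬝ᵥ y'), ← h5, add_eq_left] at e2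
  exact tvec_ne_zero ha (smul_ne_zero D.kne hb) e2

/-- the tensor product subgroup is maximal -/
theorem symp_orth_maximal (hf : IsSymplecticForm f) (h1 : IsSymplecticForm f₁) (h2 : IsSymmetricForm f₂)
    (hT : IsTensorFormStructure id f f₁ f₂ e P) (htwo : (2 : F) ≠ 0) (hs : 3 ≤ s) (hn : 10 ≤ Fintype.card ι)
    (hex : 4 ≤ s ∨ ∃ t : F, t ≠ 0 ∧ t * t ≠ 1) :
    IsMaximalIn (Symp.isoSub f) (tensorProductSubgroup r s e P ⊓ Symp.isoSub f) := by
  obtain ⟨k, hk, hpol⟩ := tvec_form (σ := id) (fun a b => rfl) (sesq_of_bilinear h1.bilinear)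
    (sesq_of_bilinear h2.bilinear) hT
  have hcard : Fintype.card ι = r * s := by simpa using Fintype.card_congr e
  have hr : 0 < r := Nat.pos_of_ne_zero fun h => by rw [h, Nat.zero_mul] at hcard; omega
  obtain ⟨d, hd⟩ := isSymplecticForm_even h1
  have base : ∀ M : Subgroup (GL ι F), tensorProductSubgroup r s e P ⊓ Symp.isoSub f ≤ M → M ≤ Symp.isoSub f →
      SO f f₁ f₂ e P k M := fun M hHM hM => ⟨hf, h1, h2, htwo, hk, hr, hs, hpol, hM, hHM⟩
  refine ⟨lt_of_le_of_ne inf_le_right fun h => ?_, fun M hHM hM => ?_⟩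
  · exact (base _ inf_le_right le_rfl).not_tensor (h ▸ inf_le_left)
  by_cases hfull : Symp.isoSub f ≤ M
  · exact Or.inr (le_antisymm hM hfull)
  left
  have D := base M hHM hM
  refine le_antisymm (le_inf ?_ hM) hHM
  by_cases hr2 : r = 2
  · subst hr2
    exact D.le_tensor_two rfl (by omega) hfull
  by_cases hrs : r < 2 * s
  · exact D.le_tensor_small (by omega) hrs hfull hex
  · exact D.le_tensor_large (by omega) hfull hex

end CfsgLib.Perm.Trans.TensorSO
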