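import Mathlib
import Cfsg.Agent.Lib.Perm.Trans.TensorSO.Max

/-!
# Adapted coordinates for a plane tensor a three-dimensional orthogonal space
-/

set_option autoImplicit false
set_option linter.all false

namespace CfsgLib.Perm.Trans.TensorSO

open scoped Matrix Kronecker
open Matrix Cfsg.Geo CfsgLib.Perm.Asch CfsgLib.Perm.Trans CfsgLib.Perm.Trans.TensorFrame
open CfsgLib.Perm.Trans.TensorMax

variable {ι : Type} [Fintype ι] [DecidableEq ι] {F : Type*} [Field F] [Fintype F] {r s : ℕ}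
variable {e : ι ≃ Fin r × Fin s} {P : GL ι F}
variable {f : (ι → F) → (ι → F) → F} {f₁ : (Fin r → F) → (Fin r → F) → F} {f₂ : (Fin s → F) → (Fin s → F) → F}
variable {k : F} {M : Subgroup (GL ι F)}

local notation "T" => tvec e P

/-- the standing assumptions for `2 × 3`: an overgroup without all transvections over a large field -/
structure SO.Small (D : SO f f₁ f₂ e P k M) : Prop where
  r2 : r = 2
  s3 : s = 3
  notfull : ¬ Symp.isoSub f ≤ M
  big : 5 ≤ Fintype.card F

/-- adapted coordinates -/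
structure SO.Fr (D : SO f f₁ f₂ e P k M) (a c : Fin r → F) (n q y : Fin s → F) : Prop where
  ca : f₁ c a = 1
  nn : f₂ n n = 0
  qq : f₂ q q = 0
  qn : f₂ q n = 1
  yn : f₂ y n = 0
  yq : f₂ y q = 0
  yy : f₂ y y ≠ 0

variable (D : SO f f₁ f₂ e P k M)
include D

theorem SO.Small.hex (S : D.Small) : 4 ≤ s ∨ ∃ t : F, t ≠ 0 ∧ t * t ≠ 1 :=
  Or.inr (exists_non_sign (by have := S.big; omega))

theorem SO.dec_left (hr : r = 2) {a c : Fin r → F} (hca : f₁ c a = 1) (u : Fin r → F) :
    u = f₁ u a • c - f₁ u c • a := by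
  subst hr
  refine sub_eq_zero.1 ?_
  by_contra hne
  obtain ⟨p, hp⟩ := (D.s1.nondegenerate _ hne).2
  obtain ⟨z, hz⟩ : ∃ z, z = u - (f₁ u a • c - f₁ u c • a) := ⟨_, rfl⟩
  have e1 : f₁ z a = 0 := by
    simp [hz, Symp.sub_left D.s1, D.s1.bilinear.smul_left, hca, D.s1.alternating]
  have e2 : f₁ z c = 0 := by
    simp [hz, Symp.sub_left D.s1, D.s1.bilinear.smul_left, D.s1.skew a c, hca, D.s1.alternating]
  have hli : LinearIndependent F ![c, a] := LinearIndependent.pair_iff.2 fun s t h => by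
    have h1 := congrArg (fun v => f₁ v a) h
    have h3 := congrArg (fun v => f₁ v c) h
    simp [D.s1.bilinear.add_left, D.s1.bilinear.smul_left, hca, D.s1.alternating, Symp.zero_left D.s1] at h1
    simp [D.s1.bilinear.add_left, D.s1.bilinear.smul_left, D.s1.skew a c, hca, D.s1.alternating,
      Symp.zero_left D.s1] at h3
    exact ⟨h1, h3⟩
  have htop := hli.span_eq_top_of_card_eq_finrank (by simp)
  have hp' : p ∈ Submodule.span F (Set.range ![c, a]) := by rw [htop]; trivial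
  rw [Matrix.range_cons, Matrix.range_cons, Matrix.range_empty, Set.union_empty, Set.singleton_union] at hp'
  obtain ⟨s, t, rfl⟩ := Submodule.mem_span_pair.1 hp'
  rw [← hz, D.s1.bilinear.add_right, D.s1.bilinear.smul_right, D.s1.bilinear.smul_right, e1, e2] at hp
  exact hp (by ring)

theorem SO.decV (hr : r = 2) {a c : Fin r → F} (hca : f₁ c a = 1) (z : ι → F) :
    z = T c (D.cob a z) - T a (D.cob c z) := by
  refine LinearMap.congr_fun (lin_ext (e := e) (P := P) (f := LinearMap.id)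
    (g := (tL e P c).comp (D.cob a) - (tL e P a).comp (D.cob c)) fun u w => ?_) z
  show T u w = T c (D.cob a (T u w)) - T a (D.cob c (T u w))
  rw [D.cob_tvec, D.cob_tvec, tvec_smul_right, tvec_smul_right, ← tvec_smul_left, ← tvec_smul_left, ← tvec_sub_left,
    ← D.dec_left hr hca]

theorem SO.Fr.ane {a c : Fin r → F} {n q y : Fin s → F} (X : D.Fr a c n q y) : a ≠ 0 := fun h => by
  have := X.ca; rw [h, Symp.zero_right D.s1] at this; exact zero_ne_one this

theorem SO.Fr.cne {a c : Fin r → F} {n q y : Fin s → F} (X : D.Fr a c n q y) : c ≠ 0 := fun h => by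
  have := X.ca; rw [h, Symp.zero_left D.s1] at this; exact zero_ne_one this

theorem SO.Fr.nne {a c : Fin r → F} {n q y : Fin s → F} (X : D.Fr a c n q y) : n ≠ 0 := fun h => by
  have := X.qn; rw [h, Orth.sym_zero_right D.s2] at this; exact zero_ne_one this

theorem SO.Fr.ac {a c : Fin r → F} {n q y : Fin s → F} (X : D.Fr a c n q y) : f₁ a c = -1 := by
  rw [D.s1.skew, X.ca]

theorem SO.Fr.nq {a c : Fin r → F} {n q y : Fin s → F} (X : D.Fr a c n q y) : f₂ n q = 1 := by
  rw [D.s2.symm, X.qn]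

theorem SO.Fr.ny {a c : Fin r → F} {n q y : Fin s → F} (X : D.Fr a c n q y) : f₂ n y = 0 := by
  rw [D.s2.symm, X.yn]

theorem SO.Fr.qy {a c : Fin r → F} {n q y : Fin s → F} (X : D.Fr a c n q y) : f₂ q y = 0 := by
  rw [D.s2.symm, X.yq]

/-- three vectors with the Gram matrix of a hyperbolic line and a point span -/
theorem SO.span_three (hs : s = 3) {n q y : Fin s → F} (hnn : f₂ n n = 0) (hqq : f₂ q q = 0) (hqn : f₂ q n = 1)
    (hyn : f₂ y n = 0) (hyq : f₂ y q = 0) (hy : y ≠ 0) (w : Fin s → F) :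
    w ∈ Submodule.span F (Set.range ![n, q, y]) := by
  have hg := D.s2
  have hli : LinearIndependent F ![n, q, y] := Fintype.linearIndependent_iff.2 fun g hg0 i => by
    simp only [Fin.sum_univ_three, Matrix.cons_val_zero, Matrix.cons_val_one, Matrix.cons_val_two, Matrix.tail_cons,
      Matrix.head_cons] at hg0
    have h1 := congrArg (fun v => f₂ v n) hg0
    have h2 := congrArg (fun v => f₂ v q) hg0
    simp [hg.bilinear.add_left, hg.bilinear.smul_left, hnn, hqn, hyn, Orth.sym_zero_left hg] at h1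
    simp [hg.bilinear.add_left, hg.bilinear.smul_left, hg.symm n q, hqn, hqq, hyq, Orth.sym_zero_left hg] at h2
    rw [h1, h2, zero_smul, zero_smul, zero_add, zero_add, smul_eq_zero] at hg0
    fin_cases i
    exacts [h2, h1, hg0.resolve_right hy]
  rw [hli.span_eq_top_of_card_eq_finrank (by simp [hs])]
  trivial

theorem SO.decW (hs : s = 3) {a c : Fin r → F} {n q y : Fin s → F} (X : D.Fr a c n q y) (w : Fin s → F) :
    w = f₂ w q • n + f₂ w n • q + (f₂ w y / f₂ y y) • y := by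
  have hy : y ≠ 0 := fun h => X.yy (by rw [h, Orth.sym_zero_left D.s2])
  have hw := D.span_three hs X.nn X.qq X.qn X.yn X.yq hy w
  obtain ⟨g, rfl⟩ := (Submodule.mem_span_range_iff_exists_fun F).1 hw
  simp only [Fin.sum_univ_three, Matrix.cons_val_zero, Matrix.cons_val_one, Matrix.cons_val_two, Matrix.tail_cons,
    Matrix.head_cons, D.s2.bilinear.add_left, D.s2.bilinear.smul_left, X.nn, X.qq, X.qn, X.yn, X.yq, X.nq D, X.ny D,
    X.qy D, mul_zero, mul_one, add_zero, zero_add, mul_div_cancel_right₀ _ X.yy]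

theorem SO.decD (hs : s = 3) {a c : Fin r → F} {n q y : Fin s → F} (X : D.Fr a c n q y) (z : ι → F) :
    z = T (D.cod q z) n + T (D.cod n z) q + T ((f₂ y y)⁻¹ • D.cod y z) y := by
  refine LinearMap.congr_fun (lin_ext (e := e) (P := P) (f := LinearMap.id)
    (g := (tR e P n).comp (D.cod q) + (tR e P q).comp (D.cod n) + (tR e P y).comp ((f₂ y y)⁻¹ • D.cod y))
    fun u w => ?_) z
  show T u w = T (D.cod q (T u w)) n + T (D.cod n (T u w)) q + T ((f₂ y y)⁻¹ • D.cod y (T u w)) y
  rw [D.cod_tvec, D.cod_tvec, D.cod_tvec, smul_smul, tvec_smul_left, tvec_smul_left, tvec_smul_left, ← tvec_smul_right,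
    ← tvec_smul_right, ← tvec_smul_right, ← tvec_add_right, ← tvec_add_right, inv_mul_eq_div]
  conv_lhs => rw [D.decW hs X w]

/-- adapted coordinates at a singular vector -/
theorem SO.exists_frame (hs : s = 3) {a c : Fin r → F} (hca : f₁ c a = 1) {n : Fin s → F} (hn : n ≠ 0)
    (hnn : f₂ n n = 0) : ∃ q y, D.Fr a c n q y := by
  have hg := D.s2
  obtain ⟨q0, hq0⟩ := exists_dot_ne_zero hn hg
  obtain ⟨q1, hq1⟩ : ∃ q1, f₂ q1 n = 1 :=
    ⟨(f₂ n q0)⁻¹ • q0, by rw [hg.bilinear.smul_left, hg.symm q0 n, inv_mul_cancel₀ hq0]⟩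
  obtain ⟨q, hqdef⟩ : ∃ q, q = q1 - (f₂ q1 q1 / 2) • n := ⟨_, rfl⟩
  have hqn : f₂ q n = 1 := by rw [hqdef, Orth.sym_sub_left hg, hg.bilinear.smul_left, hnn, mul_zero, sub_zero, hq1]
  have hqq : f₂ q q = 0 := by
    simp only [hqdef, Orth.sym_sub_left hg, Orth.sym_sub_right hg, hg.bilinear.smul_left, hg.bilinear.smul_right, hnn,
      hq1, hg.symm n q1]
    have := D.two
    field_simp
    ring
  obtain ⟨y, hy0, hyn, hyq⟩ := exists_perp_pair hg D.three n q
  refine ⟨q, y, hca, hnn, hqq, hqn, hyn, hyq, fun hyy => hy0 (sym_eq_zero hg fun w => ?_)⟩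
  have hw := D.span_three hs hnn hqq hqn hyn hyq hy0 w
  obtain ⟨g, rfl⟩ := (Submodule.mem_span_range_iff_exists_fun F).1 hw
  simp [Fin.sum_univ_three, hg.bilinear.add_right, hg.bilinear.smul_right, hyn, hyq, hyy]

/-- singular vectors orthogonal to `n` lie on its line -/
theorem SO.Fr.singular_perp {a c : Fin r → F} {n q y : Fin s → F} (X : D.Fr a c n q y) (hs : s = 3) {w : Fin s → F}
    (hwn : f₂ w n = 0) (hww : f₂ w w = 0) : w = f₂ w q • n := by
  have h := D.decW hs X w
  rw [hwn, zero_smul, add_zero] at h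
  have h1 := hww
  rw [h, D.s2.bilinear.add_left, D.s2.bilinear.add_right, D.s2.bilinear.add_right] at h1
  simp only [D.s2.bilinear.smul_left, D.s2.bilinear.smul_right, X.nn, X.ny D, X.yn, mul_zero, zero_add] at h1
  have h2 : f₂ w y = 0 := by
    field_simp [X.yy] at h1
    simpa [X.yy] using h1
  rwa [h2, zero_div, zero_smul, add_zero] at h

/-- moving a pure singular vector to another inside the decomposition group -/
theorem SO.exists_move (S : D.Small) {a a' : Fin r → F} (ha : a ≠ 0) (ha' : a' ≠ 0) {n n' : Fin s → F} (hn : n ≠ 0)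
    (hnn : f₂ n n = 0) (hn' : n' ≠ 0) (hnn' : f₂ n' n' = 0) :
    ∃ h ∈ M, h ∈ tensorProductSubgroup r s e P ∧ (h : Matrix ι ι F) *ᵥ T a' n' = T a n := by
  have hg := D.s2
  obtain ⟨c, hca⟩ := D.exists_partner ha
  obtain ⟨B, l, hl, hB, hBn⟩ : ∃ (B : GL (Fin s) F) (l : F), l ≠ 0 ∧
      (∀ w w', f₂ ((B : Matrix (Fin s) (Fin s) F) *ᵥ w) ((B : Matrix (Fin s) (Fin s) F) *ᵥ w') = f₂ w w') ∧
      (B : Matrix (Fin s) (Fin s) F) *ᵥ n' = l • n := by
    by_cases h : f₂ n' n = 0
    · obtain ⟨q, y, X⟩ := D.exists_frame S.s3 hca hn hnn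
      have h1 := X.singular_perp D S.s3 h hnn'
      refine ⟨1, f₂ n' q, fun h0 => hn' (by rw [h1, h0, zero_smul]), fun w w' => by simp, ?_⟩
      rw [Units.val_one, one_mulVec, ← h1]
    · have hd : f₂ (n' - n) (n' - n) ≠ 0 := by
        rw [Orth.sym_sub_left hg, Orth.sym_sub_right hg, Orth.sym_sub_right hg, hnn, hnn', hg.symm n n']
        intro h0
        exact h ((mul_eq_zero.1 (show (2 : F) * f₂ n' n = 0 by linear_combination -h0)).resolve_left D.two)
      refine ⟨refl hg (n' - n) hd, 1, one_ne_zero, refl_iso hg _ hd, ?_⟩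
      have e1 : f₂ n' (n' - n) = -f₂ n' n := by rw [Orth.sym_sub_right hg, hnn', zero_sub]
      have e2 : f₂ (n' - n) (n' - n) = -(2 * f₂ n' n) := by
        rw [Orth.sym_sub_left hg, e1, Orth.sym_sub_right hg, hnn, hg.symm n n']; ring
      rw [refl_mulVec, e1, e2, one_smul]
      have := D.two
      rw [show 2 / -(2 * f₂ n' n) * -f₂ n' n = 1 by field_simp, one_smul, sub_sub_cancel]
  obtain ⟨A, hA, hAa⟩ := exists_simil D.s1 one_ne_zero ha' (a' := l⁻¹ • a) (smul_ne_zero (inv_ne_zero hl) ha)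
  refine ⟨kg e P A B, D.kg_mem_M (one_mul 1) hA fun w w' => by rw [hB, one_mul], kg_mem A B, ?_⟩
  rw [kg_tvec, hAa, hBn, tvec_smul_left, tvec_smul_right, smul_smul, inv_mul_cancel₀ hl, one_smul]

/-- roots are weakly closed -/
theorem SO.weak_three (S : D.Small) {g : GL ι F} (hg : g ∈ M) {a : Fin r → F} (ha : a ≠ 0)
    (hmem : g * D.root a 1 * g⁻¹ ∈ tensorProductSubgroup r s e P) : g ∈ tensorProductSubgroup r s e P := by
  refine (D.root_conj_cases S.notfull (SO.Small.hex D S) hg ha hmem).resolve_right ?_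
  rintro ⟨N, hN0, hN2, hNiso, -, -⟩
  have hg₂ := D.s2
  have hTS : ∀ w w', f₂ (N w) (N w') = 0 := fun w w' => by
    have h1 := hNiso (N w) w'
    rw [hN2, add_zero, hg₂.bilinear.add_right] at h1
    linear_combination h1
  have hdim : Module.finrank F (LinearMap.range N) ≤ 1 := by
    have h := Orth.two_mul_finrank_le hg₂ (W := LinearMap.range N) (by rintro _ ⟨w, rfl⟩ _ ⟨w', rfl⟩; exact hTS w w')
    have := S.s3
    simp at h
    omega
  obtain ⟨w0, hw0⟩ : ∃ w, N w ≠ 0 := by
    by_contra h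
    push Not at h
    exact hN0 (LinearMap.ext h)
  have hline : ∀ w, ∃ t : F, t • N w0 = N w := fun w => by
    have h0 : (⟨N w0, ⟨w0, rfl⟩⟩ : LinearMap.range N) ≠ 0 := fun h => hw0 (congrArg Subtype.val h)
    have h1 : Module.finrank F (LinearMap.range N) = 1 := le_antisymm hdim
      (Module.finrank_pos_iff_exists_ne_zero.2 ⟨_, h0⟩)
    obtain ⟨t, ht⟩ := exists_smul_eq_of_finrank_eq_one h1 h0 ⟨N w, ⟨w, rfl⟩⟩
    exact ⟨t, congrArg Subtype.val ht⟩
  choose φ hφ using hline
  have hsk : ∀ w w', f₂ w (N w') + f₂ (N w) w' = 0 := fun w w' => by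
    have h1 := hNiso w w'
    rw [hg₂.bilinear.add_left, hg₂.bilinear.add_right, hg₂.bilinear.add_right, hTS] at h1
    linear_combination h1
  have h1 := hsk w0 w0
  rw [hg₂.symm (N w0) w0, ← two_mul] at h1
  have h3 := (mul_eq_zero.1 h1).resolve_left D.two
  refine hw0 (sym_eq_zero hg₂ fun w => ?_)
  have h2 := hsk w0 w
  rw [← hφ w, hg₂.bilinear.smul_right, h3, mul_zero, zero_add] at h2
  exact h2

/-- Eichler elements along `y` -/
theorem SO.Fr.eich {a c : Fin r → F} {n q y : Fin s → F} (X : D.Fr a c n q y) (u : F) :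
    ∃ E ∈ M, ∀ z, (E : Matrix ι ι F) *ᵥ z = z + u • T (D.cod n z) y - u • T (D.cod y z) n -
      (u * u * f₂ y y / 2) • T (D.cod n z) n := by
  obtain ⟨E, hE, hEz⟩ := D.exists_eich X.nn (y := u • y) (by rw [D.s2.bilinear.smul_left, X.yn, mul_zero])
  refine ⟨E, hE, fun z => ?_⟩
  rw [hEz, D.cod_smul_left, D.s2.bilinear.smul_left, D.s2.bilinear.smul_right, tvec_smul_right, tvec_smul_left,
    tvec_smul_left, ← mul_assoc]

end CfsgLib.Perm.Trans.TensorSO
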