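import Mathlib
import Cfsg.Agent.Lib.Perm.Trans.TensorSO.SmallFrame

/-!
# The stabiliser of a pure singular vector consists of tensor products

Modulo the fixed vector `v = a ⊗ n`, a root acts on `v⊥` as a transvection. Two commuting such transvections
have the same centre, and an Eichler element separates two non-commuting ones.
-/

set_option autoImplicit false
set_option linter.all false

namespace CfsgLib.Perm.Trans.TensorSO

open scoped Matrix Kronecker
open Matrix Cfsg.Geo CfsgLib.Perm.Asch CfsgLib.Perm.Trans CfsgLib.Perm.Trans.TensorFrame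
open CfsgLib.Perm.Trans.TensorMax

variable {ι : Type} [Fintype ι] [DecidableEq ι] {F : Type*} [Field F] [Fintype F] {r s : ℕ}
variable {e : ι ≃ Fin r × Fin s} {P : GL ι F}
variable {f : (ι → F) → (ι → F) → F} {f₁ : (Fin r → F) → (Fin r → F) → F} {f₂ : (Fin s → F) → (Fin s → F) → F}
variable {k : F} {M : Subgroup (GL ι F)}

local notation "T" => tvec e P

/-- `u` is the centre of transvections induced on `v⊥` modulo `v` -/
def SO.Cen (D : SO f f₁ f₂ e P k M) (v u : ι → F) : Prop :=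
  f u v = 0 ∧ ∀ c : F, ∃ m ∈ M, (m : Matrix ι ι F) *ᵥ v = v ∧
    ∀ z, f z v = 0 → ∃ l : F, (m : Matrix ι ι F) *ᵥ z = z + (c * f z u) • u + l • v

variable (D : SO f f₁ f₂ e P k M)
include D

theorem SO.Cen.smul {v u : ι → F} (h : D.Cen v u) (t : F) : D.Cen v (t • u) := by
  refine ⟨by rw [D.hf.bilinear.smul_left, h.1, mul_zero], fun c => ?_⟩
  obtain ⟨m, hm, hmv, hmz⟩ := h.2 (c * t * t)
  refine ⟨m, hm, hmv, fun z hz => ?_⟩
  obtain ⟨l, hl⟩ := hmz z hz
  exact ⟨l, by rw [hl, D.hf.bilinear.smul_right, smul_smul]; congr 3; ring⟩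

theorem SO.Cen.add_fixed {v u : ι → F} (h : D.Cen v u) (t : F) : D.Cen v (u + t • v) := by
  refine ⟨by rw [D.hf.bilinear.add_left, h.1, D.hf.bilinear.smul_left, D.hf.alternating, mul_zero, add_zero],
    fun c => ?_⟩
  obtain ⟨m, hm, hmv, hmz⟩ := h.2 c
  refine ⟨m, hm, hmv, fun z hz => ?_⟩
  obtain ⟨l, hl⟩ := hmz z hz
  refine ⟨l - c * f z u * t, ?_⟩
  rw [hl, D.hf.bilinear.add_right, D.hf.bilinear.smul_right, hz, mul_zero, add_zero]
  module

theorem SO.Cen.conj {v u : ι → F} (h : D.Cen v u) {g : GL ι F} (hg : g ∈ M) (hgv : (g : Matrix ι ι F) *ᵥ v = v) :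
    D.Cen v ((g : Matrix ι ι F) *ᵥ u) := by
  have hI := Symp.mem_isoSub.1 (D.le hg)
  refine ⟨by conv_lhs => rw [← hgv, hI, h.1], fun c => ?_⟩
  obtain ⟨m, hm, hmv, hmz⟩ := h.2 c
  have hgv' : ((g⁻¹ : GL ι F) : Matrix ι ι F) *ᵥ v = v := by conv_lhs => rw [← hgv, gl_inv_mulVec]
  refine ⟨g * m * g⁻¹, mul_mem (mul_mem hg hm) (inv_mem hg), by rw [gl_mul_mulVec, gl_mul_mulVec, hgv', hmv, hgv],
    fun z hz => ?_⟩
  obtain ⟨z0, rfl⟩ : ∃ z0, z = (g : Matrix ι ι F) *ᵥ z0 := ⟨_, (gl_mulVec_inv g z).symm⟩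
  obtain ⟨l, hl⟩ := hmz z0 (by rwa [← hgv, hI] at hz)
  refine ⟨l, ?_⟩
  rw [gl_mul_mulVec, gl_mul_mulVec, gl_inv_mulVec, hl, mulVec_add, mulVec_add, mulVec_smul, mulVec_smul, hgv, hI]

theorem SO.Cen.line {v u w : ι → F} (hu : D.Cen v u) (hw : D.Cen v w) (hne : f u w ≠ 0) (t : F) :
    D.Cen v (u + t • w) := by
  obtain ⟨m, hm, hmv, hmz⟩ := hw.2 (t / f u w)
  obtain ⟨l, hl⟩ := hmz u hu.1
  have h := SO.Cen.add_fixed D (SO.Cen.conj D hu hm hmv) (-l)
  rw [hl, div_mul_cancel₀ _ hne] at h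
  convert h using 1
  module

variable {a c : Fin r → F} {n q y : Fin s → F} (X : D.Fr a c n q y)
include X

theorem SO.Fr.perp_v {z : ι → F} (hz : f z (T a n) = 0) : f₂ (D.cob a z) n = 0 := by
  rw [D.pol_cob] at hz
  exact (mul_eq_zero.1 hz).resolve_left D.kne

theorem SO.Fr.root_mod (S : D.Small) (t : F) {z : ι → F} (hz : f z (T a n) = 0) :
    (D.root a t : Matrix ι ι F) *ᵥ z =
      z + (t / (k * f₂ y y) * f z (T a y)) • T a y + (t * f₂ (D.cob a z) q) • T a n := by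
  rw [D.root_mulVec]
  conv_lhs => rw [D.decW S.s3 X (D.cob a z), X.perp_v D hz, zero_smul, add_zero]
  rw [D.pol_cob, smul_add, tvec_add_right, smul_smul, smul_smul, tvec_smul_right, tvec_smul_right]
  have := D.kne
  have := X.yy
  match_scalars <;> field_simp

theorem SO.Fr.root_v (t : F) : (D.root a t : Matrix ι ι F) *ᵥ T a n = T a n := by
  rw [D.root_mulVec, D.cob_self, smul_zero, tvec_zero_right, add_zero]

theorem SO.Fr.cen_y (S : D.Small) : D.Cen (T a n) (T a y) := by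
  refine ⟨by rw [D.pol, D.s1.alternating, zero_mul, mul_zero], fun t => ?_⟩
  refine ⟨D.root a (t * (k * f₂ y y)), D.root_mem a _, X.root_v D _, fun z hz => ⟨t * (k * f₂ y y) * f₂ (D.cob a z) q, ?_⟩⟩
  rw [X.root_mod D S _ hz, mul_div_assoc, div_self (mul_ne_zero D.kne X.yy), mul_one]

/-- elements trivial on `v⊥` modulo `v` are trivial -/
theorem SO.Fr.quotient_trivial (S : D.Small) {m : GL ι F} (hm : m ∈ M)
    (hmv : (m : Matrix ι ι F) *ᵥ T a n = T a n)
    (hmz : ∀ z, f z (T a n) = 0 → ∃ l : F, (m : Matrix ι ι F) *ᵥ z = z + l • T a n) : m = 1 := by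
  have hg := D.s2
  obtain ⟨l, hl⟩ := hmz (T c n) (by rw [D.pol, X.nn, mul_zero, mul_zero])
  obtain ⟨μ, hμ⟩ := hmz (T c y) (by rw [D.pol, X.yn, mul_zero, mul_zero])
  obtain ⟨μ', hμ'⟩ := hmz (T a y) (by rw [D.pol, X.yn, mul_zero, mul_zero])
  obtain ⟨g, hgdef⟩ : ∃ g, g = D.root a (-l) * m := ⟨_, rfl⟩
  have hgM : g ∈ M := hgdef ▸ mul_mem (D.root_mem _ _) hm
  have hdec := D.dec_left S.r2 X.ca
  have hgfix : ∀ b, (g : Matrix ι ι F) *ᵥ T b n = T b n := fun b => by
    rw [hdec b, tvec_sub_left, tvec_smul_left, tvec_smul_left, mulVec_sub, mulVec_smul, mulVec_smul, hgdef,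
      gl_mul_mulVec, gl_mul_mulVec, hl, hmv, mulVec_add, mulVec_smul, X.root_v D]
    rw [D.root_mulVec, D.cob_tvec, X.ca, one_smul, tvec_smul_right]
    module
  obtain ⟨e₀, he₀⟩ := D.fix_pure S.r2 S.notfull (X.nne D) X.nn hgM hgfix X.yn
  have h1 := congrArg (D.cob c) (he₀ c)
  rw [hgdef, gl_mul_mulVec, hμ, mulVec_add, mulVec_smul, X.root_v D, D.root_mulVec, D.cob_tvec, X.ca, one_smul,
    map_add, map_add, map_smul, D.cob_tvec, D.cob_tvec, D.cob_tvec, D.cob_tvec, D.s1.alternating, X.ac D, zero_smul,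
    zero_add] at h1
  have hl0 : l = 0 := by
    have h2 := congrArg (fun w => f₂ w y) h1
    simp [hg.bilinear.add_left, hg.bilinear.smul_left, X.ny D, X.yy, Orth.sym_zero_left hg, Orth.sym_neg_left hg] at h2
    exact h2
  have hgm : g = m := by
    rw [hgdef, hl0, neg_zero]
    refine gl_ext_vec fun z => ?_
    rw [gl_mul_mulVec, D.root_mulVec, zero_smul, tvec_zero_right, add_zero]
  rw [hgm] at he₀ hgfix
  have hμ0 : μ = 0 := by
    rw [hl0] at h1
    have h2 := congrArg (fun w => f₂ w q) h1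
    simp [hg.bilinear.add_left, hg.bilinear.smul_left, X.nq D, Orth.sym_zero_left hg, Orth.sym_neg_left hg, hg.symm n q, X.qn] at h2
    exact h2
  rw [hμ0, zero_smul, add_zero] at hμ
  have hey : y = e₀ := by
    have h2 := congrArg (D.cob a) ((hμ.symm.trans (he₀ c)))
    rwa [D.cob_tvec, D.cob_tvec, X.ca, one_smul, one_smul] at h2
  rw [← hey] at he₀
  refine D.central_eq_one S.notfull (X.nne D) X.nn hm fun z hz => ?_
  refine D.ext_perp (n := n) X.qn (L := Matrix.mulVecLin (m : Matrix ι ι F)) (L' := LinearMap.id) (fun u w hw => ?_) hz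
  show (m : Matrix ι ι F) *ᵥ T u w = T u w
  conv_lhs => rw [D.decW S.s3 X w, hw, zero_smul, add_zero]
  conv_rhs => rw [D.decW S.s3 X w, hw, zero_smul, add_zero]
  rw [tvec_add_right, tvec_smul_right, tvec_smul_right, mulVec_add, mulVec_smul, mulVec_smul, hgfix, he₀]

/-- centres orthogonal to that of the root -/
theorem SO.Fr.cen_perp (S : D.Small) {u : ι → F} (hu : D.Cen (T a n) u) (hperp : f (T a y) u = 0) :
    ∃ x₁ x₂ : F, u = x₁ • T a y + x₂ • T a n := by
  have hg := D.s2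
  obtain ⟨m, hm, hmv, hmz⟩ := hu.2 1
  obtain ⟨R, hR⟩ : ∃ R, R = D.root a (k * f₂ y y) := ⟨_, rfl⟩
  have hRM : R ∈ M := hR ▸ D.root_mem _ _
  have hRv : (R : Matrix ι ι F) *ᵥ T a n = T a n := hR ▸ X.root_v D _
  have hRz : ∀ z, f z (T a n) = 0 → ∃ l : F, (R : Matrix ι ι F) *ᵥ z = z + f z (T a y) • T a y + l • T a n :=
    fun z hz => ⟨k * f₂ y y * f₂ (D.cob a z) q, by
      rw [hR, X.root_mod D S _ hz, div_self (mul_ne_zero D.kne X.yy), one_mul]⟩
  have hperp' : f u (T a y) = 0 := Symp.swap_zero D.hf hperp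
  have hay : f (T a y) (T a n) = 0 := by rw [D.pol, D.s1.alternating, zero_mul, mul_zero]
  obtain ⟨lm, hlm⟩ := hmz _ hay
  obtain ⟨lr, hlr⟩ := hRz _ hu.1
  rw [hperp, mul_zero, zero_smul, add_zero] at hlm
  rw [hperp', zero_smul, add_zero] at hlr
  -- the commutator is trivial modulo `v`
  have hcomm : m * R = R * m := by
    have h := X.quotient_trivial D S (m := (R * m)⁻¹ * (m * R))
      (mul_mem (inv_mem (mul_mem hRM hm)) (mul_mem hm hRM)) (by
        rw [gl_mul_mulVec, gl_mul_mulVec, hRv, hmv]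
        conv_lhs => rw [show T a n = ((R * m : GL ι F) : Matrix ι ι F) *ᵥ T a n by rw [gl_mul_mulVec, hmv, hRv],
          gl_inv_mulVec]) fun z hz => by
      obtain ⟨l1, e1⟩ := hRz z hz
      obtain ⟨l2, e2⟩ := hmz z hz
      refine ⟨(f z (T a y) * lm + l1 + l2) - (l2 + f z u * lr + l1), ?_⟩
      have key : ((m * R : GL ι F) : Matrix ι ι F) *ᵥ z = ((R * m : GL ι F) : Matrix ι ι F) *ᵥ
          (z + ((f z (T a y) * lm + l1 + l2) - (l2 + f z u * lr + l1)) • T a n) := by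
        simp only [gl_mul_mulVec, mulVec_add, mulVec_smul, hmv, hRv, e1, e2, hlm, hlr, one_mul]
        module
      rw [gl_mul_mulVec, key, gl_inv_mulVec]
    exact (inv_mul_eq_one.1 h).symm
  -- so `m` preserves `a ⊗ W`
  have hLa : ∀ w, ∃ w', (m : Matrix ι ι F) *ᵥ T a w = T a w' := fun w => by
    have hne : k * f₂ y y ≠ 0 := mul_ne_zero D.kne X.yy
    have h1 := congrArg (fun g : GL ι F => (g : Matrix ι ι F) *ᵥ T c ((k * f₂ y y)⁻¹ • w)) hcomm
    simp only [gl_mul_mulVec, hR] at h1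
    rw [D.root_mulVec, D.root_mulVec, D.cob_tvec, X.ca, one_smul, smul_smul, mul_inv_cancel₀ hne, one_smul,
      mulVec_add] at h1
    exact ⟨_, add_left_cancel h1⟩
  have hmT := D.pure_rigid S.notfull (SO.Small.hex D S) hm (X.ane D) (X.ane D) hLa
  -- the centre lies in `a ⊗ W`
  have huL : D.cob a u = 0 := by
    by_contra hne
    refine hne (sym_eq_zero hg fun w => ?_)
    by_contra hfw
    have hw : f (T a w) (T a n) = 0 := by rw [D.pol, D.s1.alternating, zero_mul, mul_zero]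
    obtain ⟨l, hl⟩ := hmz _ hw
    obtain ⟨w', hw'⟩ := hLa w
    rw [hw', one_mul] at hl
    have h2 := congrArg (D.cob a) hl
    rw [map_add, map_add, map_smul, map_smul, D.cob_self, D.cob_self, D.cob_self, smul_zero, zero_add,
      add_zero, D.hf.skew, D.pol_cob] at h2
    exact hne ((smul_eq_zero.1 h2.symm).resolve_left (neg_ne_zero.2 (mul_ne_zero D.kne hfw)))
  obtain ⟨α, hα⟩ : ∃ α, α = -D.cob c u := ⟨_, rfl⟩
  have huα : u = T a α := by
    conv_lhs => rw [D.decV S.r2 X.ca u, huL, tvec_zero_right, zero_sub, ← tvec_neg_right, ← hα]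
  -- it is orthogonal to `n`
  have hαn : f₂ α n = 0 := by
    obtain ⟨l, hl⟩ := hmz (T c n) (by rw [D.pol, X.nn, mul_zero, mul_zero])
    obtain ⟨A, B, hAB⟩ := mem_tensor hmT
    rw [hAB, one_mul, huα, D.pol, X.ca, one_mul, hg.symm n α] at hl
    have h1 := congrArg (D.cob a) hl
    have h2 := congrArg (D.cob c) hl
    simp only [map_add, map_smul, D.cob_tvec, D.cob_self, X.ca, X.ac D, D.s1.alternating, one_smul, zero_smul,
      neg_one_smul, smul_zero, add_zero, zero_add] at h1 h2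
    have h3 := congrArg (fun w => f₂ w n) h2
    have h4 := congrArg (fun w => f₂ w n) h1
    simp only [hg.bilinear.smul_left, hg.bilinear.add_left, Orth.sym_neg_left hg, X.nn] at h3 h4
    have hA0 : f₁ ((A : Matrix (Fin r) (Fin r) F) *ᵥ c) a ≠ 0 := fun h => X.nne D (by
      rw [← h1, h, zero_smul])
    have hBn := (mul_eq_zero.1 h4).resolve_left hA0
    rw [hBn, mul_zero] at h3
    have : k * f₂ α n * f₂ α n = 0 := by linear_combination h3
    rcases mul_eq_zero.1 this with h | h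
    · exact (mul_eq_zero.1 h).resolve_left D.kne
    · exact h
  refine ⟨f₂ α y / f₂ y y, f₂ α q, ?_⟩
  rw [huα]
  conv_lhs => rw [D.decW S.s3 X α, hαn, zero_smul, add_zero]
  rw [tvec_add_right, tvec_smul_right, tvec_smul_right, add_comm]

/-- the stabiliser of a pure singular vector -/
theorem SO.Fr.stab (S : D.Small) {g : GL ι F} (hgM : g ∈ M) (hgv : (g : Matrix ι ι F) *ᵥ T a n = T a n) :
    g ∈ tensorProductSubgroup r s e P := by
  have hg := D.s2
  have hI := Symp.mem_isoSub.1 (D.le hgM)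
  have hgv' : ((g⁻¹ : GL ι F) : Matrix ι ι F) *ᵥ T a n = T a n := by conv_lhs => rw [← hgv, gl_inv_mulVec]
  have hay : f (T a y) (T a n) = 0 := by rw [D.pol, D.s1.alternating, zero_mul, mul_zero]
  obtain ⟨e', he'⟩ : ∃ e', e' = (g : Matrix ι ι F) *ᵥ T a y := ⟨_, rfl⟩
  have hCe : D.Cen (T a n) e' := he' ▸ SO.Cen.conj D (X.cen_y D S) hgM hgv
  have hd : f₂ y y ≠ 0 := X.yy
  by_cases h0 : f (T a y) e' = 0
  · obtain ⟨x₁, x₂, hx⟩ := X.cen_perp D S hCe h0
    -- the conjugate of a root is a root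
    have hkk : k * f₂ y y ≠ 0 := mul_ne_zero D.kne hd
    have key : (D.root a (1 * (x₁ * x₁)))⁻¹ * (g * D.root a 1 * g⁻¹) = 1 := by
      refine X.quotient_trivial D S
        (mul_mem (inv_mem (D.root_mem _ _)) (mul_mem (mul_mem hgM (D.root_mem _ _)) (inv_mem hgM))) ?_ fun z hz => ?_
      · rw [gl_mul_mulVec, gl_mul_mulVec, gl_mul_mulVec, hgv', X.root_v D, hgv]
        conv_lhs => rw [← X.root_v D (1 * (x₁ * x₁)), gl_inv_mulVec]
      obtain ⟨z0, rfl⟩ : ∃ z0, z = (g : Matrix ι ι F) *ᵥ z0 := ⟨_, (gl_mulVec_inv g z).symm⟩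
      have hz0 : f z0 (T a n) = 0 := by rwa [← hgv, hI] at hz
      obtain ⟨B, hB⟩ : ∃ B, B = f z0 (T a y) := ⟨_, rfl⟩
      have hB' : f ((g : Matrix ι ι F) *ᵥ z0) (T a y) * x₁ = B := by
        have h := hI z0 (T a y)
        rw [← he', hx, D.hf.bilinear.add_right, D.hf.bilinear.smul_right, D.hf.bilinear.smul_right, hz, ← hB] at h
        linear_combination h
      refine ⟨1 / (k * f₂ y y) * B * x₂ + 1 * f₂ (D.cob a z0) q -
        1 * (x₁ * x₁) * f₂ (D.cob a ((g : Matrix ι ι F) *ᵥ z0)) q, ?_⟩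
      have e1 : ((g * D.root a 1 * g⁻¹ : GL ι F) : Matrix ι ι F) *ᵥ ((g : Matrix ι ι F) *ᵥ z0) =
          (D.root a (1 * (x₁ * x₁)) : Matrix ι ι F) *ᵥ ((g : Matrix ι ι F) *ᵥ z0 +
            (1 / (k * f₂ y y) * B * x₂ + 1 * f₂ (D.cob a z0) q -
              1 * (x₁ * x₁) * f₂ (D.cob a ((g : Matrix ι ι F) *ᵥ z0)) q) • T a n) := by
        rw [gl_mul_mulVec, gl_mul_mulVec, gl_inv_mulVec, X.root_mod D S 1 hz0, mulVec_add, mulVec_add, mulVec_smul,
          mulVec_smul, hgv, ← he', hx, mulVec_add, mulVec_smul, X.root_v D, X.root_mod D S _ hz, ← hB, ← hB']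
        match_scalars <;> ring
      rw [gl_mul_mulVec, e1, gl_inv_mulVec]
    refine D.weak_three S hgM (X.ane D) ?_
    rw [← inv_mul_eq_one.1 key]
    exact kg_mem _ _
  exfalso
  obtain ⟨αq, hαq⟩ : ∃ x, x = -f₂ (D.cob c e') n := ⟨_, rfl⟩
  obtain ⟨βy, hβy⟩ : ∃ x, x = f₂ (D.cob a e') y / f₂ y y := ⟨_, rfl⟩
  have hβn : f₂ (D.cob a e') n = 0 := X.perp_v D hCe.1
  have hβ0 : βy ≠ 0 := fun h => h0 (by
    rw [D.hf.skew, D.pol_cob]
    rw [hβy, div_eq_zero_iff] at h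
    rw [h.resolve_right hd, mul_zero, neg_zero])
  obtain ⟨E, hEM, hEz⟩ := X.eich D 1
  have hEv : (E : Matrix ι ι F) *ᵥ T a n = T a n := by
    rw [hEz, D.cod_tvec, D.cod_tvec, X.nn, X.ny D, zero_smul, tvec_zero_left, tvec_zero_left]
    simp
  have hdec := D.dec_left S.r2 X.ca
  have hcn : D.cod n e' = αq • a := by
    rw [hdec (D.cod n e'), ← D.cob_cod, ← D.cob_cod, hβn, zero_smul, zero_sub, hαq, neg_smul]
  obtain ⟨δ, hδ⟩ : ∃ δ, δ = f₁ (D.cod y e') c := ⟨_, rfl⟩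
  have hcy : D.cod y e' = (βy * f₂ y y) • c - δ • a := by
    conv_lhs => rw [hdec (D.cod y e'), ← D.cob_cod]
    rw [hβy, div_mul_cancel₀ _ hd, hδ]
  have hEe : (E : Matrix ι ι F) *ᵥ e' = e' + αq • T a y + (-(βy * f₂ y y)) • T c n +
      (δ - f₂ y y / 2 * αq) • T a n := by
    rw [hEz, hcn, hcy, tvec_smul_left, tvec_sub_left, tvec_smul_left, tvec_smul_left, tvec_smul_left]
    match_scalars <;> ring
  have hCE : D.Cen (T a n) ((E : Matrix ι ι F) *ᵥ e') := SO.Cen.conj D hCe hEM hEv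
  obtain ⟨κ, hκ⟩ : ∃ κ, κ = -(βy * f₂ y y) := ⟨_, rfl⟩
  rw [← hκ] at hEe
  have hκ0 : κ ≠ 0 := hκ ▸ neg_ne_zero.2 (mul_ne_zero hβ0 hd)
  have hee : f e' (T c n) = -(k * αq) := by
    rw [D.pol_cod, hcn, D.s1.bilinear.smul_left, X.ac D]
    ring
  have hey : f e' (T a y) ≠ 0 := Symp.swap_ne D.hf h0
  have hev : f e' (T a n) = 0 := hCe.1
  by_cases hq0 : αq = 0
  · rw [hq0, zero_smul, add_zero] at hEe
    have hperp : f e' ((E : Matrix ι ι F) *ᵥ e') = 0 := by
      rw [hEe, D.hf.bilinear.add_right, D.hf.bilinear.add_right, D.hf.alternating, D.hf.bilinear.smul_right,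
        D.hf.bilinear.smul_right, hee, hev, hq0]
      ring
    obtain ⟨x₁, x₂, hx⟩ := X.cen_perp D S (SO.Cen.conj D hCE (inv_mem hgM) hgv') (by
      rw [← hI, gl_mulVec_inv, ← he', hperp])
    have hx' := congrArg ((g : Matrix ι ι F) *ᵥ ·) hx
    simp only [gl_mulVec_inv, mulVec_add, mulVec_smul, hgv, ← he'] at hx'
    rw [hEe] at hx'
    have h1 := congrArg (D.cob a) hx'
    simp only [map_add, map_smul, D.cob_tvec, D.cob_self, X.ca, D.s1.alternating, one_smul, zero_smul, smul_zero,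
      add_zero] at h1
    have h2 := congrArg (fun w => f₂ w y) h1
    simp only [hg.bilinear.add_left, hg.bilinear.smul_left, X.ny D, mul_zero, add_zero] at h2
    have hx1 : x₁ = 1 := by
      have hβ : f₂ (D.cob a e') y ≠ 0 := fun h => hβ0 (by rw [hβy, h, zero_div])
      exact mul_right_cancel₀ hβ (by linear_combination -h2)
    rw [hx1, one_smul, add_eq_left, smul_eq_zero] at h1
    exact h1.elim hκ0 (X.nne D)
  -- an Eichler image separates the centres
  have hne1 : f ((E : Matrix ι ι F) *ᵥ e') (T a y) ≠ 0 := by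
    have h1 : f (T c n) (T a y) = 0 := by rw [D.pol, X.ny D, mul_zero, mul_zero]
    have h2 : f (T a n) (T a y) = 0 := Symp.swap_zero D.hf hay
    rwa [hEe, D.hf.bilinear.add_left, D.hf.bilinear.add_left, D.hf.bilinear.add_left, D.hf.bilinear.smul_left,
      D.hf.bilinear.smul_left, D.hf.bilinear.smul_left, D.hf.alternating, h1, h2, mul_zero, mul_zero, mul_zero,
      add_zero, add_zero, add_zero]
  have h3 := SO.Cen.add_fixed D (SO.Cen.line D hCE (X.cen_y D S) hne1 (-αq)) (-(δ - f₂ y y / 2 * αq))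
  rw [hEe, show e' + αq • T a y + κ • T c n + (δ - f₂ y y / 2 * αq) • T a n + -αq • T a y +
    -(δ - f₂ y y / 2 * αq) • T a n = e' + κ • T c n by module] at h3
  have h4 := SO.Cen.line D h3 hCe (by
    rw [D.hf.bilinear.add_left, D.hf.alternating, D.hf.bilinear.smul_left, zero_add, D.hf.skew, hee]
    exact mul_ne_zero hκ0 (neg_ne_zero.2 (neg_ne_zero.2 (mul_ne_zero D.kne hq0)))) (-1)
  have h5 := SO.Cen.smul D h4 κ⁻¹
  rw [show κ⁻¹ • (e' + κ • T c n + (-1 : F) • e') = T c n by match_scalars <;> field_simp <;> ring] at h5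
  obtain ⟨x₁, x₂, hx⟩ := X.cen_perp D S h5 (by rw [D.pol, X.yn, mul_zero, mul_zero])
  have h6 := congrArg (D.cob a) hx
  rw [map_add, map_smul, map_smul, D.cob_tvec, X.ca, one_smul, D.cob_self, D.cob_self, smul_zero, smul_zero,
    add_zero] at h6
  exact X.nne D h6

omit X in
/-- elements of `M` mapping one pure singular vector to another -/
theorem SO.stab_pure (S : D.Small) {g : GL ι F} (hg : g ∈ M) {a a' : Fin r → F} (ha : a ≠ 0) (ha' : a' ≠ 0)
    {n n' : Fin s → F} (hn : n ≠ 0) (hnn : f₂ n n = 0) (hn' : n' ≠ 0) (hnn' : f₂ n' n' = 0)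
    (h : (g : Matrix ι ι F) *ᵥ T a n = T a' n') : g ∈ tensorProductSubgroup r s e P := by
  obtain ⟨c, hca⟩ := D.exists_partner ha
  obtain ⟨q, y, X⟩ := D.exists_frame S.s3 hca hn hnn
  obtain ⟨h0, hh0, hh0T, hmove⟩ := D.exists_move S ha ha' hn hnn hn' hnn'
  have := X.stab D S (mul_mem hh0 hg) (by rw [gl_mul_mulVec, h, hmove])
  have h2 := mul_mem (inv_mem hh0T) this
  rwa [inv_mul_cancel_left] at h2

end CfsgLib.Perm.Trans.TensorSO
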