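import Mathlib
import Cfsg.Agent.Lib.Perm.Trans.TensorSO.SmallStab

/-!
# Elements acting on `U ⊗ y` as roots: their `p`-subgroups are conjugates of the root group
-/

set_option autoImplicit false
set_option linter.all false

namespace CfsgLib.Perm.Trans.TensorSO

open scoped Matrix Kronecker
open Matrix Cfsg.Geo CfsgLib.Perm.Asch CfsgLib.Perm.Trans CfsgLib.Perm.Trans.TensorFrame
open CfsgLib.Perm.Trans.TensorMax

variable {ι : Type} [Fintype ι] [DecidableEq ι] {F : Type*} [Field F] [Fintype F] {r s : ℕ}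
variable {e : ι ≃ Fin r × Fin s} {P : GL ι F}
variable {f : (ι → F) → (ι → F) → F} {f₁ : (Fin r → F) → (Fin r → F) → F} {f₂ : (Fin s → F) → (Fin s → F) → F}
variable {k : F} {M : Subgroup (GL ι F)}

local notation "T" => tvec e P

/-- `g` acts on `U ⊗ y` as the root of parameter `χ` -/
def SO.Act (D : SO f f₁ f₂ e P k M) (a : Fin r → F) (y : Fin s → F) (g : GL ι F) (χ : F) : Prop :=
  ∀ u, (g : Matrix ι ι F) *ᵥ T u y = T (u + (χ * f₁ u a) • a) y

variable (D : SO f f₁ f₂ e P k M)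
include D

theorem SO.Act.mul {a : Fin r → F} {y : Fin s → F} {g g' : GL ι F} {χ χ' : F} (h : D.Act a y g χ)
    (h' : D.Act a y g' χ') : D.Act a y (g * g') (χ + χ') := fun u => by
  rw [gl_mul_mulVec, h', h, D.s1.bilinear.add_left, D.s1.bilinear.smul_left, D.s1.alternating]
  congr 1
  module

theorem SO.Act.inv {a : Fin r → F} {y : Fin s → F} {g : GL ι F} {χ : F} (h : D.Act a y g χ) :
    D.Act a y g⁻¹ (-χ) := fun u => by
  have h1 := h (u + (-χ * f₁ u a) • a)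
  rw [D.s1.bilinear.add_left, D.s1.bilinear.smul_left, D.s1.alternating,
    show u + (-χ * f₁ u a) • a + (χ * (f₁ u a + -χ * f₁ u a * 0)) • a = u by module] at h1
  conv_lhs => rw [← h1, gl_inv_mulVec]

theorem SO.act_one {a : Fin r → F} {y : Fin s → F} : D.Act a y 1 0 := fun u => by
  rw [Units.val_one, one_mulVec, zero_mul, zero_smul, add_zero]

theorem SO.act_root (a : Fin r → F) (y : Fin s → F) (l : F) : D.Act a y (D.root a l) l := fun u => by
  rw [D.root_mulVec, D.cob_tvec, smul_smul, tvec_add_left, tvec_smul_right, tvec_smul_left]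

theorem SO.Act.unique {a c : Fin r → F} {n q y : Fin s → F} (X : D.Fr a c n q y) {g : GL ι F} {χ χ' : F}
    (h : D.Act a y g χ) (h' : D.Act a y g χ') : χ = χ' := by
  have h1 := congrArg (D.cob c) ((h c).symm.trans (h' c))
  rw [D.cob_tvec, D.cob_tvec, D.s1.bilinear.add_left, D.s1.bilinear.add_left, D.s1.bilinear.smul_left,
    D.s1.bilinear.smul_left, D.s1.alternating, X.ca, X.ac D] at h1
  have hy : y ≠ 0 := fun h => X.yy (by rw [h, Orth.sym_zero_left D.s2])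
  have h2 := smul_left_injective F hy h1
  linear_combination -h2

theorem SO.Act.pow {a : Fin r → F} {y : Fin s → F} {g : GL ι F} {χ : F} (h : D.Act a y g χ) (j : ℕ) :
    D.Act a y (g ^ j) (j * χ) := by
  induction j with
  | zero => rw [pow_zero, Nat.cast_zero, zero_mul]; exact D.act_one
  | succ j ih => rw [pow_succ, Nat.cast_succ, add_mul, one_mul]; exact SO.Act.mul D ih h

theorem SO.root_add (a : Fin r → F) (l l' : F) : D.root a l * D.root a l' = D.root a (l + l') :=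
  gl_ext_vec fun z => by
    rw [gl_mul_mulVec, D.root_mulVec, D.root_mulVec, D.root_mulVec, map_add, D.cob_self, add_zero, add_smul,
      tvec_add_right]
    abel

theorem SO.root_zero (a : Fin r → F) : D.root a 0 = 1 :=
  gl_ext_vec fun z => by rw [D.root_mulVec, zero_smul, tvec_zero_right, add_zero, Units.val_one, one_mulVec]

theorem SO.root_inv (a : Fin r → F) (l : F) : (D.root a l)⁻¹ = D.root a (-l) :=
  inv_eq_of_mul_eq_one_right (by rw [D.root_add, add_neg_cancel, D.root_zero])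

omit D in
theorem eq_one_of_pow_char {p : ℕ} [Fact p.Prime] [CharP F p] {x : F} {j : ℕ} (h : x ^ p ^ j = 1) : x = 1 := by
  have h1 : (x - 1) ^ p ^ j = 0 := by rw [sub_pow_char_pow, h, one_pow, sub_self]
  exact sub_eq_zero.1 ((pow_eq_zero_iff (pow_ne_zero _ (Fact.out : p.Prime).ne_zero)).1 h1)

variable {a c : Fin r → F} {n q y : Fin s → F} (X : D.Fr a c n q y)
include X

theorem SO.Fr.tensor_ext (S : D.Small) {g g' : GL ι F}
    (h : ∀ u, (g : Matrix ι ι F) *ᵥ T u n = (g' : Matrix ι ι F) *ᵥ T u n ∧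
      (g : Matrix ι ι F) *ᵥ T u q = (g' : Matrix ι ι F) *ᵥ T u q ∧
      (g : Matrix ι ι F) *ᵥ T u y = (g' : Matrix ι ι F) *ᵥ T u y) : g = g' :=
  gl_ext_tvec (e := e) (P := P) fun u w => by
    rw [D.decW S.s3 X w, tvec_add_right, tvec_add_right, tvec_smul_right, tvec_smul_right, tvec_smul_right]
    simp only [mulVec_add, mulVec_smul, (h u).1, (h u).2.1, (h u).2.2]

/-- the shape of a tensor element acting as a root on `U ⊗ y` -/
theorem SO.Fr.tensor_shape (S : D.Small) {g : GL ι F} (hg : g ∈ M) (hT : g ∈ tensorProductSubgroup r s e P) {χ : F}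
    (hA : D.Act a y g χ) : ∃ L : (Fin s → F) →ₗ[F] (Fin s → F), L y = y ∧
      (∀ w w', f₂ (L w) (L w') = f₂ w w') ∧ ∀ u w, (g : Matrix ι ι F) *ᵥ T u w = T (u + (χ * f₁ u a) • a) (L w) := by
  obtain ⟨A, B, hAB⟩ := mem_tensor hT
  have hg₂ := D.s2
  have hy : y ≠ 0 := fun h => X.yy (by rw [h, Orth.sym_zero_left hg₂])
  obtain ⟨ρ, hρ⟩ : ∃ ρ, ρ = f₁ ((A : Matrix (Fin r) (Fin r) F) *ᵥ a) c := ⟨_, rfl⟩
  have h1 := congrArg (D.cob c) ((hAB a y).symm.trans (hA a))
  rw [D.cob_tvec, D.cob_tvec, D.s1.alternating, mul_zero, zero_smul, add_zero, X.ac D, ← hρ] at h1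
  have hρ0 : ρ ≠ 0 := fun h => hy (by rw [h, zero_smul] at h1; simpa using h1.symm)
  have hBy : (B : Matrix (Fin s) (Fin s) F) *ᵥ y = (-ρ⁻¹) • y := by
    refine smul_right_injective (Fin s → F) hρ0 ?_
    show ρ • _ = ρ • _
    rw [h1, smul_smul, mul_neg, mul_inv_cancel₀ hρ0]
  have hAu : ∀ u, (A : Matrix (Fin r) (Fin r) F) *ᵥ u = (-ρ) • (u + (χ * f₁ u a) • a) := fun u => by
    have h2 := (hAB u y).symm.trans (hA u)
    rw [hBy, tvec_smul_right, ← tvec_smul_left] at h2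
    have h3 := tvec_left_inj hy h2
    rw [← h3, smul_smul, show -ρ * -ρ⁻¹ = 1 by field_simp, one_smul]
  let L : (Fin s → F) →ₗ[F] (Fin s → F) := (-ρ) • Matrix.mulVecLin (B : Matrix (Fin s) (Fin s) F)
  have hL : ∀ w, L w = (-ρ) • ((B : Matrix (Fin s) (Fin s) F) *ᵥ w) := fun w => rfl
  have hgT : ∀ u w, (g : Matrix ι ι F) *ᵥ T u w = T (u + (χ * f₁ u a) • a) (L w) := fun u w => by
    rw [hAB, hAu, hL, tvec_smul_left, tvec_smul_right]
  refine ⟨L, by rw [hL, hBy, smul_smul, show -ρ * -ρ⁻¹ = 1 by field_simp, one_smul], fun w w' => ?_, hgT⟩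
  have h2 := Symp.mem_isoSub.1 (D.le hg) (T c w) (T a w')
  rw [hgT, hgT, D.pol, D.pol, D.s1.alternating, mul_zero, zero_smul, add_zero, D.s1.bilinear.add_left,
    D.s1.bilinear.smul_left, D.s1.alternating, X.ca, mul_zero, add_zero, one_mul, one_mul] at h2
  exact mul_left_cancel₀ D.kne h2

/-- an isometry fixing `y` and a singular line of `y⊥` -/
theorem SO.Fr.iso_split (S : D.Small) {L : (Fin s → F) →ₗ[F] (Fin s → F)} (hy : L y = y)
    (hiso : ∀ w w', f₂ (L w) (L w') = f₂ w w') :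
    ∃ β : F, β ≠ 0 ∧ ((L n = β • n ∧ L q = β⁻¹ • q) ∨ (L n = β • q ∧ L q = β⁻¹ • n)) := by
  have hg := D.s2
  obtain ⟨x1, hx1⟩ : ∃ x, x = f₂ (L n) q := ⟨_, rfl⟩
  obtain ⟨x2, hx2⟩ : ∃ x, x = f₂ (L n) n := ⟨_, rfl⟩
  obtain ⟨z1, hz1⟩ : ∃ x, x = f₂ (L q) q := ⟨_, rfl⟩
  obtain ⟨z2, hz2⟩ : ∃ x, x = f₂ (L q) n := ⟨_, rfl⟩
  have hn' : f₂ (L n) y = 0 := by conv_lhs => rw [← hy, hiso, X.ny D]
  have hq' : f₂ (L q) y = 0 := by conv_lhs => rw [← hy, hiso, X.qy D]
  have en : L n = x1 • n + x2 • q := by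
    conv_lhs => rw [D.decW S.s3 X (L n), hn', zero_div, zero_smul, add_zero, ← hx1, ← hx2]
  have eq : L q = z1 • n + z2 • q := by
    conv_lhs => rw [D.decW S.s3 X (L q), hq', zero_div, zero_smul, add_zero, ← hz1, ← hz2]
  have g1 := hiso n n
  have g2 := hiso q q
  have g3 := hiso q n
  simp only [en, eq, hg.bilinear.add_left, hg.bilinear.add_right, hg.bilinear.smul_left, hg.bilinear.smul_right, X.nn,
    X.qq, X.qn, X.nq D] at g1 g2 g3
  have g1' : x1 * x2 = 0 := (mul_eq_zero.1 (show (2 : F) * (x1 * x2) = 0 by linear_combination g1)).resolve_left D.two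
  have g2' : z1 * z2 = 0 := (mul_eq_zero.1 (show (2 : F) * (z1 * z2) = 0 by linear_combination g2)).resolve_left D.two
  rcases mul_eq_zero.1 g1' with h | h
  · rw [h] at g3 en
    have hx20 : x2 ≠ 0 := fun h' => by rw [h'] at g3; simp at g3
    have hz10 : z1 ≠ 0 := fun h' => by rw [h'] at g3; simp at g3
    have hz20 : z2 = 0 := (mul_eq_zero.1 g2').resolve_left hz10
    refine ⟨x2, hx20, Or.inr ⟨by rw [en]; simp, ?_⟩⟩
    rw [eq, hz20, zero_smul, add_zero, show z1 = x2⁻¹ from eq_inv_of_mul_eq_one_left (by linear_combination g3)]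
  · rw [h] at g3 en
    have hx10 : x1 ≠ 0 := fun h' => by rw [h'] at g3; simp at g3
    have hz20 : z2 ≠ 0 := fun h' => by rw [h'] at g3; simp at g3
    have hz10 : z1 = 0 := (mul_eq_zero.1 g2').resolve_right hz20
    refine ⟨x1, hx10, Or.inl ⟨by rw [en]; simp, ?_⟩⟩
    rw [eq, hz10, zero_smul, zero_add, show z2 = x1⁻¹ from eq_inv_of_mul_eq_one_left (by linear_combination g3)]

/-- such elements of `p`-power order are trivial -/
theorem SO.Fr.tensor_trivial (S : D.Small) {p : ℕ} [Fact p.Prime] [CharP F p] {g : GL ι F} (hg : g ∈ M)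
    (hT : g ∈ tensorProductSubgroup r s e P) (hA : D.Act a y g 0) {j : ℕ} (hj : g ^ p ^ j = 1) : g = 1 := by
  obtain ⟨L, hLy, hLiso, hgL⟩ := X.tensor_shape D S hg hT hA
  have hgT : ∀ u w, (g : Matrix ι ι F) *ᵥ T u w = T u (L w) := fun u w => by
    rw [hgL, zero_mul, zero_smul, add_zero]
  have hgy : ∀ u, (g : Matrix ι ι F) *ᵥ T u y = T u y := fun u => by rw [hgT, hLy]
  obtain ⟨β, hβ, ⟨hn, hq⟩ | ⟨hn, hq⟩⟩ := X.iso_split D S hLy hLiso
  · have hβ1 : β = 1 := by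
      refine eq_one_of_pow_char (p := p) (j := j) ?_
      have h1 := pow_mulVec_eigen (u := g) (v := T a n) (t := β) (by rw [hgT, hn, tvec_smul_right]) (p ^ j)
      rw [hj, Units.val_one, one_mulVec] at h1
      refine smul_left_injective F (tvec_ne_zero (e := e) (P := P) (X.ane D) (X.nne D)) ?_
      show β ^ p ^ j • T a n = (1 : F) • T a n
      rw [← h1, one_smul]
    rw [hβ1] at hn hq
    refine X.tensor_ext D S fun u => ?_
    rw [hgT, hgT, hn, hq, hgy, inv_one, one_smul, one_smul, Units.val_one]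
    exact ⟨(one_mulVec _).symm, (one_mulVec _).symm, (one_mulVec _).symm⟩
  · have h2 : g ^ 2 = 1 := by
      refine X.tensor_ext D S fun u => ?_
      simp only [sq, gl_mul_mulVec, hgT, hLy, hn, hq, tvec_smul_right, mulVec_smul, smul_smul, mul_inv_cancel₀ hβ,
        inv_mul_cancel₀ hβ, one_smul, Units.val_one, one_mulVec, and_self]
    have hodd : Odd (p ^ j) := ((Fact.out : p.Prime).odd_of_ne_two fun h => D.two (by
      have := CharP.cast_eq_zero F p; rw [h] at this; exact_mod_cast this)).pow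
    obtain ⟨i, hi⟩ := hodd
    rw [hi, pow_succ, pow_mul, h2, one_pow, one_mul] at hj
    exact hj

/-- elements of `p`-power order acting as roots on `U ⊗ y` are conjugates of roots -/
theorem SO.Fr.conj_root (S : D.Small) {p : ℕ} [Fact p.Prime] [CharP F p] {g : GL ι F} (hg : g ∈ M) {χ : F}
    (hA : D.Act a y g χ) {j : ℕ} (hj : g ^ p ^ j = 1) :
    ∃ κ ∈ M, (∃ χ' : F, D.Act a y κ χ') ∧ g = κ * D.root a χ * κ⁻¹ := by
  classical
  let G0 : Subgroup (GL ι F) :=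
    { carrier := {h | h ∈ M ∧ ∃ χ : F, D.Act a y h χ}
      mul_mem' := by
        rintro x x' ⟨hx, χ, hχ⟩ ⟨hx', χ', hχ'⟩
        exact ⟨mul_mem hx hx', _, SO.Act.mul D hχ hχ'⟩
      one_mem' := ⟨one_mem M, 0, D.act_one⟩
      inv_mem' := by
        rintro x ⟨hx, χ, hχ⟩
        exact ⟨inv_mem hx, _, SO.Act.inv D hχ⟩ }
  let ρ : Multiplicative F →* G0 :=
    { toFun := fun l => ⟨D.root a l.toAdd, D.root_mem a _, _, D.act_root a y _⟩
      map_one' := Subtype.ext (D.root_zero a)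
      map_mul' := fun l l' => Subtype.ext (D.root_add a l.toAdd l'.toAdd).symm }
  have hR : IsPGroup p ρ.range := by
    rintro ⟨_, l, rfl⟩
    refine ⟨1, Subtype.ext ?_⟩
    rw [pow_one, SubmonoidClass.coe_pow, ← map_pow, OneMemClass.coe_one,
      show l ^ p = 1 from Multiplicative.toAdd.injective (by simp), map_one]
  obtain ⟨Q, hQ⟩ := hR.exists_le_sylow
  have hQR : (Q : Subgroup G0) ≤ ρ.range := by
    by_contra hlt
    haveI : Group.IsNilpotent (Q : Subgroup G0) := Q.2.isNilpotent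
    have hnc := normalizerCondition_of_isNilpotent (G := (Q : Subgroup G0)) (ρ.range.subgroupOf (Q : Subgroup G0))
      (lt_top_iff_ne_top.2 fun h => hlt (by
        intro x hx
        have : (⟨x, hx⟩ : (Q : Subgroup G0)) ∈ ρ.range.subgroupOf (Q : Subgroup G0) := h ▸ Subgroup.mem_top _
        exact this))
    obtain ⟨⟨w, hwQ⟩, hwn, hwR⟩ := SetLike.exists_of_lt hnc
    refine hwR ?_
    show w ∈ ρ.range
    have hconj := (Subgroup.mem_normalizer_iff.1 hwn ⟨ρ (Multiplicative.ofAdd 1), hQ ⟨_, rfl⟩⟩).1 ⟨_, rfl⟩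
    obtain ⟨l, hl⟩ : w * ρ (Multiplicative.ofAdd 1) * w⁻¹ ∈ ρ.range := hconj
    have hl' : (w : GL ι F) * D.root a 1 * (w : GL ι F)⁻¹ = D.root a l.toAdd := (congrArg Subtype.val hl).symm
    have hwT := D.weak_three S w.2.1 (X.ane D) (by rw [hl']; exact kg_mem _ _)
    obtain ⟨χ', hχ'⟩ := w.2.2
    obtain ⟨w', hw'⟩ : ∃ w', w' = ρ (Multiplicative.ofAdd (-χ')) * w := ⟨_, rfl⟩
    have hw'Q : w' ∈ (Q : Subgroup G0) := hw' ▸ mul_mem (hQ ⟨_, rfl⟩) hwQ
    obtain ⟨i, hi⟩ := Q.2 ⟨w', hw'Q⟩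
    have hi' : (w' : GL ι F) ^ p ^ i = 1 := congrArg (fun x : (Q : Subgroup G0) => ((x : G0) : GL ι F)) hi
    have hA' : D.Act a y (w' : GL ι F) 0 := by
      rw [hw']
      have := SO.Act.mul D (D.act_root a y (-χ')) hχ'
      rwa [neg_add_cancel] at this
    have h1 := X.tensor_trivial D S w'.2.1 (by rw [hw']; exact mul_mem (kg_mem _ _) hwT) hA' hi'
    have h2 : w' = 1 := Subtype.ext h1
    rw [hw'] at h2
    rw [eq_inv_of_mul_eq_one_right h2]
    exact inv_mem ⟨_, rfl⟩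
  let g0 : G0 := ⟨g, hg, χ, hA⟩
  have hZ : IsPGroup p (Subgroup.zpowers g0) := by
    intro x
    refine ⟨j, ?_⟩
    obtain ⟨i, hi⟩ := Subgroup.mem_zpowers_iff.1 x.2
    refine Subtype.ext ?_
    have hg0 : g0 ^ p ^ j = 1 := Subtype.ext hj
    rw [SubmonoidClass.coe_pow, ← hi, OneMemClass.coe_one, ← zpow_natCast, ← _root_.zpow_mul, mul_comm, _root_.zpow_mul,
      zpow_natCast, hg0, _root_.one_zpow]
  obtain ⟨Q', hQ'⟩ := hZ.exists_le_sylow
  obtain ⟨κ, hκ⟩ := MulAction.exists_smul_eq G0 Q Q'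
  have hmem : g0 ∈ (Q' : Subgroup G0) := hQ' (Subgroup.mem_zpowers g0)
  rw [← hκ] at hmem
  have hmem' : κ⁻¹ * g0 * κ ∈ (Q : Subgroup G0) := by
    rw [Sylow.coe_subgroup_smul] at hmem
    obtain ⟨x, hx, hx'⟩ := hmem
    have e1 : κ⁻¹ * g0 * κ = x := by
      rw [← hx']
      simp [MulAut.conj_apply, mul_assoc]
    rw [e1]
    exact hx
  obtain ⟨l, hl⟩ := hQR hmem'
  have hl' : D.root a l.toAdd = (κ : GL ι F)⁻¹ * g * (κ : GL ι F) := congrArg Subtype.val hl
  obtain ⟨χ', hχ'⟩ := κ.2.2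
  have hlχ : l.toAdd = χ := by
    have h := SO.Act.mul D (SO.Act.mul D (SO.Act.inv D hχ') hA) hχ'
    rw [← hl', show -χ' + χ + χ' = χ by ring] at h
    exact SO.Act.unique D X (D.act_root a y _) h
  refine ⟨κ, κ.2.1, ⟨χ', hχ'⟩, ?_⟩
  rw [← hlχ, hl']
  group

/-- vectors outside `U ⊗ y` fixed by such an element span a totally isotropic subspace -/
theorem SO.Fr.fixed_isotropic (S : D.Small) {p : ℕ} [Fact p.Prime] [CharP F p] {g : GL ι F} (hg : g ∈ M) {χ : F}
    (hχ : χ ≠ 0) (hA : D.Act a y g χ) {j : ℕ} (hj : g ^ p ^ j = 1) {z z' : ι → F}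
    (hz : (g : Matrix ι ι F) *ᵥ z = z) (hz' : (g : Matrix ι ι F) *ᵥ z' = z') : f z z' = 0 := by
  obtain ⟨κ, hκM, -, hgκ⟩ := X.conj_root D S hg hA hj
  have key : ∀ z, (g : Matrix ι ι F) *ᵥ z = z →
      ∃ w, ((κ⁻¹ : GL ι F) : Matrix ι ι F) *ᵥ z = T a w := fun z hz => by
    rw [hgκ, gl_mul_mulVec, gl_mul_mulVec, D.root_mulVec] at hz
    have h1 := congrArg (((κ⁻¹ : GL ι F) : Matrix ι ι F) *ᵥ ·) hz
    simp only [gl_inv_mulVec, add_eq_left] at h1
    have h2 := congrArg (D.cob c) h1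
    rw [D.cob_tvec, X.ac D, map_zero, smul_smul, smul_eq_zero] at h2
    have h3 := h2.resolve_left (mul_ne_zero (neg_ne_zero.2 one_ne_zero) hχ)
    exact ⟨-D.cob c (((κ⁻¹ : GL ι F) : Matrix ι ι F) *ᵥ z), by
      conv_lhs => rw [D.decV S.r2 X.ca (((κ⁻¹ : GL ι F) : Matrix ι ι F) *ᵥ z), h3, tvec_zero_right, zero_sub,
        ← tvec_neg_right]⟩
  obtain ⟨w, hw⟩ := key z hz
  obtain ⟨w', hw'⟩ := key z' hz'
  rw [← Symp.mem_isoSub.1 (D.le (inv_mem hκM)) z z', hw, hw', D.pol, D.s1.alternating, zero_mul, mul_zero]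

end CfsgLib.Perm.Trans.TensorSO
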