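import Mathlib
import Cfsg.Agent.Lib.Perm.Trans.TensorSO.SmallSylow

/-!
# Quadratic elements acting as the root on `U ⊗ y` are the root

`P = NN' + N'N` commutes with both nilpotents, and `h + h⁻¹ = 2 + tP` for `h = (1 + N)(1 + tN')`; so the
semisimple behaviour of `h` is read off from the operator induced by `P` on the plane `y⊥`.
-/

set_option autoImplicit false
set_option linter.all false

namespace CfsgLib.Perm.Trans.TensorSO

open scoped Matrix Kronecker
open Matrix Cfsg.Geo CfsgLib.Perm.Asch CfsgLib.Perm.Trans CfsgLib.Perm.Trans.TensorFrame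
open CfsgLib.Perm.Trans.TensorMax

section Ring

variable {F V : Type*} [Field F] [Fintype F] [AddCommGroup V] [Module F V]

/-- `U² = d` on `v` gives `U ^ Q v = U v` when `d ^ ((Q-1)/2) = 1` -/
theorem pow_half {U : Module.End F V} {v : V} {d : F} (h : (U * U) v = d • v) (J : ℕ) :
    (U ^ (2 * J + 1)) v = d ^ J • U v := by
  induction J with
  | zero => simp
  | succ J ih =>
    rw [show 2 * (J + 1) + 1 = 2 * J + 1 + 2 by ring, pow_add, Module.End.mul_apply, sq, h, map_smul, ih, smul_smul,
      pow_succ']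

theorem pow_eigen {U : Module.End F V} {v : V} {b : F} (h : U v = b • v) (j : ℕ) : (U ^ j) v = b ^ j • v := by
  induction j with
  | zero => simp
  | succ j ih => rw [pow_succ, Module.End.mul_apply, h, map_smul, ih, smul_smul, pow_succ']

end Ring

variable {ι : Type} [Fintype ι] [DecidableEq ι] {F : Type*} [Field F] [Fintype F] {r s : ℕ}
variable {e : ι ≃ Fin r × Fin s} {P : GL ι F}
variable {f : (ι → F) → (ι → F) → F} {f₁ : (Fin r → F) → (Fin r → F) → F} {f₂ : (Fin s → F) → (Fin s → F) → F}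
variable {k : F} {M : Subgroup (GL ι F)}

local notation "T" => tvec e P

omit [Fintype ι] [DecidableEq ι] in
/-- in characteristic `p` the powers of `2`, of scalars and sums behave -/
theorem frob_add {V : Type*} [AddCommGroup V] [Module F V] [Nontrivial V] {p : ℕ} [Fact p.Prime] [CharP F p]
    {x y : Module.End F V} (h : Commute x y) (i : ℕ) : (x + y) ^ p ^ i = x ^ p ^ i + y ^ p ^ i := by
  haveI : CharP (Module.End F V) p := charP_of_injective_algebraMap (algebraMap F (Module.End F V)).injective p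
  exact add_pow_char_pow_of_commute _ _ h

variable (D : SO f f₁ f₂ e P k M)
include D

/-- the key lemma -/
theorem SO.Fr.quad_root {a c : Fin r → F} {n q y : Fin s → F} (X : D.Fr a c n q y) (S : D.Small)
    (N' : Module.End F (ι → F)) (hsq : ∀ z, N' (N' z) = 0) (hy' : ∀ u, N' (T u y) = T (f₁ u a • a) y)
    (hex : ∀ t : F, ∃ x ∈ M, ∀ z, (x : Matrix ι ι F) *ᵥ z = z + t • N' z) (z₀ : ι → F) :
    N' z₀ = T a (D.cob a z₀) := by
  classical
  have hg := D.s2
  have h2 := D.two
  obtain ⟨p, hp⟩ := CharP.exists F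
  haveI : Fact p.Prime := ⟨CharP.char_is_prime F p⟩
  haveI : Nonempty ι := ⟨e.symm (⟨0, by have := S.r2; omega⟩, ⟨0, by have := S.s3; omega⟩)⟩
  haveI : Nonempty (Fin s) := ⟨⟨0, by have := S.s3; omega⟩⟩
  obtain ⟨⟨nF, hnF0⟩, -, hcardF⟩ := FiniteField.card F p
  simp only [PNat.mk_coe] at hcardF
  have hqodd : Fintype.card F % 2 = 1 := FiniteField.odd_card_of_char_ne_two fun h => D.two (by
    haveI := ringChar.of_eq h
    exact CharTwo.two_eq_zero)
  -- skewness
  have hskew : ∀ z z', f (N' z) z' + f z (N' z') = 0 := by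
    intro z z'
    obtain ⟨x, hx, hxz⟩ := hex 1
    obtain ⟨x', hx', hxz'⟩ := hex (-1)
    have e1 := Symp.mem_isoSub.1 (D.le hx) z z'
    have e2 := Symp.mem_isoSub.1 (D.le hx') z z'
    simp only [hxz, hxz', one_smul, neg_one_smul, D.hf.bilinear.add_left, D.hf.bilinear.add_right,
      Symp.neg_left D.hf, Symp.neg_right D.hf] at e1 e2
    exact (mul_eq_zero.1 (show (2 : F) * (f (N' z) z' + f z (N' z')) = 0 by
      linear_combination e1 - e2)).resolve_left h2
  let N : Module.End F (ι → F) := (tL e P a).comp (D.cob a)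
  have hN : ∀ z, N z = T a (D.cob a z) := fun z => rfl
  have hNN : N * N = 0 := LinearMap.ext fun z => by
    rw [Module.End.mul_apply, hN, hN, D.cob_self, tvec_zero_right, LinearMap.zero_apply]
  have hN'N' : N' * N' = 0 := LinearMap.ext fun z => by rw [Module.End.mul_apply, hsq, LinearMap.zero_apply]
  let B : Module.End F (Fin s → F) := (D.cob a).comp (N'.comp (tL e P a))
  have hB : ∀ w, B w = D.cob a (N' (T a w)) := fun w => rfl
  have hBy : B y = 0 := by
    rw [hB, hy', D.s1.alternating, zero_smul, tvec_zero_left, map_zero]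
  have hBperp : ∀ w, f₂ (B w) y = 0 := fun w => by
    have h1 := hskew (T a w) (T a y)
    rw [hy', D.s1.alternating, zero_smul, tvec_zero_left, Symp.zero_right D.hf, add_zero, D.pol_cob] at h1
    exact (mul_eq_zero.1 h1).resolve_left D.kne
  let Pi : Module.End F (ι → F) := N * N' + N' * N
  have hPiN : N' * Pi = Pi * N' := by
    simp only [Pi, mul_add, add_mul, ← mul_assoc]
    simp only [mul_assoc, hN'N', mul_zero, zero_add]
    simp only [← mul_assoc, hN'N', zero_mul, add_zero]
  have hPiN0 : N * Pi = Pi * N := by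
    simp only [Pi, mul_add, add_mul, ← mul_assoc]
    simp only [mul_assoc, hNN, mul_zero, add_zero]
    simp only [← mul_assoc, hNN, zero_mul, zero_add]
  have hNa : ∀ w, N (T a w) = 0 := fun w => by rw [hN, D.cob_self, tvec_zero_right]
  have hPi : ∀ w, Pi (T a w) = T a (B w) := fun w => by
    show N (N' (T a w)) + N' (N (T a w)) = _
    rw [hNa, map_zero, add_zero, hN, hB]
  have hPipow : ∀ j w, (Pi ^ j) (T a w) = T a ((B ^ j) w) := fun j => by
    induction j with
    | zero => intro w; simp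
    | succ j ih => intro w; rw [pow_succ, pow_succ, Module.End.mul_apply, Module.End.mul_apply, hPi, ih]
  -- coordinates of `B` on the plane
  obtain ⟨b11, h11⟩ : ∃ x, x = f₂ (B n) q := ⟨_, rfl⟩
  obtain ⟨b21, h21⟩ : ∃ x, x = f₂ (B n) n := ⟨_, rfl⟩
  obtain ⟨b12, h12⟩ : ∃ x, x = f₂ (B q) q := ⟨_, rfl⟩
  obtain ⟨b22, h22⟩ : ∃ x, x = f₂ (B q) n := ⟨_, rfl⟩
  have hBn : B n = b11 • n + b21 • q := by
    conv_lhs => rw [D.decW S.s3 X (B n), hBperp, zero_div, zero_smul, add_zero, ← h11, ← h21]
  have hBq : B q = b12 • n + b22 • q := by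
    conv_lhs => rw [D.decW S.s3 X (B q), hBperp, zero_div, zero_smul, add_zero, ← h12, ← h22]
  obtain ⟨tr, htr⟩ : ∃ x, x = b11 + b22 := ⟨_, rfl⟩
  obtain ⟨dt, hdt⟩ : ∃ x, x = b11 * b22 - b12 * b21 := ⟨_, rfl⟩
  have hdecD : ∀ w, f₂ w y = 0 → w = f₂ w q • n + f₂ w n • q := fun w hw => by
    conv_lhs => rw [D.decW S.s3 X w, hw, zero_div, zero_smul, add_zero]
  have hCH : ∀ w, f₂ w y = 0 → B (B w) = tr • B w - dt • w := fun w hw => by
    rw [hdecD w hw]
    simp only [map_add, map_smul, hBn, hBq, htr, hdt]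
    match_scalars <;> ring
  -- general facts on `h = (1 + N)(1 + t N')`
  have hopfix : ∀ (t : F) (i : ℕ) (h hi : Module.End F (ι → F)) (J : ℕ), h = (1 + N) * (1 + t • N') →
      hi = (1 - t • N') * (1 - N) → p ^ i = 2 * J + 1 → (∀ x : F, x ^ p ^ i = x) → ∀ w,
      (B ^ p ^ i) w = B w → ((((t * t) • (B * B) + (4 * t) • B) ^ J) w = w) →
      (h ^ (2 * J)) (T a w) = T a w ∧ (h ^ (2 * J)) (N' (T a w)) = N' (T a w) := by
    intro t i h hi J hh hhi hQ hscal w hBQ hW
    have hA : (1 + t • N') * (1 - t • N') = 1 := by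
      simp [mul_sub, add_mul, smul_mul_smul_comm, hN'N']
    have hA' : (1 - t • N') * (1 + t • N') = 1 := by
      simp [mul_add, sub_mul, smul_mul_smul_comm, hN'N']
    have hB1 : (1 + N) * (1 - N) = 1 := by simp [mul_sub, add_mul, hNN]
    have hB2 : (1 - N) * (1 + N) = 1 := by simp [mul_add, sub_mul, hNN]
    have h1 : h * hi = 1 := by rw [hh, hhi, mul_assoc, ← mul_assoc (1 + t • N'), hA, one_mul, hB1]
    have h1' : hi * h = 1 := by rw [hh, hhi, mul_assoc, ← mul_assoc (1 - N), hB2, one_mul, hA']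
    have hcomm : Commute h hi := h1.trans h1'.symm
    have hsum : h + hi = (2 : F) • (1 : Module.End F (ι → F)) + t • Pi := by
      rw [hh, hhi]
      simp only [Pi, add_mul, mul_add, sub_mul, mul_sub, one_mul, mul_one, smul_mul_assoc, mul_smul_comm]
      module
    obtain ⟨u, hu⟩ : ∃ u, u = h - hi := ⟨_, rfl⟩
    have huu : u * u = (t * t) • (Pi * Pi) + (4 * t) • Pi := by
      have e1 : u * u = (h + hi) * (h + hi) - (4 : F) • (1 : Module.End F (ι → F)) := by
        rw [hu]
        simp only [add_mul, mul_add, sub_mul, mul_sub, h1, h1']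
        module
      rw [e1, hsum]
      simp only [add_mul, mul_add, smul_mul_assoc, mul_smul_comm, one_mul, mul_one]
      module
    have hsmp : ∀ (x : F) (Y : Module.End F (ι → F)), (x • Y) ^ p ^ i = x • Y ^ p ^ i := fun x Y => by
      rw [smul_pow, hscal]
    have hsQ : h ^ p ^ i + hi ^ p ^ i = (2 : F) • (1 : Module.End F (ι → F)) + t • Pi ^ p ^ i := by
      rw [← frob_add hcomm, hsum, frob_add ((Commute.one_left _).smul_left _ |>.smul_right _), hsmp, hsmp, one_pow]
    have huQ : u ^ p ^ i = h ^ p ^ i - hi ^ p ^ i := by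
      have h3 := frob_add (p := p) (x := u) (y := hi) (by rw [hu]; exact hcomm.sub_left rfl) i
      rw [show u + hi = h by rw [hu, sub_add_cancel]] at h3
      rw [h3, add_sub_cancel_right]
    have hcP : ∀ j, Commute N' (((t * t) • (Pi * Pi) + (4 * t) • Pi) ^ j) := fun j => by
      refine Commute.pow_right (Commute.add_right (Commute.smul_right ?_ _) (Commute.smul_right hPiN _)) _
      exact Commute.mul_right hPiN hPiN
    have hW' : ∀ j w, (((t * t) • (Pi * Pi) + (4 * t) • Pi) ^ j) (T a w) =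
        T a ((((t * t) • (B * B) + (4 * t) • B) ^ j) w) := fun j => by
      induction j with
      | zero => intro w; simp
      | succ j ih =>
        intro w
        rw [pow_succ, pow_succ, Module.End.mul_apply, Module.End.mul_apply]
        simp only [LinearMap.add_apply, LinearMap.smul_apply, Module.End.mul_apply, hPi, ← tvec_smul_right,
          ← tvec_add_right]
        exact ih _
    have key : ∀ v, (Pi ^ p ^ i) v = Pi v → (((t * t) • (Pi * Pi) + (4 * t) • Pi) ^ J) v = v →
        (h ^ (2 * J)) v = v := by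
      intro v hPv hWv
      have e1 : (u ^ p ^ i) v = u v := by
        rw [hQ, pow_succ', pow_mul, sq, huu, Module.End.mul_apply, hWv]
      have e2 : (h ^ p ^ i) v = h v := by
        refine smul_right_injective (ι → F) h2 ?_
        show (2 : F) • _ = (2 : F) • _
        have e3 := LinearMap.congr_fun hsQ v
        have e4 := LinearMap.congr_fun huQ v
        have e5 := LinearMap.congr_fun hsum v
        rw [e1, hu] at e4
        simp only [LinearMap.add_apply, LinearMap.sub_apply, LinearMap.smul_apply, Module.End.one_apply, hPv] at e3 e4 e5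
        linear_combination (norm := module) e3 - e4 - e5
      rw [hQ, pow_succ'] at e2
      have e6 := congrArg hi e2
      rwa [← Module.End.mul_apply, ← Module.End.mul_apply, ← mul_assoc, h1', one_mul, Module.End.one_apply] at e6
    have f1' : (Pi ^ p ^ i) (T a w) = Pi (T a w) := by rw [hPipow, hBQ, hPi]
    have f2' : (((t * t) • (Pi * Pi) + (4 * t) • Pi) ^ J) (T a w) = T a w := by rw [hW', hW]
    refine ⟨key _ f1' f2', key _ ?_ ?_⟩
    · have hc : Commute N' (Pi ^ p ^ i) := Commute.pow_right hPiN _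
      rw [← Module.End.mul_apply, ← hc.eq, Module.End.mul_apply, f1', ← Module.End.mul_apply, hPiN,
        Module.End.mul_apply]
    · rw [← Module.End.mul_apply, ← (hcP J).eq, Module.End.mul_apply, f2']
  have hval : f₂ (B n) n = b21 := h21.symm
  have hpairf : ∀ w, f (N' (T a w)) (T a w) = k * f₂ (B w) w := fun w => by rw [D.pol_cob, hB]
  -- the unipotent part of `h`
  have hpart : ∀ t : F, 1 + t ≠ 0 → ∀ (i J : ℕ), 1 ≤ i → p ^ i = 2 * J + 1 → (∀ x : F, x ^ p ^ i = x) →
      ∃ g ∈ M, ∃ χ : F, χ ≠ 0 ∧ D.Act a y g χ ∧ (∃ j, g ^ p ^ j = 1) ∧ ∀ w,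
        (B ^ p ^ i) w = B w → ((((t * t) • (B * B) + (4 * t) • B) ^ J) w = w) →
        (g : Matrix ι ι F) *ᵥ T a w = T a w ∧ (g : Matrix ι ι F) *ᵥ N' (T a w) = N' (T a w) := by
    intro t ht i J hi1 hQ hscal
    obtain ⟨x, hx, hxz⟩ := hex t
    obtain ⟨H, hH⟩ : ∃ H, H = D.root a 1 * x := ⟨_, rfl⟩
    have hHM : H ∈ M := hH ▸ mul_mem (D.root_mem _ _) hx
    have hxA : D.Act a y x t := fun u => by
      rw [hxz, hy', tvec_add_left, tvec_smul_left, tvec_smul_left, smul_smul]
    have hHA : D.Act a y H (1 + t) := hH ▸ SO.Act.mul D (D.act_root a y 1) hxA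
    obtain ⟨i0, m, hm, hnm⟩ := Nat.exists_eq_pow_mul_and_not_dvd (orderOf_pos H).ne' p (Fact.out : p.Prime).ne_one
    have hgp : (H ^ m) ^ p ^ i0 = 1 := by rw [← pow_mul, mul_comm, ← hnm, pow_orderOf_eq_one]
    refine ⟨H ^ m, pow_mem hHM m, m * (1 + t), ?_, SO.Act.pow D hHA m, ⟨i0, hgp⟩, fun w hw hw' => ?_⟩
    · exact mul_ne_zero (fun h => hm ((CharP.cast_eq_zero_iff F p m).1 h)) ht
    have hpow : ∀ j v, ((H ^ j : GL ι F) : Matrix ι ι F) *ᵥ v = (((1 + N) * (1 + t • N')) ^ j) v := fun j => by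
      induction j with
      | zero => intro v; simp
      | succ j ih =>
        intro v
        rw [pow_succ, pow_succ, gl_mul_mulVec, Module.End.mul_apply, ← ih]
        congr 1
        rw [hH, gl_mul_mulVec, hxz, D.root_mulVec, one_smul, Module.End.mul_apply]
        rfl
    obtain ⟨e1, e2⟩ := hopfix t i _ _ J rfl rfl hQ hscal w hw hw'
    have hcop : Nat.Coprime (2 * J) (p ^ i0) := by
      refine Nat.Coprime.pow_right _ (Nat.coprime_comm.1 ((Fact.out : p.Prime).coprime_iff_not_dvd.2 fun hd => ?_))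
      have h3 : p ∣ p ^ i := dvd_pow_self _ (by omega)
      rw [hQ] at h3
      exact (Fact.out : p.Prime).ne_one (Nat.dvd_one.1 ((Nat.dvd_add_right hd).1 h3))
    have hfix : ∀ v, ((((1 + N) * (1 + t • N')) ^ (2 * J)) v = v) →
        ((H ^ m : GL ι F) : Matrix ι ι F) *ᵥ v = v := by
      intro v hv
      rw [← hpow] at hv
      have h4 : ∀ j, (((H ^ (2 * J)) ^ j : GL ι F) : Matrix ι ι F) *ᵥ v = v := fun j => by
        induction j with
        | zero => simp
        | succ j ih => rw [pow_succ, gl_mul_mulVec, hv, ih]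
      rcases Nat.eq_or_lt_of_le (Nat.one_le_pow i0 p (Fact.out : p.Prime).pos) with h5 | h5
      · rw [← h5, pow_one] at hgp
        rw [hgp, Units.val_one, one_mulVec]
      obtain ⟨c0, -, hc0⟩ := Nat.exists_mul_mod_eq_one_of_coprime hcop h5
      have h6 : (H ^ m) ^ (2 * J * c0) = H ^ m := by
        rw [pow_eq_pow_mod (2 * J * c0) hgp, hc0, pow_one]
      rw [← h6, ← pow_mul, show m * (2 * J * c0) = 2 * J * (m * c0) by ring, pow_mul]
      exact h4 _
    exact ⟨hfix _ e1, hfix _ e2⟩
  -- powers of scalars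
  have hscal : ∀ j, ∀ x : F, x ^ p ^ (nF * j) = x := fun j x => by
    rw [pow_mul, ← hcardF, FiniteField.pow_card_pow]
  have hhalf : ∀ j, 1 ≤ j → ∃ J, p ^ (nF * j) = 2 * J + 1 := fun j hj => by
    rw [pow_mul, ← hcardF]
    obtain ⟨J, hJ⟩ := (Nat.odd_iff.2 hqodd).pow (n := j)
    exact ⟨J, hJ⟩
  have hsqrt1 : ∀ (x : F) (J : ℕ), x ≠ 0 → p ^ (nF * 2) = 2 * J + 1 → x ^ J = 1 := fun x J hx hJ => by
    obtain ⟨l, hl⟩ := Nat.odd_iff.2 hqodd
    rw [pow_mul, ← hcardF, sq] at hJ
    have hl' : Fintype.card F - 1 = 2 * l := by omega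
    have : J = (Fintype.card F - 1) * (l + 1) := by rw [hl']; nlinarith
    rw [this, pow_mul, FiniteField.pow_card_sub_one_eq_one x hx, one_pow]
  -- eigenvectors
  by_cases heig : ∃ b : F, b ≠ 0 ∧ ∃ w, w ≠ 0 ∧ f₂ w y = 0 ∧ B w = b • w
  · exfalso
    obtain ⟨b, hb, w, hw0, hwy, hBw⟩ := heig
    obtain ⟨t, ht0, ht1, ht4⟩ : ∃ t : F, t ≠ 0 ∧ 1 + t ≠ 0 ∧ t * b + 4 ≠ 0 := by
      by_contra hcon
      push Not at hcon
      have hsub : (Finset.univ : Finset F) ⊆ {0, -1, -4 / b} := fun x _ => by
        simp only [Finset.mem_insert, Finset.mem_singleton]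
        by_cases hx0 : x = 0
        · exact Or.inl hx0
        by_cases hx1 : 1 + x = 0
        · exact Or.inr (Or.inl (by linear_combination hx1))
        exact Or.inr (Or.inr (by rw [eq_div_iff hb]; linear_combination hcon x hx0 hx1))
      have h1 := Finset.card_le_card hsub
      rw [Finset.card_univ] at h1
      have h3 : ({0, -1, -4 / b} : Finset F).card ≤ 3 := Finset.card_le_three
      have := S.big
      omega
    obtain ⟨J, hJ⟩ := hhalf 2 (by norm_num)
    obtain ⟨g, hgM, χ, hχ, hgA, ⟨j, hgj⟩, hgfix⟩ := hpart t ht1 (nF * 2) J (by omega) hJ (hscal 2)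
    obtain ⟨f1', f2'⟩ := hgfix w (by rw [pow_eigen hBw, hscal, hBw]) (by
      have hW : ((t * t) • (B * B) + (4 * t) • B : Module.End F (Fin s → F)) w = (t * b * (t * b + 4)) • w := by
        simp only [LinearMap.add_apply, LinearMap.smul_apply, Module.End.mul_apply, hBw, map_smul, smul_smul]
        module
      rw [pow_eigen hW, hsqrt1 _ _ (mul_ne_zero (mul_ne_zero ht0 hb) ht4) hJ, one_smul])
    have hiso := X.fixed_isotropic D S hgM hχ hgA hgj f2' f1'
    rw [hpairf, hBw, hg.bilinear.smul_left] at hiso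
    have hww : f₂ w w = 0 :=
      (mul_eq_zero.1 ((mul_eq_zero.1 hiso).resolve_left D.kne)).resolve_left hb
    have hgT := D.stab_pure S hgM (X.ane D) (X.ane D) hw0 hww hw0 hww f1'
    obtain ⟨L, hLy, hLiso, hgL⟩ := X.tensor_shape D S hgM hgT hgA
    -- the isometry fixes `w`, hence is trivial
    have hLw : L w = w := by
      have h1 := congrArg (D.cob c) ((hgL a w).symm.trans f1')
      rwa [D.s1.alternating, mul_zero, zero_smul, add_zero, D.cob_tvec, D.cob_tvec, X.ac D, neg_one_smul, neg_one_smul,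
        neg_inj] at h1
    have hwd := hdecD w hwy
    obtain ⟨w1, hw1⟩ : ∃ x, x = f₂ w q := ⟨_, rfl⟩
    obtain ⟨w2, hw2⟩ : ∃ x, x = f₂ w n := ⟨_, rfl⟩
    rw [← hw1, ← hw2] at hwd
    have hw12 : w1 * w2 = 0 := by
      have h1 := hww
      rw [hwd] at h1
      simp only [hg.bilinear.add_left, hg.bilinear.add_right, hg.bilinear.smul_left, hg.bilinear.smul_right, X.nn,
        X.qq, X.qn, X.nq D] at h1
      exact (mul_eq_zero.1 (show (2 : F) * (w1 * w2) = 0 by linear_combination h1)).resolve_left h2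
    have hLid : L n = n ∧ L q = q := by
      rw [hwd, map_add, map_smul, map_smul] at hLw
      obtain ⟨β, hβ, ⟨hn, hq⟩ | ⟨hn, hq⟩⟩ := X.iso_split D S hLy hLiso
      · rw [hn, hq] at hLw
        have e1 := congrArg (fun v => f₂ v q) hLw
        have e2 := congrArg (fun v => f₂ v n) hLw
        simp only [hg.bilinear.add_left, hg.bilinear.smul_left, X.nn, X.qq, X.qn, X.nq D, mul_zero, add_zero,
          zero_add, mul_one] at e1 e2
        rcases mul_eq_zero.1 hw12 with h | h
        · have hw20 : w2 ≠ 0 := fun h' => hw0 (by rw [hwd, h, h']; simp)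
          have : β⁻¹ = 1 := mul_left_cancel₀ hw20 (by linear_combination e2)
          rw [inv_eq_one] at this
          rw [hn, hq, this, inv_one, one_smul, one_smul]
          exact ⟨rfl, rfl⟩
        · have hw10 : w1 ≠ 0 := fun h' => hw0 (by rw [hwd, h, h']; simp)
          have : β = 1 := mul_left_cancel₀ hw10 (by linear_combination e1)
          rw [hn, hq, this, inv_one, one_smul, one_smul]
          exact ⟨rfl, rfl⟩
      · exfalso
        rw [hn, hq] at hLw
        have e1 := congrArg (fun v => f₂ v q) hLw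
        have e2 := congrArg (fun v => f₂ v n) hLw
        simp only [hg.bilinear.add_left, hg.bilinear.smul_left, X.nn, X.qq, X.qn, X.nq D, mul_zero, add_zero,
          zero_add, mul_one] at e1 e2
        rcases mul_eq_zero.1 hw12 with h | h
        · exact hw0 (by rw [hwd, h, show w2 = 0 by rw [← e2, h]; ring]; simp)
        · exact hw0 (by rw [hwd, h, show w1 = 0 by rw [← e1, h]; ring]; simp)
    have hgroot : g = D.root a χ := X.tensor_ext D S fun u => by
      simp only [hgL, hLid.1, hLid.2, hLy, D.root_mulVec, D.cob_tvec, smul_smul, tvec_add_left, tvec_smul_left,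
        tvec_smul_right, and_self]
    rw [hgroot, D.root_mulVec, add_eq_left, ← hB, hBw, smul_smul, tvec_smul_right, smul_eq_zero] at f2'
    rcases f2' with h | h
    · exact mul_ne_zero hχ hb h
    · exact tvec_ne_zero (X.ane D) hw0 h
  push Not at heig
  -- characteristic root dichotomy
  by_cases hnil : tr = 0 ∧ dt = 0
  · -- nilpotent: the product with the inverse root is unipotent
    obtain ⟨x, hx, hxz⟩ := hex 1
    obtain ⟨H, hH⟩ : ∃ H, H = D.root a (-1) * x := ⟨_, rfl⟩
    let h : Module.End F (ι → F) := (1 - N) * (1 + N')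
    have hHv : ∀ v, (H : Matrix ι ι F) *ᵥ v = h v := fun v => by
      show _ = ((1 - N) * (1 + N')) v
      rw [hH, gl_mul_mulVec, hxz, one_smul, D.root_mulVec, neg_one_smul, tvec_neg_right, Module.End.mul_apply,
        LinearMap.sub_apply, LinearMap.add_apply, Module.End.one_apply, Module.End.one_apply, hN, sub_eq_add_neg]
    have hsq' : (h - 1) * (h - 1) = -(Pi * h) := by
      let hi : Module.End F (ι → F) := (1 - N') * (1 + N)
      have e1 : hi * h = 1 := by
        show (1 - N') * (1 + N) * ((1 - N) * (1 + N')) = 1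
        rw [mul_assoc, ← mul_assoc (1 + N), show (1 + N) * (1 - N) = 1 by simp [mul_sub, add_mul, hNN], one_mul]
        simp [mul_add, sub_mul, hN'N']
      have e2 : h + hi = 2 - Pi := by
        simp only [h, hi, Pi, add_mul, mul_add, sub_mul, mul_sub, one_mul, mul_one]
        rw [show (2 : Module.End F (ι → F)) = 1 + 1 from one_add_one_eq_two.symm]
        abel
      have e3 : (h + hi - 2) * h = (h - 1) * (h - 1) := by
        simp only [add_mul, mul_sub, sub_mul, one_mul, mul_one, e1, two_mul]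
        abel
      rw [← e3, e2, sub_sub_cancel_left]
      exact neg_mul Pi h
    have hP3 : Pi ^ 3 = 0 := by
      have hB2 : ∀ w, B (B w) = 0 := fun w => by
        conv_lhs => rw [D.decW S.s3 X w, map_add, map_smul, hBy, smul_zero, add_zero, map_add,
          map_smul B (f₂ w q), map_smul B (f₂ w n)]
        rw [map_add, map_smul, map_smul, hCH n (X.ny D), hCH q (X.qy D), hnil.1, hnil.2]
        simp
      have h5 : N * N' * N * N' * N = 0 := LinearMap.ext fun z => by
        show N (N' (N (N' (N z)))) = 0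
        rw [hN z, hN (N' (T a _)), hN (N' _), ← hB, ← hB, hB2, tvec_zero_right]
      have hNN' : ∀ Y, N * (N * Y) = 0 := fun Y => by rw [← mul_assoc, hNN, zero_mul]
      have hN'N'' : ∀ Y, N' * (N' * Y) = 0 := fun Y => by rw [← mul_assoc, hN'N', zero_mul]
      simp only [mul_assoc] at h5
      simp only [Pi, pow_succ, pow_zero, one_mul, add_mul, mul_add, mul_assoc, hNN', hN'N'', add_zero, zero_add,
        mul_zero]
      have e : N * (N' * (N * (N' * (N * N')))) = N * (N' * (N * (N' * N))) * N' := by simp only [mul_assoc]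
      rw [e, h5, zero_mul]
      simp [hNN, hN'N', h5]
    have hnilp : (h - 1) ^ p ^ 2 = 0 := by
      have h6 : (h - 1) ^ 6 = 0 := by
        have hcomm : Commute Pi h := by
          have c1 : Commute Pi N := hPiN0.symm
          have c2 : Commute Pi N' := hPiN.symm
          exact ((Commute.one_right _).sub_right c1).mul_right ((Commute.one_right _).add_right c2)
        rw [show (6 : ℕ) = 2 * 3 by norm_num, pow_mul, sq, hsq']
        exact (neg_pow (Pi * h) 3).trans (by rw [hcomm.mul_pow, hP3, zero_mul, mul_zero])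
      have hp2 : p ≠ 2 := fun h => D.two (by
        have := CharP.cast_eq_zero F p; rw [h] at this; exact_mod_cast this)
      have hp3 : 3 ≤ p := by have := (Fact.out : p.Prime).two_le; omega
      exact pow_eq_zero_of_le (by nlinarith) h6
    have hH1 : H = 1 := by
      haveI : CharP (Module.End F (ι → F)) p :=
        charP_of_injective_algebraMap (algebraMap F (Module.End F (ι → F))).injective p
      have hh1 : h ^ p ^ 2 = 1 := by
        have := frob_add (p := p) (x := h - 1) (y := 1) (Commute.one_right _) 2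
        rw [sub_add_cancel, hnilp, one_pow, zero_add] at this
        exact this
      have hpow : ∀ j v, ((H ^ j : GL ι F) : Matrix ι ι F) *ᵥ v = (h ^ j) v := fun j => by
        induction j with
        | zero => intro v; simp
        | succ j ih => intro v; rw [pow_succ, pow_succ, gl_mul_mulVec, Module.End.mul_apply, hHv, ih]
      have hH2 : H ^ p ^ 2 = 1 := gl_ext_vec fun v => by
        rw [hpow, hh1, Units.val_one, one_mulVec, Module.End.one_apply]
      have hHA : D.Act a y H 0 := by
        rw [hH, show (0 : F) = -1 + 1 by ring]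
        refine SO.Act.mul D (D.act_root a y (-1)) fun u => ?_
        rw [hxz, hy', one_smul, tvec_add_left, one_mul]
      obtain ⟨κ, -, -, hκ⟩ := X.conj_root D S (hH ▸ mul_mem (D.root_mem _ _) hx) hHA hH2
      rw [hκ, D.root_zero, mul_one, mul_inv_cancel]
    have h1 : x = D.root a 1 := by
      rw [hH, ← D.root_inv, inv_mul_eq_one] at hH1
      exact hH1.symm
    have h3 := hxz z₀
    rw [h1, D.root_mulVec, one_smul, one_smul, add_right_inj] at h3
    exact h3.symm
  -- no eigenvectors
  exfalso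
  have hno : ∀ (b : F) w, f₂ w y = 0 → B w = b • w → w = 0 := by
    intro b w hwy hBw
    by_contra hw0
    have hb : b = 0 := by
      by_contra hb
      exact heig b hb w hw0 hwy hBw
    have h1 := hCH w hwy
    rw [hBw, hb, zero_smul, map_zero, smul_zero, zero_sub, eq_comm, neg_eq_zero] at h1
    have hdt0 : dt = 0 := (smul_eq_zero.1 h1).resolve_right hw0
    have htr : tr ≠ 0 := fun h => hnil ⟨h, hdt0⟩
    have hz : ∀ v, f₂ v y = 0 → B v = 0 := fun v hv => by
      by_contra hne
      refine heig tr htr (B v) hne (hBperp v) ?_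
      rw [hCH v hv, hdt0, zero_smul, sub_zero]
    have e1 := hz n (X.ny D)
    have e2 := hz q (X.qy D)
    rw [e1, Orth.sym_zero_left hg] at h11 h21
    rw [e2, Orth.sym_zero_left hg] at h12 h22
    exact htr (by rw [show tr = b11 + b22 from ‹tr = b11 + b22›, h11, h22, add_zero])
  have hdisc : ∀ x : F, x * x ≠ tr * tr - 4 * dt := by
    intro x hx
    obtain ⟨r1, hr1⟩ : ∃ r1, r1 = (tr + x) / 2 := ⟨_, rfl⟩
    obtain ⟨r2, hr2⟩ : ∃ r2, r2 = (tr - x) / 2 := ⟨_, rfl⟩
    have hsum : r1 + r2 = tr := by rw [hr1, hr2]; field_simp; ring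
    have hprod : r1 * r2 = dt := by rw [hr1, hr2]; field_simp; linear_combination -hx
    have h3 := hno r1 (B n - r2 • n)
      (by rw [Orth.sym_sub_left hg, hg.bilinear.smul_left, hBperp, X.ny D, mul_zero, sub_zero])
      (by rw [map_sub, map_smul, hCH n (X.ny D), ← hsum, ← hprod]; module)
    exact X.nne D (hno r2 n (X.ny D) (sub_eq_zero.1 h3))
  obtain ⟨J2, hJ2⟩ := hhalf 2 (by norm_num)
  obtain ⟨J4, hJ4⟩ := hhalf 4 (by norm_num)
  haveI : CharP (Module.End F (Fin s → F)) p :=
    charP_of_injective_algebraMap (algebraMap F (Module.End F (Fin s → F))).injective p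
  obtain ⟨disc, hdiscdef⟩ : ∃ x, x = tr * tr - 4 * dt := ⟨_, rfl⟩
  rw [← hdiscdef] at hdisc
  have hdisc0 : disc ≠ 0 := fun h => hdisc 0 (by rw [h, mul_zero])
  have hfrob : ∀ (j J : ℕ), p ^ (nF * j) = 2 * J + 1 → disc ^ J = 1 → ∀ v, f₂ v y = 0 →
      (B ^ p ^ (nF * j)) v = B v := by
    intro j J hJ hd v hv
    obtain ⟨U, hU⟩ : ∃ U, U = (2 : F) • B + (-tr) • (1 : Module.End F (Fin s → F)) := ⟨_, rfl⟩
    have hUU : (U * U) v = disc • v := by
      simp only [hU, Module.End.mul_apply, LinearMap.add_apply, LinearMap.smul_apply, Module.End.one_apply, map_add,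
        map_smul, hCH v hv, hdiscdef]
      module
    have h1 := pow_half hUU J
    rw [← hJ, hd, one_smul, hU, frob_add ((Commute.one_right _).smul_left _ |>.smul_right _), smul_pow, smul_pow,
      one_pow, hscal, hscal] at h1
    simp only [LinearMap.add_apply, LinearMap.smul_apply, Module.End.one_apply, add_left_inj] at h1
    exact smul_right_injective (Fin s → F) h2 h1
  have hB2 : ∀ v, f₂ v y = 0 → (B ^ p ^ (nF * 2)) v = B v := hfrob 2 J2 hJ2 (hsqrt1 _ _ hdisc0 hJ2)
  have hJ42 : ∃ l, J4 = J2 * l := by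
    refine ⟨p ^ (nF * 2) + 1, ?_⟩
    have : p ^ (nF * 4) = p ^ (nF * 2) * p ^ (nF * 2) := by rw [← pow_add]; ring_nf
    rw [hJ4, hJ2] at this
    rw [hJ2]
    nlinarith
  obtain ⟨l4, hl4⟩ := hJ42
  have hB4 : ∀ v, f₂ v y = 0 → (B ^ p ^ (nF * 4)) v = B v :=
    hfrob 4 J4 hJ4 (by rw [hl4, pow_mul, hsqrt1 _ _ hdisc0 hJ2, one_pow])
  obtain ⟨W, hW⟩ : ∃ W : Module.End F (Fin s → F), W = (1 : F) • (B * B) + (4 : F) • B := ⟨_, rfl⟩
  have hWperp : ∀ v, f₂ (W v) y = 0 := fun v => by
    simp only [hW, LinearMap.add_apply, LinearMap.smul_apply, Module.End.mul_apply, hg.bilinear.add_left,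
      hg.bilinear.smul_left, hBperp, mul_zero, add_zero]
  have hW0 : ∀ v, f₂ v y = 0 → W v = 0 → v = 0 := fun v hv h => by
    have h1 : B (B v + (4 : F) • v) = 0 := by
      rw [hW] at h
      simpa [LinearMap.add_apply, LinearMap.smul_apply, Module.End.mul_apply, map_add, map_smul] using h
    have h3 := hno 0 (B v + (4 : F) • v) (by rw [hg.bilinear.add_left, hg.bilinear.smul_left, hBperp, hv, mul_zero, add_zero])
      (by rw [h1, zero_smul])
    exact hno (-4) v hv (by rw [neg_smul]; exact eq_neg_of_add_eq_zero_left h3)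
  have hWQ : ∀ v, f₂ v y = 0 → (W ^ p ^ (nF * 2)) v = W v := fun v hv => by
    have hBB : ((B * B) ^ p ^ (nF * 2)) v = (B * B) v := by
      rw [(Commute.refl B).mul_pow, Module.End.mul_apply, hB2 v hv, hB2 _ (hBperp v), Module.End.mul_apply]
    rw [hW, frob_add ((((Commute.refl B).mul_left (Commute.refl B))).smul_left _ |>.smul_right _), smul_pow, smul_pow,
      hscal, hscal]
    simp only [LinearMap.add_apply, LinearMap.smul_apply, hBB, hB2 v hv]
  have hWperp' : ∀ j v, f₂ v y = 0 → f₂ ((W ^ j) v) y = 0 := fun j => by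
    induction j with
    | zero => intro v hv; simpa using hv
    | succ j ih => intro v hv; rw [pow_succ, Module.End.mul_apply]; exact ih _ (hWperp v)
  have hW1 : ∀ v, f₂ v y = 0 → (W ^ (2 * J2)) v = v := fun v hv => by
    refine sub_eq_zero.1 (hW0 _ (by rw [Orth.sym_sub_left hg, hWperp' _ _ hv, hv, sub_zero]) ?_)
    rw [map_sub, ← Module.End.mul_apply, ← pow_succ', ← hJ2, hWQ v hv, sub_self]
  have hW4 : ∀ v, f₂ v y = 0 → (W ^ J4) v = v := by
    obtain ⟨l, hl⟩ : ∃ l, J4 = 2 * J2 * l := by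
      refine ⟨J2 + 1, ?_⟩
      have : p ^ (nF * 4) = p ^ (nF * 2) * p ^ (nF * 2) := by rw [← pow_add]; ring_nf
      rw [hJ4, hJ2] at this
      nlinarith
    have key : ∀ i v, f₂ v y = 0 → ((W ^ (2 * J2)) ^ i) v = v := fun i => by
      induction i with
      | zero => intro v _; simp
      | succ i ih => intro v hv; rw [pow_succ, Module.End.mul_apply, hW1 v hv, ih v hv]
    intro v hv
    rw [hl, pow_mul]
    exact key l v hv
  obtain ⟨g, hgM, χ, hχ, hgA, ⟨j, hgj⟩, hgfix⟩ := hpart 1 (by rw [one_add_one_eq_two]; exact h2) (nF * 4) J4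
    (by omega) hJ4 (hscal 4)
  obtain ⟨f1', f2'⟩ := hgfix n (hB4 n (X.ny D)) (by
    rw [show ((1 : F) * 1) • (B * B) + (4 * 1 : F) • B = W by rw [hW, one_mul, mul_one]]
    exact hW4 n (X.ny D))
  have hiso := X.fixed_isotropic D S hgM hχ hgA hgj f2' f1'
  rw [hpairf, hval] at hiso
  have hb21 : b21 = 0 := (mul_eq_zero.1 hiso).resolve_left D.kne
  exact X.nne D (hno b11 n (X.ny D) (by rw [hBn, hb21, zero_smul, add_zero]))

end CfsgLib.Perm.Trans.TensorSO
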