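import Mathlib
import Cfsg.Agent.Lib.Perm.Trans.TensorSO.SmallKey

/-!
# The decomposition group of a plane tensor a three-dimensional orthogonal space is maximal
-/

set_option autoImplicit false
set_option linter.all false

namespace CfsgLib.Perm.Trans.TensorSO

open scoped Matrix Kronecker
open Matrix Cfsg.Geo CfsgLib.Perm.Asch CfsgLib.Perm.Trans CfsgLib.Perm.Trans.TensorFrame
open CfsgLib.Perm.Trans.TensorMax

variable {ι : Type} [Fintype ι] [DecidableEq ι] {F : Type*} [Field F] [Fintype F] {r s : ℕ}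
variable {e : ι ≃ Fin r × Fin s} {P : GL ι F}
variable {f : (ι → F) → (ι → F) → F} {f₁ : (Fin r → F) → (Fin r → F) → F} {f₂ : (Fin s → F) → (Fin s → F) → F}
variable {k : F} {M : Subgroup (GL ι F)}

local notation "T" => tvec e P

variable (D : SO f f₁ f₂ e P k M)
include D

theorem SO.root_tvec (a : Fin r → F) (t : F) (u : Fin r → F) (w : Fin s → F) :
    (D.root a t : Matrix ι ι F) *ᵥ T u w = T (u + (t * f₁ u a) • a) w := by
  rw [D.root_mulVec, D.cob_tvec, smul_smul, tvec_add_left, tvec_smul_right, tvec_smul_left]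

variable {a c : Fin r → F} {n q y : Fin s → F} (X : D.Fr a c n q y)
include X

/-- the Eichler element of parameter `σ` -/
noncomputable def SO.Fr.E (σ : F) : GL ι F := (X.eich D σ).choose

theorem SO.Fr.E_mem (σ : F) : X.E D σ ∈ M := (X.eich D σ).choose_spec.1

theorem SO.Fr.E_tvec (σ : F) (u : Fin r → F) (w : Fin s → F) : (X.E D σ : Matrix ι ι F) *ᵥ T u w =
    T u (w + (σ * f₂ w n) • y - (σ * f₂ w y + σ * σ * f₂ y y / 2 * f₂ w n) • n) := by
  rw [show X.E D σ = (X.eich D σ).choose from rfl, (X.eich D σ).choose_spec.2, D.cod_tvec, D.cod_tvec,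
    tvec_sub_right, tvec_add_right, tvec_smul_right, tvec_smul_right, tvec_smul_left, tvec_smul_left, tvec_smul_left]
  match_scalars <;> ring

theorem SO.Fr.E_n (σ : F) (u : Fin r → F) : (X.E D σ : Matrix ι ι F) *ᵥ T u n = T u n := by
  rw [X.E_tvec D, X.nn, X.ny D]; simp

theorem SO.Fr.E_add (σ σ' : F) : X.E D (σ + σ') = X.E D σ * X.E D σ' := by
  refine gl_ext_tvec (e := e) (P := P) fun u w => ?_
  rw [gl_mul_mulVec, X.E_tvec D, X.E_tvec D, X.E_tvec D]
  congr 1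
  simp only [Orth.sym_sub_left D.s2, D.s2.bilinear.add_left, D.s2.bilinear.smul_left, X.nn, X.yn, X.ny D]
  have := D.two
  match_scalars <;> field_simp <;> ring

theorem SO.Fr.E_zero : X.E D 0 = 1 := by
  refine gl_ext_tvec (e := e) (P := P) fun u w => ?_
  rw [X.E_tvec D, Units.val_one, one_mulVec]
  simp

theorem SO.Fr.root_E (b : Fin r → F) (t σ : F) : D.root b t * X.E D σ = X.E D σ * D.root b t := by
  refine gl_ext_tvec (e := e) (P := P) fun u w => ?_
  rw [gl_mul_mulVec, gl_mul_mulVec, X.E_tvec D, D.root_tvec, D.root_tvec, X.E_tvec D]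

theorem SO.Fr.E_tensor (S : D.Small) (σ : F) : X.E D σ ∈ tensorProductSubgroup r s e P :=
  D.stab_pure S (X.E_mem D σ) (X.ane D) (X.ane D) (X.nne D) X.nn (X.nne D) X.nn (X.E_n D σ a)

omit X in
/-- two Eichler elements at the same `n`, `y` -/
theorem SO.Fr.E_eq {a c a' c' : Fin r → F} {n q q' y : Fin s → F} (X : D.Fr a c n q y) (X' : D.Fr a' c' n q' y)
    (σ : F) : X.E D σ = X'.E D σ := gl_ext_tvec (e := e) (P := P) fun u w => by
  rw [X.E_tvec D, X'.E_tvec D]

/-- normal form of tensor elements fixing `a ⊗ n` -/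
theorem SO.Fr.normal (S : D.Small) {h : GL ι F} (hM : h ∈ M) (hT : h ∈ tensorProductSubgroup r s e P)
    (hv : (h : Matrix ι ι F) *ᵥ T a n = T a n) :
    ∃ (A : (Fin r → F) →ₗ[F] (Fin r → F)) (B : (Fin s → F) →ₗ[F] (Fin s → F)) (μ δ β : F),
      A a = a ∧ B n = n ∧ (∀ u u', f₁ (A u) (A u') = μ * f₁ u u') ∧
      (∀ w w', μ * f₂ (B w) (B w') = f₂ w w') ∧ B y = δ • y + β • n ∧ μ * (δ * δ) = 1 ∧
      (∀ u w, (h : Matrix ι ι F) *ᵥ T u w = T (A u) (B w)) ∧
      ∀ j : ℕ, h ^ j = 1 → δ ^ j = 1 := by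
  obtain ⟨A₀, B₀, μ, ν, hμν, hA, hB, rfl⟩ := D.tensor_data hM hT
  have hg := D.s2
  obtain ⟨ρ, hρ⟩ : ∃ ρ, ρ = f₁ ((A₀ : Matrix (Fin r) (Fin r) F) *ᵥ a) c := ⟨_, rfl⟩
  rw [kg_tvec] at hv
  have h1 := congrArg (D.cob c) hv
  rw [D.cob_tvec, D.cob_tvec, X.ac D, ← hρ, neg_one_smul] at h1
  have hρ0 : ρ ≠ 0 := fun h => X.nne D (by rw [h, zero_smul] at h1; simpa using h1.symm)
  have hBn : (B₀ : Matrix (Fin s) (Fin s) F) *ᵥ n = (-ρ⁻¹) • n := by
    refine smul_right_injective (Fin s → F) hρ0 ?_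
    show ρ • _ = ρ • _
    rw [h1, smul_smul, mul_neg, mul_inv_cancel₀ hρ0, neg_one_smul]
  have h2 := congrArg (D.cod q) hv
  rw [D.cod_tvec, D.cod_tvec, hBn, hg.bilinear.smul_left, X.nq D, one_smul, mul_one] at h2
  let A : (Fin r → F) →ₗ[F] (Fin r → F) := (-ρ⁻¹) • Matrix.mulVecLin (A₀ : Matrix (Fin r) (Fin r) F)
  let B : (Fin s → F) →ₗ[F] (Fin s → F) := (-ρ) • Matrix.mulVecLin (B₀ : Matrix (Fin s) (Fin s) F)
  have hA' : ∀ u, A u = (-ρ⁻¹) • ((A₀ : Matrix (Fin r) (Fin r) F) *ᵥ u) := fun u => rfl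
  have hB' : ∀ w, B w = (-ρ) • ((B₀ : Matrix (Fin s) (Fin s) F) *ᵥ w) := fun w => rfl
  have hT' : ∀ u w, (kg e P A₀ B₀ : Matrix ι ι F) *ᵥ T u w = T (A u) (B w) := fun u w => by
    rw [kg_tvec, hA', hB', tvec_smul_left, tvec_smul_right, smul_smul, show -ρ⁻¹ * -ρ = 1 by field_simp, one_smul]
  have hAiso : ∀ u u', f₁ (A u) (A u') = μ / (ρ * ρ) * f₁ u u' := fun u u' => by
    rw [hA', hA', D.s1.bilinear.smul_left, D.s1.bilinear.smul_right, hA]
    field_simp
  have hBiso : ∀ w w', μ / (ρ * ρ) * f₂ (B w) (B w') = f₂ w w' := fun w w' => by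
    rw [hB', hB', hg.bilinear.smul_left, hg.bilinear.smul_right, hB,
      show μ / (ρ * ρ) * (-ρ * (-ρ * (ν * f₂ w w'))) = μ * ν * f₂ w w' by field_simp, hμν, one_mul]
  have hAa : A a = a := by rw [hA', h2]
  have hBn' : B n = n := by rw [hB', hBn, smul_smul, show -ρ * -ρ⁻¹ = 1 by field_simp, one_smul]
  obtain ⟨δ, hδ⟩ : ∃ δ, δ = f₂ (B y) y / f₂ y y := ⟨_, rfl⟩
  obtain ⟨β, hβ⟩ : ∃ β, β = f₂ (B y) q := ⟨_, rfl⟩
  have hyn : f₂ (B y) n = 0 := by
    have h3 := hBiso y n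
    rw [hBn', X.yn] at h3
    exact (mul_eq_zero.1 h3).resolve_left fun h => by
      have h4 := hBiso q n
      rw [h, zero_mul, X.qn] at h4
      exact zero_ne_one h4
  have hBy : B y = δ • y + β • n := by
    conv_lhs => rw [D.decW S.s3 X (B y), hyn, zero_smul, add_zero, ← hδ, ← hβ, add_comm]
  have hδ2 : μ / (ρ * ρ) * (δ * δ) = 1 := by
    have h3 := hBiso y y
    rw [hBy] at h3
    simp only [hg.bilinear.add_left, hg.bilinear.add_right, hg.bilinear.smul_left, hg.bilinear.smul_right, X.nn,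
      X.yn, X.ny D] at h3
    exact mul_right_cancel₀ X.yy (by linear_combination h3)
  refine ⟨A, B, _, δ, β, hAa, hBn', hAiso, hBiso, hBy, hδ2, hT', fun j hj => ?_⟩
  have hind : ∀ j, ∃ x : F, ((kg e P A₀ B₀ ^ j : GL ι F) : Matrix ι ι F) *ᵥ T a y = T a (δ ^ j • y + x • n) := by
    intro j
    induction j with
    | zero => exact ⟨0, by simp⟩
    | succ j ih =>
      obtain ⟨x, hx⟩ := ih
      refine ⟨δ ^ j * β + x, ?_⟩
      rw [pow_succ', gl_mul_mulVec, hx, hT', hAa, map_add, map_smul, map_smul, hBy, hBn']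
      congr 1
      module
  obtain ⟨x, hx⟩ := hind j
  rw [hj, Units.val_one, one_mulVec] at hx
  have h3 := congrArg (fun z => f₂ (D.cob c z) y) hx
  simp only [D.cob_tvec, X.ac D, hg.bilinear.smul_left, hg.bilinear.add_left, X.ny D, mul_zero, add_zero] at h3
  exact mul_right_cancel₀ X.yy (by linear_combination h3)

/-- tensor elements fixing `a ⊗ n` with trivial diagonal -/
theorem SO.Fr.normal_one (S : D.Small) {h : GL ι F}
    {A : (Fin r → F) →ₗ[F] (Fin r → F)} {B : (Fin s → F) →ₗ[F] (Fin s → F)} {β : F} (hAa : A a = a) (hBn : B n = n)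
    (hAiso : ∀ u u', f₁ (A u) (A u') = f₁ u u') (hBiso : ∀ w w', f₂ (B w) (B w') = f₂ w w')
    (hBy : B y = y + β • n) (hh : ∀ u w, (h : Matrix ι ι F) *ᵥ T u w = T (A u) (B w)) :
    ∃ t σ : F, h = D.root a t * X.E D σ := by
  have hg := D.s2
  obtain ⟨t, ht⟩ : ∃ t, t = -f₁ (A c) c := ⟨_, rfl⟩
  have hAc : A c = c + t • a := by
    rw [D.dec_left S.r2 X.ca (A c), show f₁ (A c) a = f₁ (A c) (A a) by rw [hAa], hAiso, X.ca, ht]
    module
  have hAu : ∀ u, A u = u + (t * f₁ u a) • a := fun u => by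
    conv_lhs => rw [D.dec_left S.r2 X.ca u, map_sub, map_smul, map_smul, hAc, hAa]
    conv_rhs => arg 1; rw [D.dec_left S.r2 X.ca u]
    module
  obtain ⟨σ, hσ⟩ : ∃ σ, σ = f₂ (B q) y / f₂ y y := ⟨_, rfl⟩
  obtain ⟨x, hx⟩ : ∃ x, x = f₂ (B q) q := ⟨_, rfl⟩
  have hqn : f₂ (B q) n = 1 := by conv_lhs => rw [← hBn, hBiso, X.qn]
  have hBq : B q = x • n + q + σ • y := by
    conv_lhs => rw [D.decW S.s3 X (B q), hqn, one_smul, ← hσ, ← hx]
  have h1 := hBiso q y
  have h2 := hBiso q q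
  simp only [hBq, hBy, hg.bilinear.add_left, hg.bilinear.add_right, hg.bilinear.smul_left, hg.bilinear.smul_right,
    X.nn, X.qq, X.qn, X.nq D, X.yn, X.ny D, X.qy D, X.yq] at h1 h2
  have hβ : β = -(σ * f₂ y y) := by linear_combination h1
  have hx' : x = -(σ * σ * f₂ y y / 2) := by
    have := D.two
    field_simp
    linear_combination h2
  refine ⟨t, σ, gl_ext_tvec (e := e) (P := P) fun u w => ?_⟩
  rw [hh, gl_mul_mulVec, X.E_tvec D, D.root_tvec, ← hAu]
  congr 1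
  have := X.yy
  conv_lhs => rw [D.decW S.s3 X w, map_add, map_add, map_smul, map_smul, map_smul, hBn, hBy, hBq, hβ, hx']
  conv_rhs => arg 1; arg 1; rw [D.decW S.s3 X w]
  match_scalars <;> field_simp <;> ring

/-- the image of `a ⊗ n` is orthogonal to no anisotropic `U ⊗ m` -/
theorem SO.Fr.image_perp (S : D.Small) {g : GL ι F} (hg : g ∈ M) {m : Fin s → F} (hm : f₂ m m ≠ 0)
    (hcod : D.cod m ((g : Matrix ι ι F) *ᵥ T a n) = 0) : g ∈ tensorProductSubgroup r s e P := by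
  have hs2 := D.s2
  obtain ⟨h, hhdef⟩ : ∃ h, h = g⁻¹ * D.R m hm * g := ⟨_, rfl⟩
  have hhM : h ∈ M := hhdef ▸ mul_mem (mul_mem (inv_mem hg) (D.R_mem m hm)) hg
  have hhv : (h : Matrix ι ι F) *ᵥ T a n = T a n := by
    rw [hhdef, gl_mul_mulVec, gl_mul_mulVec, D.R_mulVec, hcod, smul_zero, tvec_zero_left, sub_zero, gl_inv_mulVec]
  have hhT := D.stab_pure S hhM (X.ane D) (X.ane D) (X.nne D) X.nn (X.nne D) X.nn hhv
  have hh2 : h ^ 2 = 1 := by
    rw [hhdef, sq, show g⁻¹ * D.R m hm * g * (g⁻¹ * D.R m hm * g) = g⁻¹ * (D.R m hm * D.R m hm) * g by group,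
      D.R_sq, mul_one, inv_mul_cancel]
  obtain ⟨A, B, μ, δ, β, hAa, hBn, hAiso, hBiso, hBy, hμδ, hhA, hpow⟩ := X.normal D S hhM hhT hhv
  have hδ2 := hpow 2 hh2
  have hμ : μ = 1 := by linear_combination hμδ - μ * hδ2
  simp only [hμ, one_mul] at hAiso hBiso
  rcases sq_eq_one_iff.1 hδ2 with hδ | hδ
  · -- a unipotent involution is trivial
    exfalso
    rw [hδ, one_smul] at hBy
    obtain ⟨t, σ, he⟩ := X.normal_one D S hAa hBn hAiso hBiso hBy hhA
    have e2 : D.root a (t + t) * X.E D (σ + σ) = 1 := by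
      rw [← D.root_add, X.E_add D, mul_assoc, ← mul_assoc (D.root a t) (X.E D σ), X.root_E D, mul_assoc,
        ← mul_assoc (D.root a t), ← he, ← sq, hh2]
    have e3 := congrArg (fun x : GL ι F => D.cob a ((x : Matrix ι ι F) *ᵥ T c n)) e2
    have e4 := congrArg (fun x : GL ι F => D.cod n ((x : Matrix ι ι F) *ᵥ T c y)) e2
    have e5 := congrArg (fun x : GL ι F => D.cod q ((x : Matrix ι ι F) *ᵥ T c y)) e2
    have e6 := congrArg (fun x : GL ι F => D.cob c ((x : Matrix ι ι F) *ᵥ T c n)) e2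
    simp only [gl_mul_mulVec, X.E_tvec D, D.root_tvec, Units.val_one, one_mulVec, X.ca, X.nn, X.ny D, X.yn,
      D.cob_tvec, D.cod_tvec, mul_zero, zero_smul, add_zero, sub_zero, D.s1.bilinear.add_left,
      D.s1.bilinear.smul_left, D.s1.alternating, X.ac D, Orth.sym_sub_left hs2, hs2.bilinear.add_left,
      hs2.bilinear.smul_left, X.nq D, X.yq, mul_one] at e5 e6
    have ht : t = 0 := by
      have h1 := congrArg (fun w => f₂ w q) e6
      simp only [hs2.bilinear.smul_left, X.nq D, mul_one, Orth.sym_zero_left hs2] at h1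
      exact (mul_eq_zero.1 (show (2 : F) * t = 0 by linear_combination -h1)).resolve_left D.two
    have hσ : σ = 0 := by
      rw [ht] at e5
      have h1 := congrArg (fun w => f₁ w a) e5
      simp only [D.s1.bilinear.smul_left, D.s1.bilinear.add_left, X.ca, D.s1.alternating, Symp.zero_left D.s1] at h1
      exact (mul_eq_zero.1 (show (2 : F) * σ = 0 by
        have := X.yy
        exact mul_right_cancel₀ X.yy (by linear_combination -h1))).resolve_left D.two
    rw [ht, hσ, D.root_zero, X.E_zero D, one_mul] at he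
    refine D.R_ne_one m hm ?_
    calc D.R m hm = g * h * g⁻¹ := by rw [hhdef]; group
      _ = 1 := by rw [he]; group
  -- a reflection
  rw [hδ, neg_one_smul] at hBy
  have hA1 : ∀ u, A u = u := by
    obtain ⟨t, ht⟩ : ∃ t, t = -f₁ (A c) c := ⟨_, rfl⟩
    have hAc : A c = c + t • a := by
      rw [D.dec_left S.r2 X.ca (A c), show f₁ (A c) a = f₁ (A c) (A a) by rw [hAa], hAiso, X.ca, ht]
      module
    have h1 : (h : Matrix ι ι F) *ᵥ ((h : Matrix ι ι F) *ᵥ T c n) = T c n := by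
      rw [← gl_mul_mulVec, ← sq, hh2, Units.val_one, one_mulVec]
    rw [hhA, hhA, hBn, hBn, hAc, map_add, map_smul, hAc, hAa] at h1
    have h2 := congrArg (D.cob c) h1
    simp only [D.cob_tvec, D.s1.bilinear.add_left, D.s1.bilinear.smul_left, D.s1.alternating, X.ac D] at h2
    have h3 := congrArg (fun w => f₂ w q) h2
    simp only [hs2.bilinear.smul_left, X.nq D, mul_one] at h3
    have ht0 : t = 0 := (mul_eq_zero.1 (show (2 : F) * t = 0 by linear_combination -h3)).resolve_left D.two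
    intro u
    rw [D.dec_left S.r2 X.ca u, map_sub, map_smul, map_smul, hAc, hAa, ht0, zero_smul, add_zero]
  obtain ⟨y', hy'⟩ : ∃ y', y' = y - (β / 2) • n := ⟨_, rfl⟩
  have hhy : ∀ u, (h : Matrix ι ι F) *ᵥ T u y' = -T u y' := fun u => by
    rw [hhA, hA1, ← tvec_neg_right, hy', map_sub, map_smul, hBy, hBn]
    congr 1
    have := D.two
    match_scalars <;> field_simp <;> ring
  obtain ⟨c1, hc1⟩ : ∃ c1, c1 = β / 2 / f₂ y y := ⟨_, rfl⟩
  obtain ⟨q', hq'⟩ : ∃ q', q' = q + c1 • y - (c1 * c1 * f₂ y y / 2) • n := ⟨_, rfl⟩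
  have X' : D.Fr a c n q' y' := by
    have := D.two
    have := X.yy
    refine ⟨X.ca, X.nn, ?_, ?_, ?_, ?_, ?_⟩
    all_goals
      simp only [hq', hy', hc1, Orth.sym_sub_left hs2, Orth.sym_sub_right hs2, hs2.bilinear.add_left,
        hs2.bilinear.add_right, hs2.bilinear.smul_left, hs2.bilinear.smul_right, X.nn, X.qq, X.qn, X.nq D, X.yn,
        X.ny D, X.yq, X.qy D]
    · field_simp; ring
    · ring
    · ring
    · field_simp; ring
    · refine ne_of_eq_of_ne ?_ X.yy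
      ring
  -- `g` maps `U ⊗ y'` onto `U ⊗ m`
  obtain ⟨η, hη⟩ : ∃ η, η = f₂ y' y' / f₂ m m := ⟨_, rfl⟩
  have hη0 : η ≠ 0 := hη ▸ div_ne_zero X'.yy hm
  let C : (Fin r → F) →ₗ[F] (Fin r → F) :=
    (f₂ m m)⁻¹ • (D.cod m).comp ((Matrix.mulVecLin (g : Matrix ι ι F)).comp (tR e P y'))
  have hC : ∀ u, (g : Matrix ι ι F) *ᵥ T u y' = T (C u) m := fun u => by
    have h1 : (D.R m hm : Matrix ι ι F) *ᵥ ((g : Matrix ι ι F) *ᵥ T u y') = -((g : Matrix ι ι F) *ᵥ T u y') := by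
      rw [← mulVec_neg, ← hhy u, hhdef, gl_mul_mulVec, gl_mul_mulVec, gl_mulVec_inv]
    obtain ⟨x, hx⟩ := D.R_neg_pure m hm h1
    show _ = T ((f₂ m m)⁻¹ • D.cod m ((g : Matrix ι ι F) *ᵥ T u y')) m
    rw [hx, D.cod_tvec, smul_smul, inv_mul_cancel₀ hm, one_smul]
  have hCiso : ∀ u u', f₁ (C u) (C u') = η * f₁ u u' := fun u u' => by
    have h1 := Symp.mem_isoSub.1 (D.le hg) (T u y') (T u' y')
    rw [hC, hC, D.pol, D.pol] at h1
    have h2 := mul_left_cancel₀ D.kne h1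
    rw [hη, div_mul_eq_mul_div, eq_div_iff hm, h2, mul_comm]
  let N' : Module.End F (ι → F) := (Matrix.mulVecLin ((g⁻¹ : GL ι F) : Matrix ι ι F)).comp
    ((tL e P (C a)).comp ((η⁻¹ • D.cob (C a)).comp (Matrix.mulVecLin (g : Matrix ι ι F))))
  have hN' : ∀ z, N' z = ((g⁻¹ : GL ι F) : Matrix ι ι F) *ᵥ
      T (C a) (η⁻¹ • D.cob (C a) ((g : Matrix ι ι F) *ᵥ z)) := fun z => rfl
  have key := X'.quad_root D S N'
    (fun z => by rw [hN' (N' z), hN' z, gl_mulVec_inv, D.cob_self, smul_zero, tvec_zero_right, mulVec_zero])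
    (fun u => by
      rw [hN', hC, D.cob_tvec, hCiso, smul_smul, ← mul_assoc, inv_mul_cancel₀ hη0, one_mul, tvec_smul_right,
        ← tvec_smul_left, ← map_smul, ← hC, gl_inv_mulVec])
    fun t => ⟨g⁻¹ * D.root (C a) (t * η⁻¹) * g, mul_mem (mul_mem (inv_mem hg) (D.root_mem _ _)) hg, fun z => by
      rw [gl_mul_mulVec, gl_mul_mulVec, D.root_mulVec, mulVec_add, gl_inv_mulVec, hN', mul_smul, tvec_smul_right,
        mulVec_smul]⟩
  refine D.weak_three S hg (X.ane D) ?_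
  have hconj : g * D.root a 1 * g⁻¹ = D.root (C a) η⁻¹ := by
    rw [mul_inv_eq_iff_eq_mul]
    refine gl_ext_vec fun z => ?_
    rw [gl_mul_mulVec, gl_mul_mulVec, D.root_mulVec, one_smul, ← key, mulVec_add, hN', gl_mulVec_inv, D.root_mulVec]
  rw [hconj]
  exact kg_mem _ _

omit X in
/-- vectors orthogonal to no anisotropic `U ⊗ m` -/
theorem SO.exists_mixed (S : D.Small) {z : ι → F} (hz : z ≠ 0)
    (h : ∀ m, f₂ m m ≠ 0 → D.cod m z ≠ 0) :
    ∃ a c n q y, D.Fr a c n q y ∧ z = T a y + T c n := by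
  have hg := D.s2
  have h2 := D.two
  obtain ⟨a, ha⟩ : ∃ a : Fin r → F, a ≠ 0 := ⟨Pi.single ⟨0, D.rpos⟩ 1, by simp⟩
  obtain ⟨c, hca⟩ := D.exists_partner ha
  let L : (Fin s → F) →ₗ[F] (Fin r → F) :=
    { toFun := fun m => D.cod m z
      map_add' := fun m m' => D.cod_add_left m m' z
      map_smul' := fun t m => D.cod_smul_left t m z }
  obtain ⟨n, hLn, hn⟩ := Submodule.exists_mem_ne_zero_of_ne_bot
    (LinearMap.ker_ne_bot_of_finrank_lt (f := L) (by simp [S.r2, S.s3]))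
  have hcn : D.cod n z = 0 := hLn
  have hnn : f₂ n n = 0 := by
    by_contra hne
    exact h n hne hcn
  obtain ⟨q, y, X⟩ := D.exists_frame S.s3 hca hn hnn
  obtain ⟨x, hx⟩ : ∃ x, x = D.cod q z := ⟨_, rfl⟩
  obtain ⟨u, hu⟩ : ∃ u, u = (f₂ y y)⁻¹ • D.cod y z := ⟨_, rfl⟩
  have hdec : z = T x n + T u y := by
    have h1 := D.decD S.s3 X z
    rwa [hcn, tvec_zero_left, add_zero, ← hx, ← hu] at h1
  have hu0 : u ≠ 0 := fun h0 => h y X.yy (by
    rw [hdec, h0, tvec_zero_left, add_zero, D.cod_tvec, X.ny D, zero_smul])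
  by_cases hd : f₁ x u = 0
  · -- dependent coefficients give a pure vector
    exfalso
    obtain ⟨c', hc'⟩ := D.exists_partner hu0
    have hxu : x = -f₁ x c' • u := by
      conv_lhs => rw [D.dec_left S.r2 hc' x, hd, zero_smul, zero_sub, ← neg_smul]
    obtain ⟨t, ht⟩ : ∃ t, t = -f₁ x c' := ⟨_, rfl⟩
    rw [← ht] at hxu
    obtain ⟨m, hm⟩ : ∃ m, m = q + (1 - (t / f₂ y y) * (t / f₂ y y) * f₂ y y / 2) • n - (t / f₂ y y) • y := ⟨_, rfl⟩
    have := X.yy
    refine h m ?_ ?_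
    · simp only [hm, Orth.sym_sub_left hg, Orth.sym_sub_right hg, hg.bilinear.add_left, hg.bilinear.add_right,
        hg.bilinear.smul_left, hg.bilinear.smul_right, X.nn, X.qq, X.qn, X.nq D, X.yn, X.ny D, X.yq, X.qy D]
      refine ne_of_eq_of_ne ?_ h2
      field_simp
      ring
    · rw [hdec, hxu, tvec_smul_left, map_add, map_smul, D.cod_tvec, D.cod_tvec, smul_smul, ← add_smul]
      convert zero_smul F u
      simp only [hm, Orth.sym_sub_right hg, hg.bilinear.add_right, hg.bilinear.smul_right, X.nn, X.nq D, X.ny D,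
        X.yn, X.yq]
      field_simp
      ring
  · refine ⟨u, (f₁ x u)⁻¹ • x, f₁ x u • n, (f₁ x u)⁻¹ • q, y, ⟨?_, ?_, ?_, ?_, ?_, ?_, X.yy⟩, ?_⟩
    · rw [D.s1.bilinear.smul_left, inv_mul_cancel₀ hd]
    · rw [hg.bilinear.smul_left, hg.bilinear.smul_right, X.nn, mul_zero, mul_zero]
    · rw [hg.bilinear.smul_left, hg.bilinear.smul_right, X.qq, mul_zero, mul_zero]
    · rw [hg.bilinear.smul_left, hg.bilinear.smul_right, X.qn, mul_one, inv_mul_cancel₀ hd]
    · rw [hg.bilinear.smul_right, X.yn, mul_zero]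
    · rw [hg.bilinear.smul_right, X.yq, mul_zero]
    · rw [hdec, tvec_smul_left, tvec_smul_right, smul_smul, inv_mul_cancel₀ hd, one_smul, add_comm]

/-- an element preserving a root modulo Eichler elements fixing `a ⊗ y + c ⊗ n` -/
theorem SO.Fr.Z_fix (u : F) :
    ((D.root a (u * f₂ y y) * X.E D u : GL ι F) : Matrix ι ι F) *ᵥ (T a y + T c n) = T a y + T c n := by
  have := D.two
  rw [mulVec_add, gl_mul_mulVec, gl_mul_mulVec, X.E_tvec D, X.E_tvec D, D.root_tvec, D.root_tvec,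
    D.s1.alternating, X.ca, X.yn, X.nn, X.ny D]
  simp only [mul_zero, zero_smul, add_zero, sub_zero, mul_one, tvec_add_left, tvec_smul_left, tvec_sub_right,
    tvec_smul_right]
  module

omit X in
/-- the fixed space of such an element -/
theorem SO.Fr.Z_ker {a c : Fin r → F} {n q y : Fin s → F} (X : D.Fr a c n q y) (S : D.Small) {u : F} (hu : u ≠ 0)
    {z : ι → F} (hz : ((D.root a (u * f₂ y y) * X.E D u : GL ι F) : Matrix ι ι F) *ᵥ z = z) :
    z = T (D.cod q z) n + T (f₁ (D.cod q z) a • a) y := by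
  have hg := D.s2
  obtain ⟨zn, hzn⟩ : ∃ x, x = D.cod q z := ⟨_, rfl⟩
  obtain ⟨zq, hzq⟩ : ∃ x, x = D.cod n z := ⟨_, rfl⟩
  obtain ⟨zy, hzy⟩ : ∃ x, x = (f₂ y y)⁻¹ • D.cod y z := ⟨_, rfl⟩
  have hdec : z = T zn n + T zq q + T zy y := by rw [hzn, hzq, hzy]; exact D.decD S.s3 X z
  rw [hdec, mulVec_add, mulVec_add, gl_mul_mulVec, gl_mul_mulVec, gl_mul_mulVec, X.E_tvec D, X.E_tvec D,
    X.E_tvec D, D.root_tvec, D.root_tvec, D.root_tvec] at hz
  have ey := congrArg (D.cod y) hz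
  have eq := congrArg (D.cod q) hz
  simp only [map_add, D.cod_tvec, X.nn, X.qn, X.qy D, X.ny D, X.yn, X.nq D, X.qq, X.yq,
    Orth.sym_sub_left hg, hg.bilinear.add_left, hg.bilinear.smul_left] at ey eq
  have h1 := congrArg (fun w => f₁ w a) ey
  simp only [D.s1.bilinear.add_left, D.s1.bilinear.smul_left, D.s1.alternating] at h1
  have hq1 : f₁ zq a = 0 := by
    have := mul_ne_zero hu X.yy
    exact (mul_eq_zero.1 (show u * f₂ y y * f₁ zq a = 0 by linear_combination h1)).resolve_left this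
  have h2 := congrArg (fun w => f₁ w c) ey
  simp only [D.s1.bilinear.add_left, D.s1.bilinear.smul_left, X.ac D, hq1] at h2
  have h3 := congrArg (fun w => f₁ w a) eq
  simp only [D.s1.bilinear.add_left, D.s1.bilinear.smul_left, D.s1.alternating, hq1] at h3
  have hy1 : f₁ zy a = 0 := by
    have := mul_ne_zero hu X.yy
    exact (mul_eq_zero.1 (show u * f₂ y y * f₁ zy a = 0 by linear_combination -h3)).resolve_left this
  have hq2 : f₁ zq c = 0 := by
    have := mul_ne_zero hu X.yy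
    exact (mul_eq_zero.1 (show u * f₂ y y * f₁ zq c = 0 by
      rw [hy1] at h2; linear_combination h2)).resolve_left this
  have h4 := congrArg (fun w => f₁ w c) eq
  simp only [D.s1.bilinear.add_left, D.s1.bilinear.smul_left, X.ac D, hq1, hq2, hy1] at h4
  have hy2 : f₁ zy c = -f₁ zn a := by
    have := mul_ne_zero hu X.yy
    exact mul_left_cancel₀ this (by linear_combination -h4)
  have ezq : zq = 0 := by rw [D.dec_left S.r2 X.ca zq, hq1, hq2, zero_smul, zero_smul, sub_zero]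
  have ezy : zy = f₁ zn a • a := by
    rw [D.dec_left S.r2 X.ca zy, hy1, hy2, zero_smul, zero_sub, neg_smul, neg_neg]
  rw [← hzn]
  conv_lhs => rw [hdec, ezq, ezy, tvec_zero_left, add_zero]

/-- a mixed image makes `g` conjugate roots into the decomposition group modulo Eichler elements -/
theorem SO.Fr.pull (S : D.Small) {g : GL ι F} (hg : g ∈ M) (hgT : g ∉ tensorProductSubgroup r s e P) (t : F) :
    ∃ σ : F, g * (D.root a t * X.E D σ) * g⁻¹ ∈ tensorProductSubgroup r s e P := by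
  classical
  have hw0 : (g : Matrix ι ι F) *ᵥ T a n ≠ 0 := fun h =>
    tvec_ne_zero (X.ane D) (X.nne D) (gl_mulVec_eq_zero.1 h)
  obtain ⟨a', c', n', q', y', X', hw⟩ := D.exists_mixed S hw0
    fun m hm h => hgT (X.image_perp D S hg hm h)
  obtain ⟨p, hp⟩ := CharP.exists F
  haveI : Fact p.Prime := ⟨CharP.char_is_prime F p⟩
  let Z : F → GL ι F := fun u => D.root a' (u * f₂ y' y') * X'.E D u
  have hZ : ∀ u, Z u = D.root a' (u * f₂ y' y') * X'.E D u := fun u => rfl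
  have hZM : ∀ u, Z u ∈ M := fun u => mul_mem (D.root_mem _ _) (X'.E_mem D u)
  have hZT : ∀ u, Z u ∈ tensorProductSubgroup r s e P := fun u => mul_mem (kg_mem _ _) (X'.E_tensor D S u)
  have hZadd : ∀ u u', Z (u + u') = Z u * Z u' := fun u u' => by
    rw [hZ, hZ, hZ, add_mul, X'.E_add D, ← D.root_add, mul_assoc, mul_assoc, ← mul_assoc (D.root a' (u' * f₂ y' y')),
      X'.root_E D, mul_assoc]
  have hZ0 : Z 0 = 1 := by rw [hZ, zero_mul, D.root_zero, X'.E_zero D, one_mul]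
  have hZp : ∀ u, Z u ^ p = 1 := fun u => by
    have : ∀ j : ℕ, Z u ^ j = Z (j * u) := fun j => by
      induction j with
      | zero => rw [pow_zero, Nat.cast_zero, zero_mul, hZ0]
      | succ j ih => rw [pow_succ, ih, Nat.cast_succ, add_mul, one_mul, hZadd]
    rw [this, CharP.cast_eq_zero, zero_mul, hZ0]
  have key : ∀ u, ∃ τ σ, g⁻¹ * Z u * g = D.root a τ * X.E D σ := fun u => by
    obtain ⟨h, hh⟩ : ∃ h, h = g⁻¹ * Z u * g := ⟨_, rfl⟩
    have hhM : h ∈ M := hh ▸ mul_mem (mul_mem (inv_mem hg) (hZM u)) hg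
    have hhv : (h : Matrix ι ι F) *ᵥ T a n = T a n := by
      rw [hh, gl_mul_mulVec, gl_mul_mulVec, hw, hZ, X'.Z_fix D, ← hw, gl_inv_mulVec]
    have hhT := D.stab_pure S hhM (X.ane D) (X.ane D) (X.nne D) X.nn (X.nne D) X.nn hhv
    have hhp : h ^ p = 1 := by
      rw [hh]
      calc (g⁻¹ * Z u * g) ^ p = (MulAut.conj g⁻¹ (Z u)) ^ p := by simp [MulAut.conj_apply]
        _ = 1 := by rw [← map_pow, hZp, map_one]
    obtain ⟨A, B, μ, δ, β, hAa, hBn, hAiso, hBiso, hBy, hμδ, hhA, hpow⟩ := X.normal D S hhM hhT hhv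
    have hδ : δ = 1 := eq_one_of_pow_char (p := p) (j := 1) (by rw [pow_one]; exact hpow p hhp)
    rw [hδ, mul_one, mul_one] at hμδ
    simp only [hμδ, one_mul] at hAiso hBiso
    rw [hδ, one_smul] at hBy
    obtain ⟨τ, σ, he⟩ := X.normal_one D S hAa hBn hAiso hBiso hBy hhA
    exact ⟨τ, σ, hh ▸ he⟩
  choose τ σ hτ using key
  have huniq : ∀ t t' σ σ', D.root a t * X.E D σ = D.root a t' * X.E D σ' → t = t' := fun t t' σ σ' h => by
    have h1 := congrArg (fun x : GL ι F => f₂ (D.cob c ((x : Matrix ι ι F) *ᵥ T c n)) q) h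
    simp only [gl_mul_mulVec, X.E_n D, D.root_tvec, X.ca, D.cob_tvec, D.s1.bilinear.add_left,
      D.s1.bilinear.smul_left, D.s1.alternating, X.ac D, D.s2.bilinear.smul_left, X.nq D] at h1
    linear_combination -h1
  have hτadd : ∀ u u', τ (u + u') = τ u + τ u' := fun u u' => by
    refine huniq _ _ (σ (u + u')) (σ u + σ u') ?_
    rw [← hτ, hZadd, show g⁻¹ * (Z u * Z u') * g = g⁻¹ * Z u * g * (g⁻¹ * Z u' * g) by group, hτ, hτ, X.E_add D,
      ← D.root_add, mul_assoc, mul_assoc, ← mul_assoc (X.E D (σ u)), ← X.root_E D, mul_assoc]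
  let τ' : F →+ F := AddMonoidHom.mk' τ hτadd
  have hinj : Function.Injective τ' := (injective_iff_map_eq_zero τ').2 fun u hu => by
    by_contra hu0
    replace hu : τ u = 0 := hu
    let Γ : (Fin r → F) →ₗ[F] (Fin r → F) :=
      (D.cod q').comp ((Matrix.mulVecLin (g : Matrix ι ι F)).comp (tR e P n))
    have hΓ : ∀ b, (g : Matrix ι ι F) *ᵥ T b n = T (Γ b) n' + T (f₁ (Γ b) a' • a') y' := fun b => by
      refine X'.Z_ker D S hu0 ?_
      have h1 : ((g⁻¹ * Z u * g : GL ι F) : Matrix ι ι F) *ᵥ T b n = T b n := by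
        rw [hτ, hu, D.root_zero, one_mul, X.E_n D]
      rw [gl_mul_mulVec, gl_mul_mulVec] at h1
      have h2 := congrArg ((g : Matrix ι ι F) *ᵥ ·) h1
      simp only [gl_mulVec_inv] at h2
      exact h2
    have hΓi : Function.Injective Γ := (injective_iff_map_eq_zero Γ).2 fun b hb => by
      have h1 := hΓ b
      rw [hb, Symp.zero_left D.s1, zero_smul, tvec_zero_left, tvec_zero_left, add_zero, gl_mulVec_eq_zero] at h1
      exact tvec_left_inj (X.nne D) (h1.trans (tvec_zero_left _).symm)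
    obtain ⟨b, hb⟩ := LinearMap.injective_iff_surjective.1 hΓi a'
    have h1 := hΓ b
    rw [hb, D.s1.alternating, zero_smul, tvec_zero_left, add_zero] at h1
    have hb0 : b ≠ 0 := fun h => X'.ane D (by rw [← hb, h, map_zero])
    exact hgT (D.stab_pure S hg hb0 (X'.ane D) (X.nne D) X.nn (X'.nne D) X'.nn h1)
  obtain ⟨u, hu⟩ := (Finite.injective_iff_surjective.1 hinj) t
  refine ⟨σ u, ?_⟩
  rw [show t = τ u from hu.symm, ← hτ, show g * (g⁻¹ * Z u * g) * g⁻¹ = Z u by group]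
  exact hZT u

omit X in
/-- overgroups consist of tensor products -/
theorem SO.le_tensor_three (S : D.Small) : M ≤ tensorProductSubgroup r s e P := by
  intro g hg
  by_contra hgT
  obtain ⟨a, ha⟩ : ∃ a : Fin r → F, a ≠ 0 := ⟨Pi.single ⟨0, D.rpos⟩ 1, by simp⟩
  obtain ⟨c, hca⟩ := D.exists_partner ha
  obtain ⟨n, hn, hnn⟩ := exists_zero_sym D.two D.three
    (LinearMap.mk₂ F f₂ D.s2.bilinear.add_left D.s2.bilinear.smul_left D.s2.bilinear.add_right
      D.s2.bilinear.smul_right) D.s2.symm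
  obtain ⟨q, y, X⟩ := D.exists_frame S.s3 hca hn hnn
  have X₂ : D.Fr c (-a) n q y := ⟨by rw [Symp.neg_left D.s1, X.ac D, neg_neg], X.nn, X.qq, X.qn, X.yn, X.yq, X.yy⟩
  have hcomm : ∀ σ σ', X.E D σ * X.E D σ' = X.E D σ' * X.E D σ := fun σ σ' => by
    rw [← X.E_add D, ← X.E_add D, add_comm]
  let H : Subgroup (GL ι F) := (tensorProductSubgroup r s e P).comap (MulAut.conj g).toMonoidHom
  have hH : ∀ x, x ∈ H ↔ g * x * g⁻¹ ∈ tensorProductSubgroup r s e P := fun x => Iff.rfl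
  let L : Subgroup (GL ι F) :=
    { carrier := {x | (∀ σ, x * X.E D σ = X.E D σ * x) ∧ ∃ σ, x * X.E D σ ∈ H}
      mul_mem' := by
        rintro x x' ⟨hx, σ, hσ⟩ ⟨hx', σ', hσ'⟩
        refine ⟨fun τ => by rw [mul_assoc, hx', ← mul_assoc, hx, mul_assoc], σ + σ', ?_⟩
        have := mul_mem hσ hσ'
        rwa [X.E_add D, mul_assoc, ← mul_assoc x', hx', mul_assoc, ← mul_assoc x]
      one_mem' := ⟨fun σ => by rw [one_mul, mul_one], 0, by rw [X.E_zero D, one_mul]; exact one_mem H⟩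
      inv_mem' := by
        rintro x ⟨hx, σ, hσ⟩
        have hinv : ∀ τ, x⁻¹ * X.E D τ = X.E D τ * x⁻¹ := fun τ =>
          (Commute.inv_left (show Commute x (X.E D τ) from hx τ)).eq
        refine ⟨hinv, -σ, ?_⟩
        have h1 : X.E D (-σ) = (X.E D σ)⁻¹ :=
          eq_inv_of_mul_eq_one_left (by rw [← X.E_add D, neg_add_cancel, X.E_zero D])
        rw [hinv, h1, ← _root_.mul_inv_rev]
        exact inv_mem hσ }
  have hLa : ∀ t, D.root a t ∈ L := fun t => ⟨fun σ => X.root_E D a t σ, X.pull D S hg hgT t⟩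
  have hLc : ∀ t, D.root c t ∈ L := fun t => by
    obtain ⟨σ, hσ⟩ := X₂.pull D S hg hgT t
    exact ⟨fun σ => X.root_E D c t σ, σ, by rw [SO.Fr.E_eq D X X₂]; exact hσ⟩
  have hcomL : ∀ x ∈ L, ∀ x' ∈ L, x * x' * x⁻¹ * x'⁻¹ ∈ H := by
    rintro x ⟨hx, σ, hσ⟩ x' ⟨hx', σ', hσ'⟩
    have h1 := mul_mem (mul_mem (mul_mem hσ hσ') (inv_mem hσ)) (inv_mem hσ')
    have e0 : ∀ τ, Commute x (X.E D τ) := hx
    have e0' : ∀ τ, Commute x' (X.E D τ) := hx'
    have e1 : x * X.E D σ * (x' * X.E D σ') * (x * X.E D σ)⁻¹ * (x' * X.E D σ')⁻¹ = x * x' * x⁻¹ * x'⁻¹ := by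
      calc x * X.E D σ * (x' * X.E D σ') * (x * X.E D σ)⁻¹ * (x' * X.E D σ')⁻¹
          = x * (X.E D σ * x') * (X.E D σ' * (X.E D σ)⁻¹) * (x⁻¹ * (X.E D σ')⁻¹) * x'⁻¹ := by group
        _ = x * (x' * X.E D σ) * ((X.E D σ)⁻¹ * X.E D σ') * ((X.E D σ')⁻¹ * x⁻¹) * x'⁻¹ := by
            rw [← (e0' σ).eq, ((show Commute (X.E D σ') (X.E D σ) from hcomm _ _).inv_right).eq,
              ((e0 σ').inv_left.inv_right).eq]
        _ = x * x' * x⁻¹ * x'⁻¹ := by group
    rwa [e1] at h1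
  obtain ⟨l, hl0, hl1⟩ := exists_non_sign (F := F) (by have := S.big; omega)
  obtain ⟨Dl, hDl⟩ : ∃ x, x = D.root c (-(l - 1)) * D.root a 1 * D.root c ((l - 1) / l) * D.root a (-l) := ⟨_, rfl⟩
  have hDL : Dl ∈ L := hDl ▸ mul_mem (mul_mem (mul_mem (hLc _) (hLa _)) (hLc _)) (hLa _)
  have ext2 : ∀ {x x' : GL ι F}, (∀ w, (x : Matrix ι ι F) *ᵥ T c w = (x' : Matrix ι ι F) *ᵥ T c w) →
      (∀ w, (x : Matrix ι ι F) *ᵥ T a w = (x' : Matrix ι ι F) *ᵥ T a w) → x = x' := fun h1 h2 =>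
    gl_ext_vec fun z => by rw [D.decV S.r2 X.ca z, mulVec_sub, mulVec_sub, h1, h2]
  have hrc : ∀ t w, (D.root c t : Matrix ι ι F) *ᵥ T c w = T c w := fun t w => by
    rw [D.root_tvec, D.s1.alternating, mul_zero, zero_smul, add_zero]
  have hra : ∀ t w, (D.root a t : Matrix ι ι F) *ᵥ T a w = T a w := fun t w => by
    rw [D.root_tvec, D.s1.alternating, mul_zero, zero_smul, add_zero]
  have hca' : ∀ t w, (D.root c t : Matrix ι ι F) *ᵥ T a w = T a w - t • T c w := fun t w => by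
    rw [D.root_tvec, X.ac D, tvec_add_left, tvec_smul_left]; module
  have hac' : ∀ t w, (D.root a t : Matrix ι ι F) *ᵥ T c w = T c w + t • T a w := fun t w => by
    rw [D.root_tvec, X.ca, mul_one, tvec_add_left, tvec_smul_left]
  have hDc : ∀ w, (Dl : Matrix ι ι F) *ᵥ T c w = l • T c w := fun w => by
    simp only [hDl, gl_mul_mulVec, mulVec_add, mulVec_sub, mulVec_smul, hrc, hra, hca', hac']
    match_scalars <;> field_simp <;> ring
  have hDa : ∀ w, (Dl : Matrix ι ι F) *ᵥ T a w = l⁻¹ • T a w := fun w => by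
    simp only [hDl, gl_mul_mulVec, mulVec_add, mulVec_sub, mulVec_smul, hrc, hra, hca', hac']
    match_scalars <;> field_simp <;> ring
  obtain ⟨t, ht⟩ : ∃ t, t = l * l / (1 - l * l) := ⟨_, rfl⟩
  have hl2 : 1 - l * l ≠ 0 := fun h => hl1 (by linear_combination -h)
  have hconj : Dl * D.root a t = D.root a (t / (l * l)) * Dl := ext2
    (fun w => by
      simp only [gl_mul_mulVec, hac', mulVec_add, mulVec_smul, hDc, hDa]
      match_scalars <;> field_simp)
    (fun w => by simp only [gl_mul_mulVec, hra, hDa, mulVec_smul])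
  have h1 := hcomL _ hDL _ (hLa t)
  rw [hconj, mul_inv_cancel_right, D.root_inv, D.root_add,
    show t / (l * l) + -t = 1 by
      rw [div_add' _ _ _ (mul_ne_zero hl0 hl0), div_eq_one_iff_eq (mul_ne_zero hl0 hl0)]
      linear_combination (div_mul_cancel₀ (l * l) hl2) + (1 - l * l) * ht] at h1
  exact hgT (D.weak_three S hg (X.ane D) ((hH _).1 h1))

omit X D in
/-- the tensor product subgroup of a plane and a three-dimensional space is maximal -/
theorem symp_orth_maximal_small (hf : IsSymplecticForm f) (h1 : IsSymplecticForm f₁) (h2 : IsSymmetricForm f₂)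
    (hT : IsTensorFormStructure id f f₁ f₂ e P) (htwo : (2 : F) ≠ 0) (hr : r = 2) (hs : s = 3)
    (hq : 5 ≤ Fintype.card F) :
    IsMaximalIn (Symp.isoSub f) (tensorProductSubgroup r s e P ⊓ Symp.isoSub f) := by
  obtain ⟨k, hk, hpol⟩ := tvec_form (σ := id) (fun a b => rfl) (sesq_of_bilinear h1.bilinear)
    (sesq_of_bilinear h2.bilinear) hT
  have base : ∀ M : Subgroup (GL ι F), tensorProductSubgroup r s e P ⊓ Symp.isoSub f ≤ M → M ≤ Symp.isoSub f →
      SO f f₁ f₂ e P k M := fun M hHM hM => ⟨hf, h1, h2, htwo, hk, by omega, by omega, hpol, hM, hHM⟩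
  refine ⟨lt_of_le_of_ne inf_le_right fun h => ?_, fun M hHM hM => ?_⟩
  · exact (base _ inf_le_right le_rfl).not_tensor (h ▸ inf_le_left)
  by_cases hfull : Symp.isoSub f ≤ M
  · exact Or.inr (le_antisymm hM hfull)
  exact Or.inl (le_antisymm (le_inf ((base M hHM hM).le_tensor_three ⟨hr, hs, hfull, hq⟩) hM) hHM)

end CfsgLib.Perm.Trans.TensorSO
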