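import Mathlib
import Cfsg.Agent.Lib.Perm.Trans.TensorSO.SmallFrame

/-!
# A plane tensor a four-dimensional space of minus type: images of pure planes

Let `g` be an element of an overgroup and `x` the conjugate by `g` of the reflection at `d`. If the image of
`U ⊗ d` is orthogonal to `U ⊗ y` for two independent `y`, it is pure. The only interesting case has `x` acting on
`U ⊗ ⟨n, n'⟩` as `(α, b; c, -α)`; a conjugate `x'` of `x` by a root can then be chosen so that `x x' x` is diagonal.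
-/

set_option autoImplicit false
set_option linter.all false

namespace CfsgLib.Perm.Trans.TensorSO

open scoped Matrix Kronecker
open Matrix Cfsg.Geo CfsgLib.Perm.Asch CfsgLib.Perm.Trans CfsgLib.Perm.Trans.TensorFrame
open CfsgLib.Perm.Trans.TensorMax

variable {ι : Type} [Fintype ι] [DecidableEq ι] {F : Type*} [Field F] [Fintype F] {r s : ℕ}
variable {e : ι ≃ Fin r × Fin s} {P : GL ι F}
variable {f : (ι → F) → (ι → F) → F} {f₁ : (Fin r → F) → (Fin r → F) → F} {f₂ : (Fin s → F) → (Fin s → F) → F}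
variable {k : F} {M : Subgroup (GL ι F)}

local notation "T" => tvec e P

/-- two singular orthogonal vectors are dependent -/
def NoPlane (f₂ : (Fin s → F) → (Fin s → F) → F) : Prop :=
  ∀ n n' : Fin s → F, n ≠ 0 → f₂ n n = 0 → f₂ n' n' = 0 → f₂ n n' = 0 → ∃ t : F, n' = t • n

/-- the standing assumptions for a plane tensor a four-dimensional space of minus type -/
structure SO.Four (D : SO f f₁ f₂ e P k M) : Prop where
  r2 : r = 2
  s4 : s = 4
  notfull : ¬ Symp.isoSub f ≤ M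
  minus : NoPlane f₂

/-- the image of `U ⊗ d` under `g` is orthogonal to `U ⊗ y` -/
def SO.Perp (D : SO f f₁ f₂ e P k M) (g : GL ι F) (d y : Fin s → F) : Prop :=
  ∀ u, D.cod y ((g : Matrix ι ι F) *ᵥ T u d) = 0

/-- the image of `U ⊗ d` under `g` is pure -/
def SO.Pur (D : SO f f₁ f₂ e P k M) (g : GL ι F) (d : Fin s → F) : Prop :=
  ∃ m, f₂ m m ≠ 0 ∧ ∀ u, ∃ u', (g : Matrix ι ι F) *ᵥ T u d = T u' m

theorem isSquare_mul_of_not {x y : F} (hx : ¬ IsSquare x) (hy : ¬ IsSquare y) : IsSquare (x * y) := by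
  classical
  have hx0 : x ≠ 0 := fun h => hx (h ▸ IsSquare.zero)
  have hy0 : y ≠ 0 := fun h => hy (h ▸ IsSquare.zero)
  refine (quadraticChar_one_iff_isSquare (mul_ne_zero hx0 hy0)).1 ?_
  rw [map_mul, quadraticChar_neg_one_iff_not_isSquare.2 hx, quadraticChar_neg_one_iff_not_isSquare.2 hy]
  norm_num

theorem exists_binary (h2 : (2 : F) ≠ 0) {a b : F} (ha : a ≠ 0) (hb : b ≠ 0) (c : F) (hc : c ≠ 0) :
    ∃ x y : F, a * x ^ 2 + b * y ^ 2 = c := by
  obtain ⟨x, y, h⟩ := CfsgLib.Classical.exists_binary_one h2 (div_ne_zero ha hc) (div_ne_zero hb hc)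
  refine ⟨x, y, ?_⟩
  field_simp at h
  linear_combination h

variable (D : SO f f₁ f₂ e P k M)
include D

/-! ### conjugates of a reflection -/

theorem SO.sval {d : Fin s → F} {g : GL ι F} (hg : g ∈ M) (z : ι → F) (u : Fin r → F) :
    f z ((g : Matrix ι ι F) *ᵥ T u d) = k * f₁ (D.cod d (((g⁻¹ : GL ι F) : Matrix ι ι F) *ᵥ z)) u := by
  rw [← D.pol_cod, ← Symp.mem_isoSub.1 (D.le hg) (((g⁻¹ : GL ι F) : Matrix ι ι F) *ᵥ z), gl_mulVec_inv]

theorem SO.f1_ext {v : Fin r → F} (h : ∀ u, f₁ v u = 0) : v = 0 := by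
  by_contra hne
  obtain ⟨u, hu⟩ := (D.s1.nondegenerate _ hne).2
  exact hu (h u)

theorem SO.cj_mulVec {g : GL ι F} {d : Fin s → F} (hd : f₂ d d ≠ 0) (z : ι → F) :
    ((g * D.R d hd * g⁻¹ : GL ι F) : Matrix ι ι F) *ᵥ z =
      z - (g : Matrix ι ι F) *ᵥ T ((2 / f₂ d d) • D.cod d (((g⁻¹ : GL ι F) : Matrix ι ι F) *ᵥ z)) d := by
  rw [gl_mul_mulVec, gl_mul_mulVec, D.R_mulVec, mulVec_sub, gl_mulVec_inv]

theorem SO.cj_mem {g : GL ι F} (hg : g ∈ M) {d : Fin s → F} (hd : f₂ d d ≠ 0) : g * D.R d hd * g⁻¹ ∈ M :=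
  mul_mem (mul_mem hg (D.R_mem d hd)) (inv_mem hg)

theorem SO.cj_sq {g : GL ι F} {d : Fin s → F} (hd : f₂ d d ≠ 0) :
    g * D.R d hd * g⁻¹ * (g * D.R d hd * g⁻¹) = 1 := by
  rw [show g * D.R d hd * g⁻¹ * (g * D.R d hd * g⁻¹) = g * (D.R d hd * D.R d hd) * g⁻¹ by group, D.R_sq, mul_one,
    mul_inv_cancel]

theorem SO.cj_fix {g : GL ι F} (hg : g ∈ M) {d y : Fin s → F} (hd : f₂ d d ≠ 0) (h : D.Perp g d y) (u : Fin r → F) :
    ((g * D.R d hd * g⁻¹ : GL ι F) : Matrix ι ι F) *ᵥ T u y = T u y := by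
  have h0 : D.cod d (((g⁻¹ : GL ι F) : Matrix ι ι F) *ᵥ T u y) = 0 := D.f1_ext fun v => by
    have h1 := D.sval hg (T u y) v (d := d)
    rw [D.hf.skew, D.pol_cod, h v, Symp.zero_left D.s1, mul_zero, neg_zero] at h1
    exact (mul_eq_zero.1 h1.symm).resolve_left D.kne
  rw [D.cj_mulVec, h0, smul_zero, tvec_zero_left, mulVec_zero, sub_zero]

theorem SO.cj_neg {g : GL ι F} {d : Fin s → F} (hd : f₂ d d ≠ 0) (u : Fin r → F) :
    ((g * D.R d hd * g⁻¹ : GL ι F) : Matrix ι ι F) *ᵥ ((g : Matrix ι ι F) *ᵥ T u d) =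
      -((g : Matrix ι ι F) *ᵥ T u d) := by
  rw [gl_mul_mulVec, gl_mul_mulVec, gl_inv_mulVec, D.R_neg, mulVec_neg]

theorem SO.perp_of_fix {g : GL ι F} (hg : g ∈ M) {d y : Fin s → F} (hd : f₂ d d ≠ 0)
    (h : ∀ u, ((g * D.R d hd * g⁻¹ : GL ι F) : Matrix ι ι F) *ᵥ T u y = T u y) : D.Perp g d y := fun u =>
  D.f1_ext fun v => by
    have h1 := Symp.mem_isoSub.1 (D.le (D.cj_mem hg hd)) ((g : Matrix ι ι F) *ᵥ T u d) (T v y)
    rw [D.cj_neg hd, h, Symp.neg_left D.hf, D.pol_cod] at h1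
    exact (mul_eq_zero.1 ((mul_eq_zero.1 (show (2 : F) * (k * f₁ (D.cod y ((g : Matrix ι ι F) *ᵥ T u d)) v) = 0 by
      linear_combination -h1)).resolve_left D.two)).resolve_left D.kne

theorem SO.Perp.comb {g : GL ι F} {d y y' : Fin s → F} (h : D.Perp g d y) (h' : D.Perp g d y') (a b : F) :
    D.Perp g d (a • y + b • y') := fun u => by
  rw [D.cod_add_left, D.cod_smul_left, D.cod_smul_left, h, h', smul_zero, smul_zero, add_zero]

/-- a pure plane inside the image is the image -/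
theorem SO.pur_of_sub {g : GL ι F} (hg : g ∈ M) {d N : Fin s → F} (hd : f₂ d d ≠ 0) (hN : N ≠ 0)
    (h : ∀ u, ∃ u', T u N = (g : Matrix ι ι F) *ᵥ T u' d) :
    f₂ N N ≠ 0 ∧ ∀ u, ∃ u', (g : Matrix ι ι F) *ᵥ T u d = T u' N := by
  choose φ hφ using h
  have hd0 : d ≠ 0 := fun h0 => hd (by rw [h0, Orth.sym_zero_left D.s2])
  let φl : (Fin r → F) →ₗ[F] (Fin r → F) :=
    { toFun := φ
      map_add' := fun u v => tvec_left_inj (e := e) (P := P) hd0 (by
        have h1 : (g : Matrix ι ι F) *ᵥ T (φ (u + v)) d = (g : Matrix ι ι F) *ᵥ T (φ u + φ v) d := by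
          rw [← hφ, tvec_add_left, tvec_add_left, mulVec_add, ← hφ, ← hφ]
        calc T (φ (u + v)) d = ((g⁻¹ : GL ι F) : Matrix ι ι F) *ᵥ ((g : Matrix ι ι F) *ᵥ T (φ (u + v)) d) :=
              (gl_inv_mulVec _ _).symm
          _ = _ := by rw [h1, gl_inv_mulVec])
      map_smul' := fun c u => tvec_left_inj (e := e) (P := P) hd0 (by
        have h1 : (g : Matrix ι ι F) *ᵥ T (φ (c • u)) d = (g : Matrix ι ι F) *ᵥ T (c • φ u) d := by
          rw [← hφ, tvec_smul_left, tvec_smul_left, mulVec_smul, ← hφ]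
        calc T (φ (c • u)) d = ((g⁻¹ : GL ι F) : Matrix ι ι F) *ᵥ ((g : Matrix ι ι F) *ᵥ T (φ (c • u)) d) :=
              (gl_inv_mulVec _ _).symm
          _ = _ := by rw [h1, gl_inv_mulVec]; rfl) }
  have hinj : Function.Injective φl := (injective_iff_map_eq_zero φl).2 fun u hu => by
    have h1 := hφ u
    rw [show φ u = 0 from hu, tvec_zero_left, mulVec_zero] at h1
    exact tvec_left_inj hN (h1.trans (tvec_zero_left _).symm)
  have hsurj := LinearMap.injective_iff_surjective.1 hinj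
  refine ⟨fun h0 => ?_, fun u => ?_⟩
  · obtain ⟨a, ha⟩ : ∃ a : Fin r → F, a ≠ 0 := ⟨Pi.single ⟨0, D.rpos⟩ 1, by simp⟩
    obtain ⟨c, hca⟩ := D.exists_partner ha
    obtain ⟨ua, hua⟩ := hsurj a
    obtain ⟨uc, huc⟩ := hsurj c
    have h1 := Symp.mem_isoSub.1 (D.le hg) (T (φ uc) d) (T (φ ua) d)
    rw [← hφ, ← hφ, D.pol, D.pol, show φ uc = c from huc, show φ ua = a from hua, hca, h0, mul_zero, mul_zero,
      one_mul] at h1
    exact mul_ne_zero D.kne hd h1.symm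
  · obtain ⟨u', hu'⟩ := hsurj u
    exact ⟨u', by rw [← show φ u' = u from hu', hφ]⟩

/-- a singular point orthogonal to the image -/
theorem SO.pur_singular (S : D.Four) {g : GL ι F} (hg : g ∈ M) {d n : Fin s → F} (hd : f₂ d d ≠ 0) (hn : n ≠ 0)
    (hnn : f₂ n n = 0) (hperp : D.Perp g d n) : D.Pur g d := by
  have hg₂ := D.s2
  obtain ⟨q0, hq0⟩ := exists_dot_ne_zero hn hg₂
  obtain ⟨q, hq⟩ : ∃ q, f₂ q n = 1 :=
    ⟨(f₂ n q0)⁻¹ • q0, by rw [hg₂.bilinear.smul_left, hg₂.symm q0 n, inv_mul_cancel₀ hq0]⟩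
  obtain ⟨x, hx⟩ : ∃ x, x = g * D.R d hd * g⁻¹ := ⟨_, rfl⟩
  have hxM : x ∈ M := hx ▸ D.cj_mem hg hd
  have hxn : ∀ b, (x : Matrix ι ι F) *ᵥ T b n = T b n := fun b => hx ▸ D.cj_fix hg hd hperp b
  obtain ⟨y, hy, N, hN0, hN⟩ : ∃ y, f₂ y n = 0 ∧ ∃ N, N ≠ 0 ∧ ∀ u, (x : Matrix ι ι F) *ᵥ T u y = T u y + T u N := by
    by_contra hcon
    push Not at hcon
    have hfix : ∀ u y, f₂ y n = 0 → (x : Matrix ι ι F) *ᵥ T u y = T u y := fun u y hy => by
      obtain ⟨e₀, he₀⟩ := D.fix_pure S.r2 S.notfull hn hnn hxM hxn hy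
      by_cases h0 : e₀ - y = 0
      · rw [he₀, sub_eq_zero.1 h0]
      · obtain ⟨u', hu'⟩ := hcon y hy _ h0
        exact absurd (by rw [he₀, ← tvec_add_right, add_sub_cancel]) hu'
    have h1 := D.central_eq_one S.notfull hn hnn hxM fun z hz =>
      D.ext_perp hq (L := Matrix.mulVecLin (x : Matrix ι ι F)) (L' := LinearMap.id) hfix hz
    refine D.R_ne_one d hd ?_
    calc D.R d hd = g⁻¹ * x * g := by rw [hx]; group
      _ = 1 := by rw [h1]; group
  obtain ⟨hNN, hN'⟩ := D.pur_of_sub hg hd hN0 fun u =>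
    ⟨-((2 / f₂ d d) • D.cod d (((g⁻¹ : GL ι F) : Matrix ι ι F) *ᵥ T u y)), by
      have h1 := hN u
      rw [hx, D.cj_mulVec, sub_eq_add_neg] at h1
      rw [← add_left_cancel h1, tvec_neg_left, mulVec_neg]⟩
  exact ⟨N, hNN, hN'⟩

/-! ### coordinates -/

theorem SO.cod_map (m : Fin s → F) {ι' : Type} [Fintype ι'] (c : ι' → F) (v : ι' → (Fin s → F)) (z : ι → F)
    (hm : m = ∑ i, c i • v i) (h : ∀ i, D.cod (v i) z = 0) : D.cod m z = 0 := by
  classical
  let L : (Fin s → F) →ₗ[F] (Fin r → F) :=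
    { toFun := fun m => D.cod m z
      map_add' := fun m m' => D.cod_add_left m m' z
      map_smul' := fun t m => D.cod_smul_left t m z }
  rw [show D.cod m z = L m from rfl, hm, map_sum]
  refine Finset.sum_eq_zero fun i _ => ?_
  rw [map_smul, show L (v i) = D.cod (v i) z from rfl, h i, smul_zero]

theorem SO.ext_cod {z : ι → F} (h : ∀ m, D.cod m z = 0) : z = 0 :=
  D.eq_zero_of_cob fun a => sym_eq_zero D.s2 fun m => by rw [D.cob_cod, h m, Symp.zero_left D.s1]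

/-- a vector orthogonal to four vectors with a dual system is zero -/
theorem SO.four_zero (S : D.Four) (v w : Fin 4 → (Fin s → F)) (hvw : ∀ i j, f₂ (w i) (v j) = if i = j then 1 else 0)
    {y : Fin s → F} (hy : ∀ j, f₂ y (v j) = 0) : y = 0 := by
  classical
  let L : (Fin s → F) →ₗ[F] (Fin 4 → F) := LinearMap.pi fun j => Orth.sfl D.s2 (v j)
  have hsurj : Function.Surjective L := fun c => ⟨∑ i, c i • w i, funext fun j => by
    show f₂ (∑ i, c i • w i) (v j) = c j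
    rw [show f₂ (∑ i, c i • w i) (v j) = Orth.sfl D.s2 (v j) (∑ i, c i • w i) from rfl, map_sum,
      Finset.sum_eq_single j (fun i _ hij => by
        rw [map_smul, show Orth.sfl D.s2 (v j) (w i) = f₂ (w i) (v j) from rfl, hvw, if_neg hij, smul_zero])
      (fun h => absurd (Finset.mem_univ j) h)]
    rw [map_smul, show Orth.sfl D.s2 (v j) (w j) = f₂ (w j) (v j) from rfl, hvw, if_pos rfl, smul_eq_mul, mul_one]⟩
  have hinj := (LinearMap.injective_iff_surjective_of_finrank_eq_finrank (by simp [S.s4])).2 hsurj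
  exact hinj (by rw [map_zero]; exact funext hy)

/-- every vector in the coordinates of four orthogonal vectors or two pairs -/
theorem SO.hyp_eq (S : D.Four) {a b n n' : Fin s → F} (haa : f₂ a a ≠ 0) (hbb : f₂ b b ≠ 0) (hab : f₂ a b = 0)
    (hna : f₂ n a = 0) (hnb : f₂ n b = 0) (hn'a : f₂ n' a = 0) (hn'b : f₂ n' b = 0) (hnn : f₂ n n = 0)
    (hn'n' : f₂ n' n' = 0) (hn'n : f₂ n' n = 1) (y : Fin s → F) :
    y = (f₂ y a / f₂ a a) • a + (f₂ y b / f₂ b b) • b + f₂ y n' • n + f₂ y n • n' := by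
  have hg := D.s2
  refine sub_eq_zero.1 (D.four_zero S ![a, b, n, n'] ![(f₂ a a)⁻¹ • a, (f₂ b b)⁻¹ • b, n', n] ?_ ?_)
  · intro i j
    fin_cases i <;> fin_cases j <;>
      simp [hg.bilinear.smul_left, haa, hbb, hab, hg.symm b a, hg.symm a n, hg.symm b n, hg.symm a n', hg.symm b n',
        hg.symm n n', hna, hnb, hn'a, hn'b, hnn, hn'n', hn'n]
  · intro j
    fin_cases j <;>
      simp [Orth.sym_sub_left hg, hg.bilinear.add_left, hg.bilinear.smul_left, haa, hbb, hab, hg.symm b a,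
        hg.symm a n, hg.symm b n, hg.symm a n', hg.symm b n', hg.symm n n', hna, hnb, hn'a, hn'b, hnn, hn'n', hn'n]

/-- a non-zero vector orthogonal to three vectors -/
theorem SO.exists_perp3 (S : D.Four) (a b c : Fin s → F) : ∃ y, y ≠ 0 ∧ f₂ y a = 0 ∧ f₂ y b = 0 ∧ f₂ y c = 0 := by
  obtain ⟨y, hy, hy0⟩ := Submodule.exists_mem_ne_zero_of_ne_bot
    (LinearMap.ker_ne_bot_of_finrank_lt
      (f := (Orth.sfl D.s2 a).prod ((Orth.sfl D.s2 b).prod (Orth.sfl D.s2 c))) (by simp [S.s4]))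
  exact ⟨y, hy0, congrArg Prod.fst hy, congrArg (fun p => p.2.1) hy, congrArg (fun p => p.2.2) hy⟩

/-- the orthogonal space of an anisotropic plane has a hyperbolic pair -/
theorem SO.exists_hyp (S : D.Four) {a b : Fin s → F} (haa : f₂ a a ≠ 0) (hbb : f₂ b b ≠ 0) (hab : f₂ a b = 0)
    (hani : ¬ IsSquare (-(f₂ a a * f₂ b b))) :
    ∃ n n', f₂ n a = 0 ∧ f₂ n b = 0 ∧ f₂ n' a = 0 ∧ f₂ n' b = 0 ∧ f₂ n n = 0 ∧ f₂ n' n' = 0 ∧ f₂ n' n = 1 := by
  classical
  have hg := D.s2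
  have h2 := D.two
  obtain ⟨n, hn, hna, hnb, hnn, q, hqa, hqb, hqn⟩ : ∃ n, n ≠ 0 ∧ f₂ n a = 0 ∧ f₂ n b = 0 ∧ f₂ n n = 0 ∧
      ∃ q, f₂ q a = 0 ∧ f₂ q b = 0 ∧ f₂ q n ≠ 0 := by
    -- a singular `n` orthogonal to `a` and `b` has a partner there
    suffices ∃ n, n ≠ 0 ∧ f₂ n a = 0 ∧ f₂ n b = 0 ∧ f₂ n n = 0 by
      obtain ⟨n, hn, hna, hnb, hnn⟩ := this
      refine ⟨n, hn, hna, hnb, hnn, ?_⟩
      obtain ⟨q, hq⟩ := exists_dot_ne_zero hn hg
      refine ⟨q - (f₂ q a / f₂ a a) • a - (f₂ q b / f₂ b b) • b, ?_, ?_, ?_⟩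
      · simp [Orth.sym_sub_left hg, hg.bilinear.smul_left, hg.symm b a, hab, haa]
      · simp [Orth.sym_sub_left hg, hg.bilinear.smul_left, hab, hbb]
      · simp [Orth.sym_sub_left hg, hg.bilinear.smul_left, hg.symm a n, hg.symm b n, hna, hnb, hg.symm q n, hq]
    obtain ⟨c, hc, hca, hcb, -⟩ := D.exists_perp3 S a b 0
    by_cases hcc : f₂ c c = 0
    · exact ⟨c, hc, hca, hcb, hcc⟩
    obtain ⟨w, hw, hwa, hwb, hwc⟩ := D.exists_perp3 S a b c
    by_cases hww : f₂ w w = 0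
    · exact ⟨w, hw, hwa, hwb, hww⟩
    by_cases hcw : IsSquare (-(f₂ c c * f₂ w w))
    · obtain ⟨t, ht⟩ := hcw
      refine ⟨t • c + f₂ c c • w, fun h => hcc ?_, ?_, ?_, ?_⟩
      · have h1 := congrArg (fun z => f₂ z w) h
        simp [hg.bilinear.add_left, hg.bilinear.smul_left, hg.symm c w, hwc, Orth.sym_zero_left hg, hww] at h1
        exact h1
      · simp [hg.bilinear.add_left, hg.bilinear.smul_left, hca, hwa]
      · simp [hg.bilinear.add_left, hg.bilinear.smul_left, hcb, hwb]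
      · simp [hg.bilinear.add_left, hg.bilinear.add_right, hg.bilinear.smul_left, hg.bilinear.smul_right,
          hg.symm c w, hwc]
        linear_combination -f₂ c c * ht
    -- otherwise a totally singular plane
    exfalso
    obtain ⟨i, j, hij⟩ := exists_binary h2 hcc hww (-f₂ a a) (neg_ne_zero.2 haa)
    obtain ⟨t0, ht0⟩ := isSquare_mul_of_not hani hcw
    obtain ⟨c1, hc1⟩ : ∃ c1, c1 = i • c + j • w := ⟨_, rfl⟩
    obtain ⟨w1, hw1⟩ : ∃ w1, w1 = (j * f₂ w w) • c - (i * f₂ c c) • w := ⟨_, rfl⟩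
    obtain ⟨t, ht⟩ : ∃ t, t = t0 / f₂ b b := ⟨_, rfl⟩
    have ht2 : t * t * f₂ b b = f₂ a a * f₂ c c * f₂ w w := by
      rw [ht]
      field_simp
      linear_combination -ht0
    have hc1c1 : f₂ c1 c1 = -f₂ a a := by
      rw [hc1]
      simp [hg.bilinear.add_left, hg.bilinear.add_right, hg.bilinear.smul_left, hg.bilinear.smul_right,
        hg.symm c w, hwc]
      linear_combination hij
    have hw1w1 : f₂ w1 w1 = -(f₂ a a * f₂ c c * f₂ w w) := by
      rw [hw1]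
      simp [hg.bilinear.add_left, Orth.sym_sub_left hg, Orth.sym_sub_right hg, hg.bilinear.add_right, hg.bilinear.smul_left, hg.bilinear.smul_right,
        hg.symm c w, hwc]
      linear_combination (f₂ c c * f₂ w w) * hij
    have hcw1 : f₂ c1 w1 = 0 := by
      rw [hc1, hw1]
      simp [hg.bilinear.add_left, Orth.sym_sub_left hg, Orth.sym_sub_right hg, hg.bilinear.add_right, hg.bilinear.smul_left, hg.bilinear.smul_right,
        hg.symm c w, hwc]
      ring
    have hc1a : f₂ c1 a = 0 := by simp [hc1, hg.bilinear.add_left, Orth.sym_sub_left hg, Orth.sym_sub_right hg, hg.bilinear.smul_left, hca, hwa]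
    have hc1b : f₂ c1 b = 0 := by simp [hc1, hg.bilinear.add_left, Orth.sym_sub_left hg, Orth.sym_sub_right hg, hg.bilinear.smul_left, hcb, hwb]
    have hw1a : f₂ w1 a = 0 := by simp [hw1, hg.bilinear.add_left, Orth.sym_sub_left hg, Orth.sym_sub_right hg, hg.bilinear.smul_left, hca, hwa]
    have hw1b : f₂ w1 b = 0 := by simp [hw1, hg.bilinear.add_left, Orth.sym_sub_left hg, Orth.sym_sub_right hg, hg.bilinear.smul_left, hcb, hwb]
    obtain ⟨l, hl⟩ := S.minus (a + c1) (t • b + w1) (fun h => haa (by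
        have h1 := congrArg (fun z => f₂ z a) h
        simpa [hg.bilinear.add_left, hc1a, Orth.sym_zero_left hg] using h1))
      (by simp [hg.bilinear.add_left, hg.bilinear.add_right, hc1a, hg.symm a c1, hc1c1])
      (by simp [hg.bilinear.add_left, hg.bilinear.add_right, hg.bilinear.smul_left, hg.bilinear.smul_right,
          hg.symm b w1, hw1b, hw1w1]; linear_combination ht2)
      (by simp [hg.bilinear.add_left, hg.bilinear.add_right, hg.bilinear.smul_left, hg.bilinear.smul_right,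
          hab, hg.symm a w1, hw1a, hc1b, hcw1])
    have h1 := congrArg (fun z => f₂ z a) hl
    simp [hg.bilinear.add_left, hg.bilinear.smul_left, hg.symm b a, hab, hw1a, hc1a, haa] at h1
    rw [h1, zero_smul] at hl
    have h3 := congrArg (fun z => f₂ z b) hl
    simp [hg.bilinear.add_left, hg.bilinear.smul_left, hw1b, Orth.sym_zero_left hg, hbb] at h3
    rw [h3, mul_zero, zero_mul] at ht2
    exact mul_ne_zero (mul_ne_zero haa hcc) hww ht2.symm
  obtain ⟨q1, hq1⟩ : ∃ q1, q1 = (f₂ q n)⁻¹ • q := ⟨_, rfl⟩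
  refine ⟨n, q1 - (f₂ q1 q1 / 2) • n, hna, hnb, ?_, ?_, hnn, ?_, ?_⟩
  · simp [hq1, Orth.sym_sub_left hg, hg.bilinear.smul_left, hqa, hna]
  · simp [hq1, Orth.sym_sub_left hg, hg.bilinear.smul_left, hqb, hnb]
  · simp [hq1, Orth.sym_sub_left hg, Orth.sym_sub_right hg, hg.bilinear.smul_left, hg.bilinear.smul_right, hnn,
      hg.symm n q]
    field_simp
    ring
  · simp [hq1, Orth.sym_sub_left hg, hg.bilinear.smul_left, hnn, hqn]

/-- self-adjoint maps of a symplectic plane are scalar -/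
theorem SO.scalar_of_adj (S : D.Four) (C : (Fin r → F) →ₗ[F] (Fin r → F)) (h : ∀ u v, f₁ (C u) v = f₁ u (C v)) :
    ∃ b : F, ∀ u, C u = b • u := by
  refine D.scalar_of_skew S.r2 C fun u => ?_
  have h1 := h u u
  rw [D.s1.skew u (C u)] at h1
  exact (mul_eq_zero.1 (show (2 : F) * f₁ (C u) u = 0 by linear_combination h1)).resolve_left D.two

/-- a map of a symplectic plane with scalar square is scalar or skew, with a moved line -/
theorem SO.scalar_or_skew (S : D.Four) (α : (Fin r → F) →ₗ[F] (Fin r → F)) {Δ : F} (hΔ : ∀ u, α (α u) = Δ • u) :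
    (∃ a : F, ∀ u, α u = a • u) ∨ ((∀ u u', f₁ (α u) u' = -f₁ u (α u')) ∧
      ∃ v, f₁ (α v) v ≠ 0 ∧ ∀ u, ∃ p q : F, u = p • v + q • α v) := by
  by_cases h : ∀ u, ∃ b : F, α u = b • u
  · left
    obtain ⟨b, hb⟩ := scalar_of_eigen D.rpos (A := LinearMap.toMatrix' α) fun u => by
      obtain ⟨b, hb⟩ := h u
      exact ⟨b, by rw [LinearMap.toMatrix'_mulVec, hb]⟩
    exact ⟨b, fun u => (LinearMap.toMatrix'_mulVec α u).symm.trans (hb u)⟩
  right
  push Not at h
  obtain ⟨v, hv⟩ := h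
  have hv0 : v ≠ 0 := fun h0 => hv 0 (by rw [h0, map_zero, smul_zero])
  obtain ⟨c, hc⟩ := D.exists_partner hv0
  have hne : f₁ (α v) v ≠ 0 := fun h0 => by
    have h1 := D.dec_left S.r2 hc (α v)
    rw [h0, zero_smul, zero_sub, ← neg_smul] at h1
    exact hv _ h1
  have hsp : ∀ u, ∃ p q : F, u = p • v + q • α v := fun u => by
    refine ⟨-(f₁ u ((f₁ (α v) v)⁻¹ • α v)), f₁ u v * (f₁ (α v) v)⁻¹, ?_⟩
    have h1 := D.dec_left S.r2 (a := v) (c := (f₁ (α v) v)⁻¹ • α v)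
      (by rw [D.s1.bilinear.smul_left, inv_mul_cancel₀ hne]) u
    nth_rw 1 [h1]
    module
  refine ⟨fun u u' => ?_, v, hne, hsp⟩
  obtain ⟨p, q, rfl⟩ := hsp u
  obtain ⟨p', q', rfl⟩ := hsp u'
  simp only [map_add, map_smul, hΔ, D.s1.bilinear.add_left, D.s1.bilinear.add_right, D.s1.bilinear.smul_left,
    D.s1.bilinear.smul_right, D.s1.alternating, D.s1.skew v (α v)]
  ring

end CfsgLib.Perm.Trans.TensorSO
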