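import Cfsg.Agent.Lib.Perm.Trans.TensorSO.FourPres

/-!
# The decomposition group of a plane tensor a four-dimensional space of minus type is maximal

Conjugates `x` of reflections are not conjugate to the products `y` of two orthogonal reflections, so some
involution of `⟨x, y⟩` centralises both. It is a tensor product, and its fixed or negated vectors in the second
factor are orthogonal to the image plane of `x`.
-/

set_option autoImplicit false
set_option linter.all false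

namespace CfsgLib.Perm.Trans.TensorSO

open scoped Matrix Kronecker
open Matrix Cfsg.Geo CfsgLib.Perm.Asch CfsgLib.Perm.Trans CfsgLib.Perm.Trans.TensorFrame
open CfsgLib.Perm.Trans.TensorMax

variable {ι : Type} [Fintype ι] [DecidableEq ι] {F : Type*} [Field F] [Fintype F] {r s : ℕ}
variable {e : ι ≃ Fin r × Fin s} {P : GL ι F}
variable {f : (ι → F) → (ι → F) → F} {f₁ : (Fin r → F) → (Fin r → F) → F} {f₂ : (Fin s → F) → (Fin s → F) → F}
variable {k : F} {M : Subgroup (GL ι F)}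

local notation "T" => tvec e P

/-- elements of a group fixing a vector -/
theorem closure_fix {v : ι → F} {x y h : GL ι F} (hx : (x : Matrix ι ι F) *ᵥ v = v) (hy : (y : Matrix ι ι F) *ᵥ v = v)
    (hh : h ∈ Subgroup.closure ({x, y} : Set (GL ι F))) : (h : Matrix ι ι F) *ᵥ v = v := by
  induction hh using Subgroup.closure_induction with
  | mem z hz => rcases hz with rfl | rfl <;> assumption
  | one => rw [Units.val_one, one_mulVec]
  | mul a b _ _ ha hb => rw [gl_mul_mulVec, hb, ha]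
  | inv a _ ha => conv_lhs => rw [← ha, gl_inv_mulVec]

theorem mul_pow_mem_closure {G : Type*} [Group G] (x y : G) (i : ℕ) :
    (x * y) ^ i ∈ Subgroup.closure ({x, y} : Set G) := by
  have hx : x ∈ Subgroup.closure ({x, y} : Set G) := Subgroup.subset_closure (Set.mem_insert x {y})
  have hy : y ∈ Subgroup.closure ({x, y} : Set G) :=
    Subgroup.subset_closure (Set.mem_insert_of_mem x (Set.mem_singleton y))
  exact Subgroup.pow_mem _ (Subgroup.mul_mem _ hx hy) i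

theorem closure_comm {G : Type*} [Group G] {x y h c : G} (hx : x * c = c * x) (hy : y * c = c * y)
    (hh : h ∈ Subgroup.closure ({x, y} : Set G)) : h * c = c * h := by
  induction hh using Subgroup.closure_induction with
  | mem z hz => rcases hz with rfl | rfl <;> assumption
  | one => rw [one_mul, mul_one]
  | mul a b _ _ ha hb => rw [mul_assoc, hb, ← mul_assoc, ha, mul_assoc]
  | inv a _ ha => exact (inv_mul_eq_iff_eq_mul.2 (by rw [← mul_assoc, ha, mul_inv_cancel_right]))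

variable (D : SO f f₁ f₂ e P k M)
include D

/-- involutions of the decomposition group with a fixed vector -/
theorem SO.invol_right (S : D.Four) {z : GL ι F} (hz : z ∈ M) (hT : z ∈ tensorProductSubgroup r s e P)
    (hzz : z * z = 1) (hz1 : z ≠ 1) {v₀ : ι → F} (hv₀ : v₀ ≠ 0) (hfix : (z : Matrix ι ι F) *ᵥ v₀ = v₀) :
    ∃ B : (Fin s → F) →ₗ[F] (Fin s → F), (∀ u y, (z : Matrix ι ι F) *ᵥ T u y = T u (B y)) ∧ (∀ y, B (B y) = y) ∧
      (∀ y y', f₂ (B y) (B y') = f₂ y y') ∧ (∃ y, y + B y ≠ 0) ∧ ∃ y, y - B y ≠ 0 := by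
  have hg₂ := D.s2
  have h2 := D.two
  obtain ⟨A, B, μ, ν, hμν, hA, hB, rfl⟩ := D.tensor_data hz hT
  obtain ⟨y₀, q₀, hy₀⟩ := D.exists_unit_pair
  have hy00 : y₀ ≠ 0 := fun h => by rw [h, Orth.sym_zero_left hg₂] at hy₀; exact zero_ne_one hy₀
  obtain ⟨a, ha⟩ : ∃ a : Fin r → F, a ≠ 0 := ⟨Pi.single ⟨0, D.rpos⟩ 1, by simp⟩
  obtain ⟨Al, hAl⟩ : ∃ Al, Al = Matrix.mulVecLin (A : Matrix (Fin r) (Fin r) F) := ⟨_, rfl⟩
  obtain ⟨Bl, hBl⟩ : ∃ Bl, Bl = Matrix.mulVecLin (B : Matrix (Fin s) (Fin s) F) := ⟨_, rfl⟩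
  have hk : ∀ u y, (kg e P A B : Matrix ι ι F) *ᵥ T u y = T (Al u) (Bl y) := fun u y => by
    rw [kg_tvec, hAl, hBl]; rfl
  have hsq : ∀ u y, T (Al (Al u)) (Bl (Bl y)) = T u y := fun u y => by
    rw [← hk, ← hk, ← gl_mul_mulVec, hzz, Units.val_one, one_mulVec]
  -- the squares are scalars
  obtain ⟨c, hc⟩ : ∃ c, c = f₂ (Bl (Bl y₀)) q₀ := ⟨_, rfl⟩
  have hAA : ∀ u, c • Al (Al u) = u := fun u => by
    have h1 := congrArg (D.cod q₀) (hsq u y₀)
    rwa [D.cod_tvec, D.cod_tvec, hy₀, one_smul, ← hc] at h1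
  have hc0 : c ≠ 0 := fun h => ha (by have h1 := hAA a; rwa [h, zero_smul, eq_comm] at h1)
  have hAA' : ∀ u, Al (Al u) = c⁻¹ • u := fun u => by
    conv_rhs => rw [← hAA u, smul_smul, inv_mul_cancel₀ hc0, one_smul]
  have hBB : ∀ y, Bl (Bl y) = c • y := fun y => by
    by_contra hne
    refine tvec_ne_zero (e := e) (P := P) ha (y := c⁻¹ • Bl (Bl y) - y) (fun h => hne ?_) ?_
    · rw [sub_eq_zero] at h
      conv_rhs => rw [← h, smul_smul, mul_inv_cancel₀ hc0, one_smul]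
    · rw [tvec_sub_right, tvec_smul_right, ← tvec_smul_left, ← hAA', hsq, sub_self]
  have hAiso : ∀ u u', f₁ (Al u) (Al u') = μ * f₁ u u' := fun u u' => by rw [hAl]; exact hA u u'
  have hBiso : ∀ y y', f₂ (Bl y) (Bl y') = ν * f₂ y y' := fun y y' => by rw [hBl]; exact hB y y'
  rcases D.scalar_or_skew S Al hAA' with ⟨a₀, ha₀⟩ | ⟨hskew, -⟩
  · obtain ⟨p, hp⟩ := D.exists_partner ha
    have hμ : a₀ * a₀ = μ := by
      have h1 := hAiso p a
      rw [ha₀, ha₀, D.s1.bilinear.smul_left, D.s1.bilinear.smul_right, hp, mul_one, mul_one] at h1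
      exact h1
    have ha₀c : a₀ * a₀ = c⁻¹ := by
      have h1 := hAA' a
      rw [ha₀, ha₀, smul_smul] at h1
      exact smul_left_injective F ha h1
    refine ⟨a₀ • Bl, fun u y => ?_, fun y => ?_, fun y y' => ?_, ?_, ?_⟩
    · rw [hk, ha₀, LinearMap.smul_apply, tvec_smul_right, tvec_smul_left]
    · rw [LinearMap.smul_apply, LinearMap.smul_apply, map_smul, smul_smul, hBB, smul_smul, ha₀c,
        inv_mul_cancel₀ hc0, one_smul]
    · rw [LinearMap.smul_apply, LinearMap.smul_apply, hg₂.bilinear.smul_left, hg₂.bilinear.smul_right, hBiso,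
        ← mul_assoc, ← mul_assoc, hμ, hμν, one_mul]
    · by_contra hcon
      push Not at hcon
      have hneg : ∀ w, (kg e P A B : Matrix ι ι F) *ᵥ w = -w := fun w =>
        LinearMap.congr_fun (lin_ext (e := e) (P := P) (f := Matrix.mulVecLin (kg e P A B : Matrix ι ι F))
          (g := -LinearMap.id) fun u y => by
          show (kg e P A B : Matrix ι ι F) *ᵥ T u y = -T u y
          rw [hk, ha₀, tvec_smul_left, ← tvec_smul_right, ← tvec_neg_right]
          exact congrArg (T u) (eq_neg_of_add_eq_zero_right (hcon y))) w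
      have h3 : (2 : F) • v₀ = 0 := by
        rw [two_smul]; nth_rw 1 [← hfix, hneg]; exact neg_add_cancel v₀
      exact hv₀ ((smul_eq_zero.1 h3).resolve_left h2)
    · by_contra hcon
      push Not at hcon
      refine hz1 (gl_ext_tvec (e := e) (P := P) fun u y => ?_)
      rw [Units.val_one, one_mulVec, hk, ha₀, tvec_smul_left, ← tvec_smul_right]
      exact congrArg (T u) (sub_eq_zero.1 (hcon y)).symm
  exfalso
  obtain ⟨p, hp⟩ := D.exists_partner ha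
  have hμ : μ = -c⁻¹ := by
    have h1 := hAiso p a
    rw [hskew, hAA', D.s1.bilinear.smul_right, hp, mul_one, mul_one] at h1
    exact h1.symm
  have hν : ν = -c := by
    have h1 := hμν
    rw [hμ] at h1
    field_simp at h1
    linear_combination -h1
  have hadj : ∀ y y', f₂ (Bl y) y' = -f₂ y (Bl y') := fun y y' => by
    have h1 := hBiso y (Bl y')
    rw [hBB, hg₂.bilinear.smul_right, hν] at h1
    exact mul_left_cancel₀ hc0 (by linear_combination h1)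
  -- a singular vector and a partner
  let BF : LinearMap.BilinForm F (Fin s → F) := LinearMap.mk₂ F f₂ hg₂.bilinear.add_left hg₂.bilinear.smul_left
    hg₂.bilinear.add_right hg₂.bilinear.smul_right
  obtain ⟨n, hn, hnn'⟩ := exists_zero_sym h2 D.three BF fun x y => hg₂.symm x y
  have hnn : f₂ n n = 0 := hnn'
  obtain ⟨q0, hq0⟩ := exists_dot_ne_zero hn hg₂
  obtain ⟨q, hq⟩ : ∃ q, f₂ q n = 1 :=
    ⟨(f₂ n q0)⁻¹ • q0, by rw [hg₂.bilinear.smul_left, hg₂.symm q0 n, inv_mul_cancel₀ hq0]⟩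
  obtain ⟨n', hn'⟩ : ∃ n', n' = q - (f₂ q q / 2) • n := ⟨_, rfl⟩
  have hn'n : f₂ n' n = 1 := by simp [hn', Orth.sym_sub_left hg₂, hg₂.bilinear.smul_left, hnn, hq]
  have hn'n' : f₂ n' n' = 0 := by
    simp [hn', Orth.sym_sub_left hg₂, Orth.sym_sub_right hg₂, hg₂.bilinear.smul_left, hg₂.bilinear.smul_right, hnn,
      hg₂.symm n q, hq]
    field_simp
    ring
  have hn'0 : n' ≠ 0 := fun h => by rw [h, Orth.sym_zero_left hg₂] at hn'n; exact zero_ne_one hn'n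
  have hsing : ∀ w, w ≠ 0 → f₂ w w = 0 → ∃ t, Bl w = t • w := fun w hw hww => by
    refine S.minus w _ hw hww (by rw [hBiso, hww, mul_zero]) ?_
    have h1 := hadj w w
    rw [hg₂.symm (Bl w) w] at h1
    exact (mul_eq_zero.1 (show (2 : F) * f₂ w (Bl w) = 0 by linear_combination h1)).resolve_left h2
  obtain ⟨t, ht⟩ := hsing n hn hnn
  obtain ⟨t', ht'⟩ := hsing n' hn'0 hn'n'
  have htt : t' = -t := by
    have h1 := hadj n' n
    rw [ht, ht', hg₂.bilinear.smul_left, hg₂.bilinear.smul_right, hn'n, mul_one, mul_one] at h1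
    exact h1
  have ht2 : t * t = c := by
    have h1 := hBB n
    rw [ht, map_smul, ht, smul_smul] at h1
    exact smul_left_injective F hn h1
  have ht0 : t ≠ 0 := fun h => hc0 (by rw [← ht2, h, zero_mul])
  obtain ⟨y, hy, hyn, hyn', -⟩ := D.exists_perp3 S n n' 0
  have hyy : f₂ y y ≠ 0 := fun h0 => by
    obtain ⟨l, hl⟩ := S.minus n y hn hnn h0 (by rw [hg₂.symm, hyn])
    rw [hl, hg₂.bilinear.smul_left, hg₂.symm n n', hn'n, mul_one] at hyn'
    exact hy (by rw [hl, hyn', zero_smul])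
  obtain ⟨w, hw⟩ : ∃ w, w = t • y + Bl y := ⟨_, rfl⟩
  have hBw : Bl w = t • w := by
    rw [hw, map_add, map_smul, hBB, smul_add, smul_smul, ht2, add_comm]
  have hBn : ∀ m, f₂ (Bl y) m = -f₂ y (Bl m) := fun m => hadj y m
  have hwn : f₂ w n = 0 := by
    rw [hw, hg₂.bilinear.add_left, hg₂.bilinear.smul_left, hyn, hBn, ht, hg₂.bilinear.smul_right, hyn]; ring
  have hwn' : f₂ w n' = 0 := by
    rw [hw, hg₂.bilinear.add_left, hg₂.bilinear.smul_left, hyn', hBn, ht', hg₂.bilinear.smul_right, hyn']; ring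
  have hww : f₂ w w = 0 := by
    have h1 := hBiso w w
    rw [hBw, hg₂.bilinear.smul_left, hg₂.bilinear.smul_right, hν, ← ht2] at h1
    exact (mul_eq_zero.1 (show (2 * (t * t)) * f₂ w w = 0 by linear_combination h1)).resolve_left
      (mul_ne_zero h2 (mul_ne_zero ht0 ht0))
  obtain ⟨l, hl⟩ := S.minus n w hn hnn hww (by rw [hg₂.symm, hwn])
  have hl0 : l = 0 := by
    rw [hl, hg₂.bilinear.smul_left, hg₂.symm n n', hn'n, mul_one] at hwn'
    exact hwn'
  rw [hl0, zero_smul, hw] at hl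
  have hBy : Bl y = -(t • y) := eq_neg_of_add_eq_zero_right hl
  have h1 := hBiso y y
  rw [hBy, Orth.sym_neg_left hg₂, Orth.sym_neg_right hg₂, hg₂.bilinear.smul_left, hg₂.bilinear.smul_right, hν,
    ← ht2] at h1
  exact hyy ((mul_eq_zero.1 (show (2 * (t * t)) * f₂ y y = 0 by linear_combination h1)).resolve_left
    (mul_ne_zero h2 (mul_ne_zero ht0 ht0)))

/-- an involution commuting with the conjugate of a reflection -/
theorem SO.split_perp (S : D.Four) {g : GL ι F} (hg : g ∈ M) {d : Fin s → F} (hd : f₂ d d ≠ 0) {z : GL ι F}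
    (hz : z ∈ M) (hzx : z * (g * D.R d hd * g⁻¹) = g * D.R d hd * g⁻¹ * z) (hzz : z * z = 1)
    {B : (Fin s → F) →ₗ[F] (Fin s → F)} (hB : ∀ u y, (z : Matrix ι ι F) *ᵥ T u y = T u (B y)) :
    (∀ y, B y = y → D.Perp g d y) ∨ ∀ y, B y = -y → D.Perp g d y := by
  have h2 := D.two
  obtain ⟨x, hx⟩ : ∃ x, x = g * D.R d hd * g⁻¹ := ⟨_, rfl⟩
  rw [← hx] at hzx
  obtain ⟨σ, hσ⟩ : ∃ σ : (ι → F) →ₗ[F] (Fin r → F),
      σ = (2 : F)⁻¹ • (2 / f₂ d d) • (D.cod d).comp (Matrix.mulVecLin ((g⁻¹ : GL ι F) : Matrix ι ι F)) := ⟨_, rfl⟩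
  let ψ : (Fin r → F) →ₗ[F] (Fin r → F) :=
    σ.comp ((Matrix.mulVecLin (z : Matrix ι ι F)).comp ((Matrix.mulVecLin (g : Matrix ι ι F)).comp (tR e P d)))
  have hψ : ∀ u, (z : Matrix ι ι F) *ᵥ ((g : Matrix ι ι F) *ᵥ T u d) = (g : Matrix ι ι F) *ᵥ T (ψ u) d := fun u => by
    have h1 : (x : Matrix ι ι F) *ᵥ ((z : Matrix ι ι F) *ᵥ ((g : Matrix ι ι F) *ᵥ T u d)) =
        -((z : Matrix ι ι F) *ᵥ ((g : Matrix ι ι F) *ᵥ T u d)) := by
      rw [← gl_mul_mulVec, ← hzx, gl_mul_mulVec, hx, D.cj_neg hd, mulVec_neg]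
    rw [hx, D.cj_mulVec] at h1
    show _ = (g : Matrix ι ι F) *ᵥ T (σ ((z : Matrix ι ι F) *ᵥ ((g : Matrix ι ι F) *ᵥ T u d))) d
    rw [hσ, LinearMap.smul_apply, tvec_smul_left (2 : F)⁻¹, mulVec_smul]
    show _ = (2 : F)⁻¹ • ((g : Matrix ι ι F) *ᵥ T ((2 / f₂ d d) • D.cod d (((g⁻¹ : GL ι F) : Matrix ι ι F) *ᵥ
      ((z : Matrix ι ι F) *ᵥ ((g : Matrix ι ι F) *ᵥ T u d)))) d)
    rw [show (g : Matrix ι ι F) *ᵥ T ((2 / f₂ d d) • D.cod d (((g⁻¹ : GL ι F) : Matrix ι ι F) *ᵥ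
      ((z : Matrix ι ι F) *ᵥ ((g : Matrix ι ι F) *ᵥ T u d)))) d =
      (2 : F) • ((z : Matrix ι ι F) *ᵥ ((g : Matrix ι ι F) *ᵥ T u d)) by linear_combination (norm := module) -h1,
      smul_smul, inv_mul_cancel₀ h2, one_smul]
  have hd0 : d ≠ 0 := fun h0 => hd (by rw [h0, Orth.sym_zero_left D.s2])
  have hψψ : ∀ u, ψ (ψ u) = (1 : F) • u := fun u => tvec_left_inj (e := e) (P := P) hd0 (by
    have h1 : (g : Matrix ι ι F) *ᵥ T (ψ (ψ u)) d = (g : Matrix ι ι F) *ᵥ T u d := by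
      rw [← hψ, ← hψ, ← gl_mul_mulVec, hzz, Units.val_one, one_mulVec]
    have h3 := congrArg (fun v => ((g⁻¹ : GL ι F) : Matrix ι ι F) *ᵥ v) h1
    simpa only [gl_inv_mulVec, one_smul] using h3)
  have hψiso : ∀ u u', f₁ (ψ u) (ψ u') = f₁ u u' := fun u u' => by
    have h1 := Symp.mem_isoSub.1 (D.le hz) ((g : Matrix ι ι F) *ᵥ T u d) ((g : Matrix ι ι F) *ᵥ T u' d)
    rw [hψ, hψ, Symp.mem_isoSub.1 (D.le hg), Symp.mem_isoSub.1 (D.le hg), D.pol, D.pol] at h1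
    exact mul_right_cancel₀ hd (mul_left_cancel₀ D.kne h1)
  -- vectors of the other sign are orthogonal to the image
  have hperp : ∀ (ε : F) y, ε ≠ 1 → (∀ u, ψ u = u) → B y = ε • y → D.Perp g d y := fun ε y hε hψ1 hy u =>
    D.f1_ext fun v => by
      have h1 := Symp.mem_isoSub.1 (D.le hz) ((g : Matrix ι ι F) *ᵥ T u d) (T v y)
      rw [hψ, hψ1, hB, hy, tvec_smul_right, D.hf.bilinear.smul_right, D.pol_cod] at h1
      exact (mul_eq_zero.1 ((mul_eq_zero.1 (show (ε - 1) * (k * f₁ (D.cod y ((g : Matrix ι ι F) *ᵥ T u d)) v) = 0 by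
        linear_combination h1)).resolve_left (sub_ne_zero.2 hε))).resolve_left D.kne
  have hperp' : ∀ y, (∀ u, ψ u = -u) → B y = y → D.Perp g d y := fun y hψ1 hy u => D.f1_ext fun v => by
    have h1 := Symp.mem_isoSub.1 (D.le hz) ((g : Matrix ι ι F) *ᵥ T u d) (T v y)
    rw [hψ, hψ1, hB, hy, tvec_neg_left, mulVec_neg, Symp.neg_left D.hf, D.pol_cod] at h1
    exact (mul_eq_zero.1 ((mul_eq_zero.1 (show (2 : F) * (k * f₁ (D.cod y ((g : Matrix ι ι F) *ᵥ T u d)) v) = 0 by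
      linear_combination -h1)).resolve_left h2)).resolve_left D.kne
  rcases D.scalar_or_skew S ψ hψψ with ⟨a₀, ha₀⟩ | ⟨hskew, v, hv, -⟩
  · obtain ⟨a, ha⟩ : ∃ a : Fin r → F, a ≠ 0 := ⟨Pi.single ⟨0, D.rpos⟩ 1, by simp⟩
    have h1 : a₀ * a₀ = 1 := by
      have h := hψψ a
      rw [ha₀, ha₀, smul_smul] at h
      exact smul_left_injective F ha h
    rcases mul_self_eq_one_iff.1 h1 with h3 | h3
    · refine Or.inr fun y hy => hperp (-1) y (fun h => h2 ?_) (fun u => by rw [ha₀, h3, one_smul]) (by rw [hy, neg_one_smul])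
      linear_combination -h
    · exact Or.inl fun y hy => hperp' y (fun u => by rw [ha₀, h3, neg_one_smul]) hy
  · exfalso
    have h1 := hψiso (ψ v) v
    rw [hψψ, one_smul, D.s1.skew v (ψ v)] at h1
    exact hv ((mul_eq_zero.1 (show (2 : F) * f₁ (ψ v) v = 0 by linear_combination -h1)).resolve_left h2)

theorem SO.R_fix (m : Fin s → F) (hm : f₂ m m ≠ 0) {y : Fin s → F} (hy : f₂ y m = 0) (u : Fin r → F) :
    (D.R m hm : Matrix ι ι F) *ᵥ T u y = T u y := by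
  rw [D.R_mulVec, D.cod_tvec, hy, zero_smul, smul_zero, tvec_zero_left, sub_zero]

/-- images orthogonal to one anisotropic pure plane are pure -/
theorem SO.pur_one (S : D.Four) {g : GL ι F} (hg : g ∈ M) {d m : Fin s → F} (hd : f₂ d d ≠ 0) (hm : f₂ m m ≠ 0)
    (hperp : D.Perp g d m) : D.Pur g d := by
  classical
  by_contra hnp
  have hg₂ := D.s2
  have h2 := D.two
  have hm0 : m ≠ 0 := fun h => hm (by rw [h, Orth.sym_zero_left hg₂])
  obtain ⟨x, hx⟩ : ∃ x, x = g * D.R d hd * g⁻¹ := ⟨_, rfl⟩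
  have hxM : x ∈ M := by rw [hx]; exact D.cj_mem hg hd
  have hxx : x * x = 1 := by rw [hx]; exact D.cj_sq hd
  have hxm : ∀ u, (x : Matrix ι ι F) *ᵥ T u m = T u m := fun u => hx ▸ D.cj_fix hg hd hperp u
  have hcommR : ∀ h ∈ M, (∀ u, (h : Matrix ι ι F) *ᵥ T u m = T u m) → h * D.R m hm = D.R m hm * h :=
    fun h hh hfix => gl_ext_vec fun w => by
      have h0 : D.cod m ((h : Matrix ι ι F) *ᵥ w) = D.cod m w := sub_eq_zero.1 (D.f1_ext fun v => by
        rw [Symp.sub_left D.s1, sub_eq_zero]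
        refine mul_left_cancel₀ D.kne ?_
        rw [← D.pol_cod, ← D.pol_cod]
        conv_lhs => rw [← hfix v, Symp.mem_isoSub.1 (D.le hh)])
      rw [gl_mul_mulVec, gl_mul_mulVec, D.R_mulVec, D.R_mulVec, mulVec_sub, hfix, h0]
  -- an involution centralising `x` and a reflection orthogonal to `m` would give purity
  have hconj : ∀ c, f₂ c m = 0 → ∀ hc : f₂ c c ≠ 0, ∃ h ∈ M, x = h * D.R c hc * h⁻¹ ∧
      ∀ u, (h : Matrix ι ι F) *ᵥ T u m = T u m := by
    intro c hcm hc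
    have hRm : ∀ u, (D.R c hc : Matrix ι ι F) *ᵥ T u m = T u m := fun u => D.R_fix c hc (by rw [hg₂.symm, hcm]) u
    have hcl : Subgroup.closure ({x, D.R c hc} : Set (GL ι F)) ≤ M :=
      (Subgroup.closure_le _).2 (Set.insert_subset hxM (Set.singleton_subset_iff.2 (D.R_mem c hc)))
    rcases invol_pair hxx (D.R_sq c hc) with ⟨h, hh, hhx⟩ | ⟨i, hi1, hii, hix, hiy, -⟩
    · exact ⟨h, hcl hh, hhx, fun u => closure_fix (hxm u) (hRm u) hh⟩
    exfalso
    obtain ⟨z, hz⟩ : ∃ z, z = (x * D.R c hc) ^ i := ⟨_, rfl⟩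
    rw [← hz] at hi1 hii hix hiy
    have hzcl : z ∈ Subgroup.closure ({x, D.R c hc} : Set (GL ι F)) := by
      rw [hz]
      exact mul_pow_mem_closure _ _ i
    have hzM := hcl hzcl
    have hzm : ∀ u, (z : Matrix ι ι F) *ᵥ T u m = T u m := fun u => closure_fix (hxm u) (hRm u) hzcl
    have hzT := D.cen_pair S hzM hc hm hcm (by rw [← mul_assoc, hiy, mul_assoc, hcommR z hzM hzm, mul_assoc])
    obtain ⟨a, ha⟩ : ∃ a : Fin r → F, a ≠ 0 := ⟨Pi.single ⟨0, D.rpos⟩ 1, by simp⟩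
    obtain ⟨B, hB, hBB, hBiso, -, y₁, hy₁⟩ := D.invol_right S hzM hzT hii hi1
      (tvec_ne_zero (e := e) (P := P) ha hm0) (hzm a)
    have hBm : B m = m := by
      refine sub_eq_zero.1 (by_contra fun h => tvec_ne_zero (e := e) (P := P) ha h ?_)
      rw [tvec_sub_right, ← hB, hzm, sub_self]
    rcases D.split_perp S hg hd hzM (by rw [← hx]; exact hix) hii hB with hplus | hminus
    swap
    · refine hnp (D.pur_plane S hg hd hm0 (fun t h => ?_) hperp (hminus (y₁ - B y₁) (by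
        rw [map_sub, hBB, neg_sub])))
      have e1 : B (y₁ - B y₁) = y₁ - B y₁ := by rw [h, map_smul, hBm]
      have e2 : B (y₁ - B y₁) = -(y₁ - B y₁) := by rw [map_sub, hBB, neg_sub]
      have h3 : (2 : F) • (y₁ - B y₁) = 0 := by rw [two_smul]; nth_rw 1 [← e1, e2]; exact neg_add_cancel _
      exact hy₁ ((smul_eq_zero.1 h3).resolve_left h2)
    -- otherwise `z` negates the vectors orthogonal to `m`
    have hneg : ∀ y, f₂ y m = 0 → B y = -y := fun y hy => by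
      refine eq_neg_of_add_eq_zero_right (by_contra fun hne => ?_)
      refine hnp (D.pur_plane S hg hd hm0 (fun t h => ?_) hperp (hplus (y + B y) (by rw [map_add, hBB, add_comm])))
      have h1 := congrArg (fun w => f₂ w m) h
      have h4 : f₂ (B y) m = 0 := by conv_lhs => rw [← hBm, hBiso, hy]
      simp [hg₂.bilinear.add_left, hg₂.bilinear.smul_left, hy, h4, hm] at h1
      rw [h1, zero_smul] at h
      exact hne h
    obtain ⟨c₁, hc₁, hc₁m, hc₁c, -⟩ := D.exists_perp3 S m c 0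
    obtain ⟨γ, hγ⟩ := exists_dot_ne_zero hc₁ hg₂
    obtain ⟨c₂, hc₂, hc₂m, hc₂c, hc₂γ⟩ := D.exists_perp3 S m c γ
    let Φ : (Fin r → F) × (Fin r → F) →ₗ[F] (ι → F) := (tR e P c₁).coprod (tR e P c₂)
    obtain ⟨w, hw, hw0⟩ := Submodule.exists_mem_ne_zero_of_ne_bot
      (LinearMap.ker_ne_bot_of_finrank_lt
        (f := (D.cod d).comp ((Matrix.mulVecLin ((g⁻¹ : GL ι F) : Matrix ι ι F)).comp Φ)) (by
          simp [S.r2]))
    have hw' : D.cod d (((g⁻¹ : GL ι F) : Matrix ι ι F) *ᵥ Φ w) = 0 := hw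
    have hxw : (x : Matrix ι ι F) *ᵥ Φ w = Φ w := by
      rw [hx, D.cj_mulVec, hw', smul_zero, tvec_zero_left, mulVec_zero, sub_zero]
    have hRw : (D.R c hc : Matrix ι ι F) *ᵥ Φ w = Φ w := by
      show (D.R c hc : Matrix ι ι F) *ᵥ (T w.1 c₁ + T w.2 c₂) = T w.1 c₁ + T w.2 c₂
      rw [mulVec_add, D.R_fix c hc hc₁c, D.R_fix c hc hc₂c]
    have hzw := closure_fix hxw hRw hzcl
    have hzw' : (z : Matrix ι ι F) *ᵥ Φ w = -Φ w := by
      show (z : Matrix ι ι F) *ᵥ (T w.1 c₁ + T w.2 c₂) = -(T w.1 c₁ + T w.2 c₂)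
      rw [mulVec_add, hB, hB, hneg _ hc₁m, hneg _ hc₂m, tvec_neg_right, tvec_neg_right, neg_add]
    have hΦ : Φ w = 0 := by
      have h3 : (2 : F) • Φ w = 0 := by rw [two_smul]; nth_rw 1 [← hzw, hzw']; exact neg_add_cancel _
      exact (smul_eq_zero.1 h3).resolve_left h2
    have e1 : w.1 = 0 := by
      have h3 := congrArg (D.cod γ) (show T w.1 c₁ + T w.2 c₂ = 0 from hΦ)
      rw [map_add, D.cod_tvec, D.cod_tvec, hc₂γ, zero_smul, add_zero, map_zero] at h3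
      exact (smul_eq_zero.1 h3).resolve_left hγ
    have e2 : w.2 = 0 := by
      have h3 : T w.1 c₁ + T w.2 c₂ = 0 := hΦ
      rw [e1, tvec_zero_left, zero_add] at h3
      exact by_contra fun h => tvec_ne_zero (e := e) (P := P) h hc₂ h3
    exact hw0 (Prod.ext e1 e2)
  -- two square classes orthogonal to `m`
  obtain ⟨p, hp, hpm, q, hq, hqm, hqp⟩ : ∃ p, f₂ p p ≠ 0 ∧ f₂ p m = 0 ∧ ∃ q, f₂ q q ≠ 0 ∧ f₂ q m = 0 ∧ f₂ q p = 0 := by
    obtain ⟨p0, hp0, hp0m, -, -⟩ := D.exists_perp3 S m 0 0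
    obtain ⟨p, hp, hpm⟩ : ∃ p, f₂ p p ≠ 0 ∧ f₂ p m = 0 := by
      by_cases h : f₂ p0 p0 = 0
      swap
      · exact ⟨p0, h, hp0m⟩
      obtain ⟨q0, hq0⟩ := D.exists_perp_ne S hp0 h hp0m
      obtain ⟨q1, hq1⟩ : ∃ q1, q1 = q0 - (f₂ q0 m / f₂ m m) • m := ⟨_, rfl⟩
      have e1 : f₂ q1 m = 0 := by simp [hq1, Orth.sym_sub_left hg₂, hg₂.bilinear.smul_left, hm]
      have e2 : f₂ q1 p0 = 1 := by simp [hq1, Orth.sym_sub_left hg₂, hg₂.bilinear.smul_left, hg₂.symm m p0, hp0m, hq0]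
      by_cases h' : f₂ q1 q1 = 0
      swap
      · exact ⟨q1, h', e1⟩
      refine ⟨q1 + p0, ?_, ?_⟩
      · simp [hg₂.bilinear.add_left, hg₂.bilinear.add_right, h, h', hg₂.symm p0 q1, e2]
        rw [one_add_one_eq_two]; exact h2
      · simp [hg₂.bilinear.add_left, e1, hp0m]
    obtain ⟨γ, hγ, hγm, hγp, -⟩ := D.exists_perp3 S m p 0
    refine ⟨p, hp, hpm, ?_⟩
    by_cases h : f₂ γ γ = 0
    swap
    · exact ⟨γ, h, hγm, hγp⟩
    obtain ⟨q0, hq0⟩ := D.exists_perp_ne S hγ h hγm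
    obtain ⟨q1, hq1⟩ : ∃ q1, q1 = q0 - (f₂ q0 m / f₂ m m) • m - (f₂ q0 p / f₂ p p) • p := ⟨_, rfl⟩
    have e1 : f₂ q1 m = 0 := by simp [hq1, Orth.sym_sub_left hg₂, hg₂.bilinear.smul_left, hm, hpm]
    have e3 : f₂ q1 p = 0 := by
      simp [hq1, Orth.sym_sub_left hg₂, hg₂.bilinear.smul_left, hp, hg₂.symm m p, hpm]
    have e2 : f₂ q1 γ = 1 := by
      simp [hq1, Orth.sym_sub_left hg₂, hg₂.bilinear.smul_left, hg₂.symm m γ, hg₂.symm p γ, hγm, hγp, hq0]
    by_cases h' : f₂ q1 q1 = 0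
    swap
    · exact ⟨q1, h', e1, e3⟩
    refine ⟨q1 + γ, ?_, ?_, ?_⟩
    · simp [hg₂.bilinear.add_left, hg₂.bilinear.add_right, h, h', hg₂.symm γ q1, e2]
      rw [one_add_one_eq_two]; exact h2
    · simp [hg₂.bilinear.add_left, e1, hγm]
    · simp [hg₂.bilinear.add_left, e3, hγp]
  obtain ⟨δ, hδ⟩ : ∃ δ : F, ¬ IsSquare δ := FiniteField.exists_nonsquare (fun hc => h2 (by rw [← Nat.cast_ofNat (n := 2) (R := F), ← hc]; exact ringChar.Nat.cast_ringChar))
  have hδ0 : δ ≠ 0 := fun h => hδ (h ▸ IsSquare.zero)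
  have hrep : ∀ v : F, v ≠ 0 → ∃ c, f₂ c m = 0 ∧ f₂ c c = v := fun v hv => by
    obtain ⟨i, j, hij⟩ := exists_binary h2 hp hq v hv
    refine ⟨i • p + j • q, by simp [hg₂.bilinear.add_left, hg₂.bilinear.smul_left, hpm, hqm], ?_⟩
    simp [hg₂.bilinear.add_left, hg₂.bilinear.add_right, hg₂.bilinear.smul_left, hg₂.bilinear.smul_right, hqp,
      hg₂.symm p q]
    linear_combination hij
  obtain ⟨c₁, hc₁m, hc₁⟩ := hrep 1 one_ne_zero
  obtain ⟨c₂, hc₂m, hc₂⟩ := hrep δ hδ0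
  have hc₁' : f₂ c₁ c₁ ≠ 0 := by rw [hc₁]; exact one_ne_zero
  have hc₂' : f₂ c₂ c₂ ≠ 0 := by rw [hc₂]; exact hδ0
  obtain ⟨h₁, hh₁, hx₁, hf₁⟩ := hconj c₁ hc₁m hc₁'
  obtain ⟨h₂, hh₂, hx₂, hf₂⟩ := hconj c₂ hc₂m hc₂'
  obtain ⟨w, hw⟩ : ∃ w, w = h₁⁻¹ * h₂ := ⟨_, rfl⟩
  have hwM : w ∈ M := hw ▸ mul_mem (inv_mem hh₁) hh₂
  have hwm : ∀ u, (w : Matrix ι ι F) *ᵥ T u m = T u m := fun u => by
    rw [hw, gl_mul_mulVec, hf₂]
    conv_lhs => rw [← hf₁ u, gl_inv_mulVec]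
  have hwR : w * D.R c₂ hc₂' = D.R c₁ hc₁' * w := by
    have h1 : h₂ * D.R c₂ hc₂' * h₂⁻¹ = h₁ * D.R c₁ hc₁' * h₁⁻¹ := hx₂.symm.trans hx₁
    calc w * D.R c₂ hc₂' = h₁⁻¹ * (h₂ * D.R c₂ hc₂' * h₂⁻¹) * h₂ := by rw [hw]; group
      _ = _ := by rw [h1, hw]; group
  have himg : ∀ u, ∃ u', (w : Matrix ι ι F) *ᵥ T u c₂ = T u' c₁ := fun u => D.R_neg_pure c₁ hc₁' (by
    rw [← gl_mul_mulVec, ← hwR, gl_mul_mulVec, D.R_neg, mulVec_neg])
  -- `w` is a tensor product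
  obtain ⟨b₁, hb₁, hb₁m, hb₁c, -⟩ := D.exists_perp3 S m c₁ 0
  obtain ⟨γ, hγ⟩ := exists_dot_ne_zero hb₁ hg₂
  obtain ⟨b₂, hb₂, hb₂m, hb₂c, hb₂γ⟩ := D.exists_perp3 S m c₁ γ
  have hsurj : ∀ v, ∃ u, (w : Matrix ι ι F) *ᵥ T u c₂ = T v c₁ := by
    choose A hA using himg
    have hc₁0 : c₁ ≠ 0 := fun h0 => hc₁' (by rw [h0, Orth.sym_zero_left hg₂])
    have hc₂0 : c₂ ≠ 0 := fun h0 => hc₂' (by rw [h0, Orth.sym_zero_left hg₂])
    let Al : (Fin r → F) →ₗ[F] (Fin r → F) :=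
      { toFun := A
        map_add' := fun u v => tvec_left_inj (e := e) (P := P) hc₁0
          (by rw [← hA, tvec_add_left, tvec_add_left, mulVec_add, hA, hA])
        map_smul' := fun t u => tvec_left_inj (e := e) (P := P) hc₁0
          (by rw [← hA, tvec_smul_left, mulVec_smul, hA, ← tvec_smul_left]; rfl) }
    have hinj : Function.Injective Al := (injective_iff_map_eq_zero Al).2 fun u hu => by
      have h1 := hA u
      rw [show A u = 0 from hu, tvec_zero_left, gl_mulVec_eq_zero] at h1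
      exact tvec_left_inj (e := e) (P := P) hc₂0 (h1.trans (tvec_zero_left _).symm)
    intro v
    obtain ⟨u, hu⟩ := LinearMap.injective_iff_surjective.1 hinj v
    exact ⟨u, by rw [hA, show A u = v from hu]⟩
  have hwT : w ∈ tensorProductSubgroup r s e P := by
    refine D.pres (p' := b₁) (q' := b₂) S hwM hc₂' hm hc₂m hc₁' hm hc₁m (fun y hy hy' => ⟨fun u => D.f1_ext fun v => ?_,
      fun u => D.f1_ext fun v => ?_⟩) hb₁ (fun t h => ?_) fun i j => ?_
    · obtain ⟨v', hv'⟩ := hsurj v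
      have h1 := Symp.mem_isoSub.1 (D.le hwM) (T u y) (T v' c₂)
      rw [hv', D.pol_cod, D.pol, hy, mul_zero, mul_zero] at h1
      exact (mul_eq_zero.1 h1).resolve_left D.kne
    · have h1 := Symp.mem_isoSub.1 (D.le hwM) (T u y) (T v m)
      rw [hwm, D.pol_cod, D.pol, hy', mul_zero, mul_zero] at h1
      exact (mul_eq_zero.1 h1).resolve_left D.kne
    · rw [h, hg₂.bilinear.smul_left, mul_eq_zero] at hb₂γ
      rcases hb₂γ with h6 | h6
      · exact hb₂ (by rw [h, h6, zero_smul])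
      · exact hγ h6
    · refine ⟨fun u => ?_, fun u => ?_⟩ <;>
      · obtain ⟨u', hu'⟩ := himg u
        rw [tvec_add_right, tvec_smul_right, tvec_smul_right, mulVec_add, mulVec_smul, mulVec_smul, hu', hwm, map_add,
          map_smul, map_smul, D.cod_tvec, D.cod_tvec]
        simp [hg₂.symm c₁ b₁, hg₂.symm m b₁, hg₂.symm c₁ b₂, hg₂.symm m b₂, hb₁c, hb₁m, hb₂c, hb₂m]
  obtain ⟨A, B, μ, ν, hμν, hA, hB, hwk⟩ := D.tensor_data hwM hwT
  obtain ⟨a, ha⟩ : ∃ a : Fin r → F, a ≠ 0 := ⟨Pi.single ⟨0, D.rpos⟩ 1, by simp⟩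
  obtain ⟨p', hp'⟩ := D.exists_partner ha
  -- the multipliers
  obtain ⟨β, hβ⟩ : ∃ β, β = f₂ ((B : Matrix (Fin s) (Fin s) F) *ᵥ m) m / f₂ m m := ⟨_, rfl⟩
  have hAu : ∀ u, β • ((A : Matrix (Fin r) (Fin r) F) *ᵥ u) = u := fun u => by
    have h1 := congrArg (D.cod m) (hwm u)
    rw [hwk, kg_tvec, D.cod_tvec, D.cod_tvec] at h1
    rw [hβ, div_eq_inv_mul, mul_smul, h1, smul_smul, inv_mul_cancel₀ hm, one_smul]
  have hβμ : β * β * μ = 1 := by
    have h1 : f₁ (β • ((A : Matrix (Fin r) (Fin r) F) *ᵥ p')) (β • ((A : Matrix (Fin r) (Fin r) F) *ᵥ a)) = 1 := by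
      rw [hAu, hAu, hp']
    rw [D.s1.bilinear.smul_left, D.s1.bilinear.smul_right, hA, hp'] at h1
    linear_combination h1
  obtain ⟨u', hu'⟩ := himg p'
  rw [hwk, kg_tvec] at hu'
  obtain ⟨η, hη⟩ : ∃ η, η = f₂ ((B : Matrix (Fin s) (Fin s) F) *ᵥ c₂) c₁ := ⟨_, rfl⟩
  have hAp : (A : Matrix (Fin r) (Fin r) F) *ᵥ p' ≠ 0 := fun h => by
    have h1 := hAu p'
    rw [h, smul_zero] at h1
    rw [← h1, Symp.zero_left D.s1] at hp'
    exact zero_ne_one hp'
  have hBc : (B : Matrix (Fin s) (Fin s) F) *ᵥ c₂ = η • c₁ := by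
    refine sub_eq_zero.1 (sym_eq_zero hg₂ fun y => ?_)
    have h1 := congrArg (D.cod (y - f₂ y c₁ • c₁)) hu'
    rw [D.cod_tvec, D.cod_tvec, Orth.sym_sub_right hg₂, Orth.sym_sub_right hg₂, hg₂.bilinear.smul_right,
      hg₂.bilinear.smul_right, hc₁, ← hη, mul_one, hg₂.symm c₁ y, sub_self, zero_smul] at h1
    have h3 := (smul_eq_zero.1 h1).resolve_right hAp
    rw [Orth.sym_sub_left hg₂, hg₂.bilinear.smul_left, hg₂.symm c₁ y]
    linear_combination h3
  have h1 := hB c₂ c₂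
  rw [hBc, hg₂.bilinear.smul_left, hg₂.bilinear.smul_right, hc₁, hc₂] at h1
  have hν : ν = β * β := by linear_combination (-ν) * hβμ + β * β * hμν
  exact hδ ⟨η / β, by
    have hβ0 : β ≠ 0 := fun h => by rw [h, zero_mul, zero_mul] at hβμ; exact zero_ne_one hβμ
    field_simp
    rw [hν] at h1
    linear_combination -h1⟩

/-- the case of a plane tensor a four-dimensional space of minus type -/
theorem SO.le_tensor_four (S : D.Four) : M ≤ tensorProductSubgroup r s e P := by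
  intro g hg
  refine D.frame_tensor hg fun d hd => ?_
  have hg₂ := D.s2
  have h2 := D.two
  -- two orthogonal anisotropic vectors
  let B2 : LinearMap.BilinForm F (Fin s → F) :=
    LinearMap.mk₂ F f₂ hg₂.bilinear.add_left hg₂.bilinear.smul_left hg₂.bilinear.add_right hg₂.bilinear.smul_right
  obtain ⟨v, ho, hne⟩ := CfsgLib.Classical.exists_orthogonal_anisotropic h2 B2 ⟨fun x y => hg₂.symm x y⟩
    ⟨fun x hx => sym_eq_zero hg₂ hx, fun x hx => sym_eq_zero hg₂ fun y => by rw [hg₂.symm]; exact hx y⟩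
    (n := s) (by simp)
  obtain ⟨i₀, i₁, i₂, i₃, h01, h02, h03, h12, h13, h23⟩ : ∃ i₀ i₁ i₂ i₃ : Fin s,
      i₀ ≠ i₁ ∧ i₀ ≠ i₂ ∧ i₀ ≠ i₃ ∧ i₁ ≠ i₂ ∧ i₁ ≠ i₃ ∧ i₂ ≠ i₃ := by
    have hs := S.s4
    exact ⟨⟨0, by omega⟩, ⟨1, by omega⟩, ⟨2, by omega⟩, ⟨3, by omega⟩, by simp, by simp, by simp, by simp, by simp,
      by simp⟩
  have hne' : ∀ i, f₂ (v i) (v i) ≠ 0 := hne
  have ho' : ∀ i j, i ≠ j → f₂ (v i) (v j) = 0 := ho
  obtain ⟨x, hx⟩ : ∃ x, x = g * D.R d hd * g⁻¹ := ⟨_, rfl⟩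
  have hxM : x ∈ M := by rw [hx]; exact D.cj_mem hg hd
  obtain ⟨y, hy⟩ : ∃ y, y = D.R (v i₀) (hne' i₀) * D.R (v i₁) (hne' i₁) := ⟨_, rfl⟩
  have hyM : y ∈ M := hy ▸ mul_mem (D.R_mem _ _) (D.R_mem _ _)
  have hcomm : D.R (v i₀) (hne' i₀) * D.R (v i₁) (hne' i₁) = D.R (v i₁) (hne' i₁) * D.R (v i₀) (hne' i₀) :=
    gl_ext_tvec (e := e) (P := P) fun u w => by
      simp only [gl_mul_mulVec, D.R_mulVec, mulVec_sub, map_sub, D.cod_tvec, ho' i₁ i₀ h01.symm, ho' i₀ i₁ h01,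
        zero_smul, smul_zero, tvec_zero_left, sub_zero]
      abel
  have hy2 : y * y = 1 := by
    rw [hy]
    nth_rw 2 [hcomm]
    rw [mul_assoc, ← mul_assoc (D.R (v i₁) (hne' i₁)), D.R_sq, one_mul, D.R_sq]
  have hyfix : ∀ u m, f₂ m (v i₀) = 0 → f₂ m (v i₁) = 0 → (y : Matrix ι ι F) *ᵥ T u m = T u m := fun u m e1 e2 => by
    rw [hy, gl_mul_mulVec, D.R_fix _ _ e2, D.R_fix _ _ e1]
  have hyneg0 : ∀ u, (y : Matrix ι ι F) *ᵥ T u (v i₀) = -T u (v i₀) := fun u => by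
    rw [hy, gl_mul_mulVec, D.R_fix _ _ (ho' i₀ i₁ h01), D.R_neg]
  have hyneg1 : ∀ u, (y : Matrix ι ι F) *ᵥ T u (v i₁) = -T u (v i₁) := fun u => by
    rw [hy, gl_mul_mulVec, D.R_neg, mulVec_neg, D.R_fix _ _ (ho' i₁ i₀ h01.symm)]
  have hxx : x * x = 1 := by rw [hx]; exact D.cj_sq hd
  have hpair : ∀ i j, i ≠ j → ∀ w : (Fin r → F) × (Fin r → F),
      T w.1 (v i) + T w.2 (v j) = 0 → w = 0 := fun i j hij w h => by
    have e1 := congrArg (D.cod (v i)) h
    have e2 := congrArg (D.cod (v j)) h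
    rw [map_add, D.cod_tvec, D.cod_tvec, ho' j i hij.symm, zero_smul, add_zero, map_zero] at e1
    rw [map_add, D.cod_tvec, D.cod_tvec, ho' i j hij, zero_smul, zero_add, map_zero] at e2
    exact Prod.ext ((smul_eq_zero.1 e1).resolve_left (hne' i)) ((smul_eq_zero.1 e2).resolve_left (hne' j))
  rcases invol_pair hxx hy2 with ⟨h, hh, hconj⟩ | ⟨i, hi1, hii, hix, hiy, -⟩
  · exfalso
    -- the negated spaces have dimensions two and four
    let Φ : (Fin r → F) × (Fin r → F) →ₗ[F] (ι → F) :=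
      (Matrix.mulVecLin (h : Matrix ι ι F)).comp ((tR e P (v i₀)).coprod (tR e P (v i₁)))
    have hinj : Function.Injective Φ := (injective_iff_map_eq_zero Φ).2 fun w hw =>
      hpair i₀ i₁ h01 w ((gl_mulVec_eq_zero (g := h)).1 hw)
    have hrange : LinearMap.range Φ ≤ LinearMap.ker (Matrix.mulVecLin (x : Matrix ι ι F) + LinearMap.id) := by
      rintro _ ⟨w, rfl⟩
      show (x : Matrix ι ι F) *ᵥ ((h : Matrix ι ι F) *ᵥ (T w.1 (v i₀) + T w.2 (v i₁))) +
        (h : Matrix ι ι F) *ᵥ (T w.1 (v i₀) + T w.2 (v i₁)) = 0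
      rw [hconj, gl_mul_mulVec, gl_mul_mulVec, gl_inv_mulVec, mulVec_add (y : Matrix ι ι F), hyneg0, hyneg1, ← neg_add,
        mulVec_neg, neg_add_cancel]
    have h1 := Submodule.finrank_mono hrange
    rw [LinearMap.finrank_range_of_inj hinj, hx] at h1
    have h3 := D.neg_le d hd g
    simp [S.r2] at h1 h3
    omega
  have hcl : Subgroup.closure ({x, y} : Set (GL ι F)) ≤ M :=
    (Subgroup.closure_le _).2 (Set.insert_subset hxM (Set.singleton_subset_iff.2 hyM))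
  obtain ⟨z, hz⟩ : ∃ z, z = (x * y) ^ i := ⟨_, rfl⟩
  rw [← hz] at hi1 hii hix hiy
  have hzcl : z ∈ Subgroup.closure ({x, y} : Set (GL ι F)) := by
    rw [hz]
    exact mul_pow_mem_closure _ _ i
  have hzM := hcl hzcl
  have hzT := D.cen_pair S hzM (hne' i₀) (hne' i₁) (ho' i₀ i₁ h01) (by rw [← hy]; exact hiy)
  obtain ⟨w, hw, hw0⟩ := Submodule.exists_mem_ne_zero_of_ne_bot
    (LinearMap.ker_ne_bot_of_finrank_lt (f := (D.cod d).comp ((Matrix.mulVecLin ((g⁻¹ : GL ι F) : Matrix ι ι F)).comp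
      ((tR e P (v i₂)).coprod (tR e P (v i₃))))) (by simp [S.r2]))
  have hw' : D.cod d (((g⁻¹ : GL ι F) : Matrix ι ι F) *ᵥ (T w.1 (v i₂) + T w.2 (v i₃))) = 0 := hw
  have hzw : (z : Matrix ι ι F) *ᵥ (T w.1 (v i₂) + T w.2 (v i₃)) = T w.1 (v i₂) + T w.2 (v i₃) := by
    refine closure_fix ?_ ?_ hzcl
    · rw [hx, D.cj_mulVec, hw', smul_zero, tvec_zero_left, mulVec_zero, sub_zero]
    · rw [mulVec_add, hyfix _ _ (ho' _ _ h02.symm) (ho' _ _ h12.symm), hyfix _ _ (ho' _ _ h03.symm) (ho' _ _ h13.symm)]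
  obtain ⟨B, hB, hBB, hBiso, ⟨y₁, hy₁⟩, y₂, hy₂⟩ := D.invol_right S hzM hzT hii hi1
    (fun h => hw0 (hpair i₂ i₃ h23 w h)) hzw
  have fin : ∀ n, n ≠ 0 → D.Perp g d n → D.Pur g d := fun n hn hp => by
    by_cases hnn : f₂ n n = 0
    · exact D.pur_singular S hg hd hn hnn hp
    · exact D.pur_one S hg hd hnn hp
  rcases D.split_perp S hg hd hzM (by rw [← hx]; exact hix) hii hB with hplus | hminus
  · exact fin _ hy₁ (hplus _ (by rw [map_add, hBB, add_comm]))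
  · exact fin _ hy₂ (hminus _ (by rw [map_sub, hBB, neg_sub]))

omit D in
/-- the tensor product subgroup of a plane and a four-dimensional space of minus type is maximal -/
theorem symp_orth_maximal_four (hf : IsSymplecticForm f) (h1 : IsSymplecticForm f₁) (h2 : IsSymmetricForm f₂)
    (hT : IsTensorFormStructure id f f₁ f₂ e P) (htwo : (2 : F) ≠ 0) (hr : r = 2) (hs : s = 4)
    (hminus : NoPlane f₂) : IsMaximalIn (Symp.isoSub f) (tensorProductSubgroup r s e P ⊓ Symp.isoSub f) := by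
  obtain ⟨k, hk, hpol⟩ := tvec_form (σ := id) (fun a b => rfl) (sesq_of_bilinear h1.bilinear)
    (sesq_of_bilinear h2.bilinear) hT
  have base : ∀ M : Subgroup (GL ι F), tensorProductSubgroup r s e P ⊓ Symp.isoSub f ≤ M → M ≤ Symp.isoSub f →
      SO f f₁ f₂ e P k M := fun M hHM hM => ⟨hf, h1, h2, htwo, hk, by omega, by omega, hpol, hM, hHM⟩
  refine ⟨lt_of_le_of_ne inf_le_right fun h => ?_, fun M hHM hM => ?_⟩
  · exact (base _ inf_le_right le_rfl).not_tensor (h ▸ inf_le_left)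
  by_cases hfull : Symp.isoSub f ≤ M
  · exact Or.inr (le_antisymm hM hfull)
  exact Or.inl (le_antisymm (le_inf ((base M hHM hM).le_tensor_four ⟨hr, hs, hfull, hminus⟩) hM) hHM)

omit D in
/-- not of plus type means that there is no totally singular plane -/
theorem noPlane_of_not_plus {f₂ : (Fin 4 → F) → (Fin 4 → F) → F} (hf₂ : IsSymmetricForm f₂)
    (h : ¬ Cfsg.Geo.IsPlusTypeOn (fun v : Fin 4 → F => f₂ v v) ⊤) : NoPlane f₂ := by
  classical
  intro n n' hn hnn hn'n' hnn'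
  by_contra hcon
  push Not at hcon
  refine h ⟨Submodule.span F {n, n'}, le_top, fun v hv => ?_, ?_⟩
  · obtain ⟨a, b, rfl⟩ := Submodule.mem_span_pair.1 hv
    simp [hf₂.bilinear.add_left, hf₂.bilinear.add_right, hf₂.bilinear.smul_left, hf₂.bilinear.smul_right, hnn, hn'n',
      hnn', hf₂.symm n' n]
  · have hli : LinearIndependent F ![n, n'] := (LinearIndependent.pair_iff' hn).2 fun a => (hcon a).symm
    have h1 := finrank_span_eq_card hli
    rw [Matrix.range_cons_cons_empty] at h1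
    rw [h1, finrank_top]
    simp

end CfsgLib.Perm.Trans.TensorSO
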