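import Cfsg.Agent.Lib.Perm.Trans.TensorSO.FourBase

/-!
# A plane tensor a four-dimensional space of minus type: images orthogonal to two pure planes
-/

set_option autoImplicit false
set_option linter.all false

namespace CfsgLib.Perm.Trans.TensorSO

open scoped Matrix Kronecker
open Matrix Cfsg.Geo CfsgLib.Perm.Asch CfsgLib.Perm.Trans CfsgLib.Perm.Trans.TensorFrame
open CfsgLib.Perm.Trans.TensorMax

variable {ι : Type} [Fintype ι] [DecidableEq ι] {F : Type*} [Field F] [Fintype F] {r s : ℕ}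
variable {e : ι ≃ Fin r × Fin s} {P : GL ι F}
variable {f : (ι → F) → (ι → F) → F} {f₁ : (Fin r → F) → (Fin r → F) → F} {f₂ : (Fin s → F) → (Fin s → F) → F}
variable {k : F} {M : Subgroup (GL ι F)}

local notation "T" => tvec e P

variable (D : SO f f₁ f₂ e P k M)
include D

theorem SO.root_tv (a : Fin r → F) (t : F) (u : Fin r → F) (w : Fin s → F) :
    (D.root a t : Matrix ι ι F) *ᵥ T u w = T (u + (t * f₁ u a) • a) w := by
  rw [D.root_mulVec, D.cob_tvec, smul_smul, tvec_add_left, tvec_smul_right, tvec_smul_left]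

theorem SO.root_inv_tv (a : Fin r → F) (t : F) (u : Fin r → F) (w : Fin s → F) :
    (((D.root a t)⁻¹ : GL ι F) : Matrix ι ι F) *ᵥ T u w = T (u - (t * f₁ u a) • a) w := by
  conv_lhs => rw [show T u w = (D.root a t : Matrix ι ι F) *ᵥ T (u - (t * f₁ u a) • a) w by
    rw [D.root_tv, Symp.sub_left D.s1, D.s1.bilinear.smul_left, D.s1.alternating, mul_zero, sub_zero, sub_add_cancel]]
  rw [gl_inv_mulVec]

/-- images orthogonal to an anisotropic plane -/
theorem SO.pur_aniso (S : D.Four) {g : GL ι F} (hg : g ∈ M) {d a b : Fin s → F} (hd : f₂ d d ≠ 0)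
    (haa : f₂ a a ≠ 0) (hbb : f₂ b b ≠ 0) (hab : f₂ a b = 0) (hani : ¬ IsSquare (-(f₂ a a * f₂ b b)))
    (hpa : D.Perp g d a) (hpb : D.Perp g d b) : D.Pur g d := by
  have hg₂ := D.s2
  have h2 := D.two
  obtain ⟨n, n', hna, hnb, hn'a, hn'b, hnn, hn'n', hn'n⟩ := D.exists_hyp S haa hbb hab hani
  have hnn' : f₂ n n' = 1 := by rw [hg₂.symm, hn'n]
  have hn0 : n ≠ 0 := fun h => by rw [h, Orth.sym_zero_left hg₂] at hnn'; exact zero_ne_one hnn'
  have ha0 : a ≠ 0 := fun h => haa (by rw [h, Orth.sym_zero_left hg₂])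
  obtain ⟨x, hx⟩ : ∃ x, x = g * D.R d hd * g⁻¹ := ⟨_, rfl⟩
  have hxM : x ∈ M := hx ▸ D.cj_mem hg hd
  have hxx : x * x = 1 := hx ▸ D.cj_sq hd
  have hxa : ∀ u, (x : Matrix ι ι F) *ᵥ T u a = T u a := fun u => hx ▸ D.cj_fix hg hd hpa u
  have hxb : ∀ u, (x : Matrix ι ι F) *ᵥ T u b = T u b := fun u => hx ▸ D.cj_fix hg hd hpb u
  have hx2 : ∀ z, (x : Matrix ι ι F) *ᵥ ((x : Matrix ι ι F) *ᵥ z) = z := fun z => by
    rw [← gl_mul_mulVec, hxx, Units.val_one, one_mulVec]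
  have hadj : ∀ z w, f ((x : Matrix ι ι F) *ᵥ z) w = f z ((x : Matrix ι ι F) *ᵥ w) := fun z w => by
    conv_lhs => rw [← hx2 w, Symp.mem_isoSub.1 (D.le hxM)]
  -- coordinates
  have hperp : ∀ u (p : Fin s → F), f₂ p n = 0 → f₂ p n' = 0 → ∀ y, (∀ v, (x : Matrix ι ι F) *ᵥ T v p = T v p) →
      f₂ y p = 0 → D.cod p ((x : Matrix ι ι F) *ᵥ T u y) = 0 := fun u p _ _ y hp hyp => D.f1_ext fun v => by
    have h1 := hadj (T u y) (T v p)
    rw [hp, D.pol_cod, D.pol, hyp, mul_zero, mul_zero] at h1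
    exact (mul_eq_zero.1 h1).resolve_left D.kne
  have hz : ∀ z, D.cod a z = 0 → D.cod b z = 0 → z = T (D.cod n' z) n + T (D.cod n z) n' := fun z hza hzb => by
    refine sub_eq_zero.1 (D.ext_cod fun m => ?_)
    refine D.cod_map m ![f₂ m a / f₂ a a, f₂ m b / f₂ b b, f₂ m n', f₂ m n] ![a, b, n, n'] _ ?_ fun i => ?_
    · rw [Fin.sum_univ_four]
      exact D.hyp_eq S haa hbb hab hna hnb hn'a hn'b hnn hn'n' hn'n m
    · fin_cases i <;> simp [map_sub, map_add, D.cod_tvec, hza, hzb, hna, hnb, hn'a, hn'b, hnn, hn'n', hn'n, hnn',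
        hg₂.symm a n, hg₂.symm b n, hg₂.symm a n', hg₂.symm b n']
  have hsplit : ∀ u y, f₂ y a = 0 → f₂ y b = 0 → (x : Matrix ι ι F) *ᵥ T u y =
      T (D.cod n' ((x : Matrix ι ι F) *ᵥ T u y)) n + T (D.cod n ((x : Matrix ι ι F) *ᵥ T u y)) n' := fun u y hya hyb =>
    hz _ (hperp u a (by rw [hg₂.symm, hna]) (by rw [hg₂.symm, hn'a]) y hxa hya)
      (hperp u b (by rw [hg₂.symm, hnb]) (by rw [hg₂.symm, hn'b]) y hxb hyb)
  let α : (Fin r → F) →ₗ[F] (Fin r → F) := (D.cod n').comp ((Matrix.mulVecLin (x : Matrix ι ι F)).comp (tR e P n))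
  let γ : (Fin r → F) →ₗ[F] (Fin r → F) := (D.cod n).comp ((Matrix.mulVecLin (x : Matrix ι ι F)).comp (tR e P n))
  let β : (Fin r → F) →ₗ[F] (Fin r → F) := (D.cod n').comp ((Matrix.mulVecLin (x : Matrix ι ι F)).comp (tR e P n'))
  let δ : (Fin r → F) →ₗ[F] (Fin r → F) := (D.cod n).comp ((Matrix.mulVecLin (x : Matrix ι ι F)).comp (tR e P n'))
  have hxn0 : ∀ u, (x : Matrix ι ι F) *ᵥ T u n = T (α u) n + T (γ u) n' := fun u => hsplit u n hna hnb
  have hxn'0 : ∀ u, (x : Matrix ι ι F) *ᵥ T u n' = T (β u) n + T (δ u) n' := fun u => hsplit u n' hn'a hn'b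
  obtain ⟨c, hc⟩ := D.scalar_of_adj S γ fun u v => by
    have h1 := hadj (T u n) (T v n)
    rw [hxn0, hxn0, D.hf.bilinear.add_left, D.hf.bilinear.add_right, D.pol, D.pol, D.pol, D.pol, hnn, hn'n,
      hnn'] at h1
    exact mul_left_cancel₀ D.kne (by linear_combination h1)
  obtain ⟨bb, hb⟩ := D.scalar_of_adj S β fun u v => by
    have h1 := hadj (T u n') (T v n')
    rw [hxn'0, hxn'0, D.hf.bilinear.add_left, D.hf.bilinear.add_right, D.pol, D.pol, D.pol, D.pol, hn'n', hn'n,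
      hnn'] at h1
    exact mul_left_cancel₀ D.kne (by linear_combination h1)
  have hδ : ∀ u v, f₁ (α u) v = f₁ u (δ v) := fun u v => by
    have h1 := hadj (T u n) (T v n')
    rw [hxn0, hxn'0, D.hf.bilinear.add_left, D.hf.bilinear.add_right, D.pol, D.pol, D.pol, D.pol, hn'n', hnn,
      hnn'] at h1
    exact mul_left_cancel₀ D.kne (by linear_combination h1)
  have hxn : ∀ u, (x : Matrix ι ι F) *ᵥ T u n = T (α u) n + T (c • u) n' := fun u => by rw [hxn0, hc]
  have hxn' : ∀ u, (x : Matrix ι ι F) *ᵥ T u n' = T (bb • u) n + T (δ u) n' := fun u => by rw [hxn'0, hb]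
  have hread : ∀ p p' q q' : Fin r → F, T p n + T p' n' = T q n + T q' n' → p = q ∧ p' = q' := fun p p' q q' h => by
    have e1 := congrArg (D.cod n') h
    have e2 := congrArg (D.cod n) h
    simp only [map_add, D.cod_tvec, hnn, hn'n, hnn', hn'n', zero_smul, one_smul, add_zero, zero_add] at e1 e2
    exact ⟨e1, e2⟩
  have hsq : ∀ u, α (α u) + (c * bb) • u = u ∧ c • (α u + δ u) = 0 := fun u => by
    have h1 : T (α (α u) + (c * bb) • u) n + T (c • (α u + δ u)) n' = T u n + T 0 n' := by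
      rw [tvec_zero_left, add_zero]
      conv_rhs => rw [← hx2 (T u n), hxn u, mulVec_add, hxn, hxn', map_smul, smul_smul, mul_comm bb c]
      rw [tvec_add_left, smul_add, tvec_add_left]
      abel
    exact hread _ _ _ _ h1
  have hΔ : ∀ u, α (α u) = (1 - c * bb) • u := fun u => by
    rw [sub_smul, one_smul]
    exact eq_sub_of_add_eq (hsq u).1
  -- pure vectors moved to their negatives
  have hneg : ∀ m, m ≠ 0 → (∀ u, (x : Matrix ι ι F) *ᵥ T u m = -T u m) →
      f₂ m m ≠ 0 ∧ ∀ u, ∃ u', (g : Matrix ι ι F) *ᵥ T u d = T u' m := fun m hm h => by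
    refine D.pur_of_sub hg hd hm fun u => ?_
    refine ⟨(2 : F)⁻¹ • (2 / f₂ d d) • D.cod d (((g⁻¹ : GL ι F) : Matrix ι ι F) *ᵥ T u m), ?_⟩
    have h1 := h u
    rw [hx, D.cj_mulVec] at h1
    rw [tvec_smul_left (2 : F)⁻¹, mulVec_smul,
      show (g : Matrix ι ι F) *ᵥ T ((2 / f₂ d d) • D.cod d (((g⁻¹ : GL ι F) : Matrix ι ι F) *ᵥ T u m)) d =
        (2 : F) • T u m by linear_combination (norm := module) -h1, smul_smul, inv_mul_cancel₀ h2, one_smul]
  obtain ⟨a', ha'⟩ : ∃ a' : Fin r → F, a' ≠ 0 := ⟨Pi.single ⟨0, D.rpos⟩ 1, by simp⟩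
  rcases D.scalar_or_skew S α hΔ with ⟨a₀, ha₀⟩ | ⟨hskew, v, hv, hsp⟩
  · have hδ0 : ∀ u, δ u = a₀ • u := fun u => by
      refine sub_eq_zero.1 (D.f1_ext fun w => ?_)
      have h1 := hδ w u
      rw [ha₀, D.s1.bilinear.smul_left] at h1
      rw [Symp.sub_left D.s1, D.s1.bilinear.smul_left, D.s1.skew (δ u) w, D.s1.skew u w, ← h1]
      ring
    have h1 : a₀ * a₀ + c * bb = 1 := by
      have h := (hsq a').1
      rw [ha₀, ha₀, smul_smul, ← add_smul] at h
      exact smul_left_injective F ha' (show (a₀ * a₀ + c * bb) • a' = (1 : F) • a' by rw [one_smul]; exact h)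
    rcases eq_or_ne a₀ 0 with h0 | h0
    · subst h0
      rw [zero_mul, zero_add] at h1
      obtain ⟨hmm, hm⟩ := hneg (n - c • n') (fun h => by
          have h' := congrArg (fun w => f₂ w n') h
          simp [Orth.sym_sub_left hg₂, hg₂.bilinear.smul_left, hnn', hn'n', Orth.sym_zero_left hg₂] at h')
        (fun u => by
          rw [tvec_sub_right, tvec_smul_right, mulVec_sub, mulVec_smul, hxn, hxn', ha₀, hδ0, zero_smul,
            tvec_zero_left, tvec_zero_left, zero_add, add_zero, tvec_smul_left, tvec_smul_left, smul_smul, h1,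
            one_smul]
          abel)
      exact ⟨_, hmm, hm⟩
    have hc0 : c = 0 := by
      have h := (hsq a').2
      rw [ha₀, hδ0, ← add_smul, smul_smul, smul_eq_zero, ← two_mul] at h
      exact (mul_eq_zero.1 (h.resolve_right ha')).resolve_right (mul_ne_zero h2 h0)
    rw [hc0, zero_mul, add_zero] at h1
    rcases mul_self_eq_one_iff.1 h1 with h1' | h1'
    · refine D.pur_singular S hg hd hn0 hnn (D.perp_of_fix hg hd fun u => ?_)
      rw [← hx, hxn, ha₀, h1', hc0, one_smul, zero_smul, tvec_zero_left, add_zero]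
    · exact absurd hnn (hneg n hn0 fun u => by
        rw [hxn, ha₀, h1', hc0, neg_one_smul, zero_smul, tvec_zero_left, add_zero, tvec_neg_left]).1
  exfalso
  have hδ0 : ∀ u, δ u = -α u := fun u => by
    refine eq_neg_of_add_eq_zero_left (D.f1_ext fun w => ?_)
    rw [D.s1.bilinear.add_left, D.s1.skew (δ u) w, ← hδ, hskew, D.s1.skew (α u) w]
    ring
  obtain ⟨l, hl⟩ : ∃ l, l = (f₁ (α v) v)⁻¹ := ⟨_, rfl⟩
  obtain ⟨Δ, hΔd⟩ : ∃ Δ, Δ = 1 - c * bb := ⟨_, rfl⟩
  rw [← hΔd] at hΔ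
  obtain ⟨H, hH⟩ : ∃ H, H = D.root v l := ⟨_, rfl⟩
  have hHM : H ∈ M := hH ▸ D.root_mem v l
  let hp : (Fin r → F) →ₗ[F] (Fin r → F) := LinearMap.id + (l • Symp.sfun D.s1 v).smulRight v
  let hm : (Fin r → F) →ₗ[F] (Fin r → F) := LinearMap.id - (l • Symp.sfun D.s1 v).smulRight v
  have hHy : ∀ u y, (H : Matrix ι ι F) *ᵥ T u y = T (hp u) y := fun u y => by rw [hH, D.root_tv]; rfl
  have hHiy : ∀ u y, ((H⁻¹ : GL ι F) : Matrix ι ι F) *ᵥ T u y = T (hm u) y := fun u y => by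
    rw [hH, D.root_inv_tv]; rfl
  obtain ⟨w, hw⟩ : ∃ w, w = α v := ⟨_, rfl⟩
  have hl1 : l * f₁ w v = 1 := by rw [hl, hw, inv_mul_cancel₀ hv]
  have hαw : α w = Δ • v := by rw [hw, hΔ]
  have hαv : α v = w := hw.symm
  have hpv : hp v = v := by
    show v + (l * f₁ v v) • v = v
    rw [D.s1.alternating, mul_zero, zero_smul, add_zero]
  have hpw : hp w = w + v := by
    show w + (l * f₁ w v) • v = w + v
    rw [hl1, one_smul]
  have hmv : hm v = v := by
    show v - (l * f₁ v v) • v = v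
    rw [D.s1.alternating, mul_zero, zero_smul, sub_zero]
  have hmw : hm w = w - v := by
    show w - (l * f₁ w v) • v = w - v
    rw [hl1, one_smul]
  have hmp : ∀ u, hp (hm u) = u := fun u => by
    show (u - (l * f₁ u v) • v) + (l * f₁ (u - (l * f₁ u v) • v) v) • v = u
    rw [Symp.sub_left D.s1, D.s1.bilinear.smul_left, D.s1.alternating, mul_zero, sub_zero, sub_add_cancel]
  have hext : ∀ L L' : (Fin r → F) →ₗ[F] (Fin r → F), L v = L' v → L w = L' w → ∀ u, L u = L' u :=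
    fun L L' e1 e2 u => by
      obtain ⟨p, q, rfl⟩ := hsp u
      rw [map_add, map_add, map_smul, map_smul, map_smul, map_smul, hαv, e1, e2]
  let α' : (Fin r → F) →ₗ[F] (Fin r → F) := hp.comp (α.comp hm)
  have hα'v : α' v = w + v := by
    show hp (α (hm v)) = _
    rw [hmv, hαv, hpw]
  have hα'w : α' w = (Δ - 1) • v - w := by
    show hp (α (hm w)) = _
    rw [hmw, map_sub, hαw, hαv, map_sub, map_smul, hpv, hpw]
    module
  have hkey : ∀ u, α (α' u) + α' (α u) = (2 * Δ - 1) • u :=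
    hext (α.comp α' + α'.comp α) ((2 * Δ - 1) • LinearMap.id)
      (by
        show α (α' v) + α' (α v) = (2 * Δ - 1) • v
        rw [hα'v, hαv, map_add, hαw, hαv, hα'w]
        module)
      (by
        show α (α' w) + α' (α w) = (2 * Δ - 1) • w
        rw [hα'w, hαw, map_sub, map_smul, hαv, hαw, map_smul, hα'v]
        module)
  let θ : (Fin r → F) →ₗ[F] (Fin r → F) := α - α'
  have hθv : θ v = -v := by
    show α v - α' v = -v
    rw [hα'v, hαv]; abel
  have hθw : θ w = v + w := by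
    show α w - α' w = v + w
    rw [hα'w, hαw]; module
  have hxn2 : ∀ u, (x : Matrix ι ι F) *ᵥ T u n' = T (bb • u) n + T (-α u) n' := fun u => by rw [hxn', hδ0]
  obtain ⟨x', hx'⟩ : ∃ x', x' = H * x * H⁻¹ := ⟨_, rfl⟩
  have hx'M : x' ∈ M := hx' ▸ mul_mem (mul_mem hHM hxM) (inv_mem hHM)
  have hx'n : ∀ u, (x' : Matrix ι ι F) *ᵥ T u n = T (α' u) n + T (c • u) n' := fun u => by
    rw [hx', gl_mul_mulVec, gl_mul_mulVec, hHiy, hxn, mulVec_add, hHy, hHy, map_smul, hmp]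
    rfl
  have hx'n' : ∀ u, (x' : Matrix ι ι F) *ᵥ T u n' = T (bb • u) n + T (-α' u) n' := fun u => by
    rw [hx', gl_mul_mulVec, gl_mul_mulVec, hHiy, hxn2, mulVec_add, hHy, hHy, map_smul, hmp, map_neg]
    rfl
  obtain ⟨G, hG⟩ : ∃ G, G = x * x' * x := ⟨_, rfl⟩
  have hGM : G ∈ M := hG ▸ mul_mem (mul_mem hxM hx'M) hxM
  have hGn : ∀ u, (G : Matrix ι ι F) *ᵥ T u n = T (θ u) n := fun u => by
    have e1 : α (α' (α u)) = (2 * Δ - 1) • α u - Δ • α' u := by
      have h := hkey (α u)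
      rw [hΔ, map_smul] at h
      exact eq_sub_of_add_eq h
    have e2 : α' (α u) = (2 * Δ - 1) • u - α (α' u) := eq_sub_of_add_eq' (hkey u)
    rw [hG, gl_mul_mulVec, gl_mul_mulVec, hxn, mulVec_add, hx'n, hx'n', mulVec_add, mulVec_add, mulVec_add, hxn,
      hxn2, hxn, hxn2, show θ u = α u - α' u from rfl]
    simp only [map_smul, map_neg, hΔ, e1]
    rw [e2]
    simp only [smul_add, smul_sub, smul_neg, tvec_add_left, tvec_sub_left, tvec_neg_left, tvec_smul_left, smul_smul]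
    rw [hΔd]
    module
  have hGa : ∀ u, (G : Matrix ι ι F) *ᵥ T u a = T u a := fun u => by
    rw [hG, gl_mul_mulVec, gl_mul_mulVec, hxa, hx', gl_mul_mulVec, gl_mul_mulVec, hHiy, hxa, hHy, hmp, hxa]
  obtain ⟨K, hK⟩ : ∃ K, K = D.root v (2 * l) * G * (H * G * H⁻¹) := ⟨_, rfl⟩
  have hKM : K ∈ M := hK ▸ mul_mem (mul_mem (D.root_mem _ _) hGM) (mul_mem (mul_mem hHM hGM) (inv_mem hHM))
  let h2p : (Fin r → F) →ₗ[F] (Fin r → F) := LinearMap.id + ((2 * l) • Symp.sfun D.s1 v).smulRight v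
  have h2pv : h2p v = v := by
    show v + (2 * l * f₁ v v) • v = v
    rw [D.s1.alternating, mul_zero, zero_smul, add_zero]
  have h2pw : h2p w = w + (2 : F) • v := by
    show w + (2 * l * f₁ w v) • v = _
    rw [mul_assoc, hl1, mul_one]
  have hKy : ∀ u y, (D.root v (2 * l) : Matrix ι ι F) *ᵥ T u y = T (h2p u) y := fun u y => by rw [D.root_tv]; rfl
  have hKn : ∀ u, (K : Matrix ι ι F) *ᵥ T u n = T u n := fun u => by
    rw [hK, gl_mul_mulVec, gl_mul_mulVec, gl_mul_mulVec, gl_mul_mulVec, hHiy, hGn, hHy, hGn, hKy]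
    congr 1
    refine hext (h2p.comp (θ.comp (hp.comp (θ.comp hm)))) LinearMap.id ?_ ?_ u
    · show h2p (θ (hp (θ (hm v)))) = v
      simp only [hmv, hθv, map_neg, hpv, neg_neg, h2pv]
    · show h2p (θ (hp (θ (hm w)))) = w
      simp only [hmw, map_sub, map_add, map_neg, hθw, hθv, hpw, hpv, h2pw, h2pv]
      module
  have hKa : ∀ u, (K : Matrix ι ι F) *ᵥ T u a = T (h2p u) a := fun u => by
    rw [hK, gl_mul_mulVec, gl_mul_mulVec, gl_mul_mulVec, gl_mul_mulVec, hHiy, hGa, hHy, hmp, hGa, hKy]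
  obtain ⟨e₀, he₀⟩ := D.fix_pure S.r2 S.notfull hn0 hnn hKM hKn (y := a) (by rw [hg₂.symm, hna])
  have hv0 : v ≠ 0 := fun h => hv (by rw [h, map_zero, Symp.zero_left D.s1])
  have e1 := he₀ v
  rw [hKa, h2pv] at e1
  have hea : a - e₀ = 0 := by
    by_contra hne
    exact tvec_ne_zero (e := e) (P := P) hv0 hne (by rw [tvec_sub_right, e1, sub_self])
  have e2 := he₀ w
  rw [hKa, h2pw, ← sub_eq_zero.1 hea, tvec_add_left, add_eq_left] at e2
  exact tvec_ne_zero (e := e) (P := P) (smul_ne_zero h2 hv0) ha0 e2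

/-- images orthogonal to two independent pure planes are pure -/
theorem SO.pur_plane (S : D.Four) {g : GL ι F} (hg : g ∈ M) {d y z : Fin s → F} (hd : f₂ d d ≠ 0) (hy : y ≠ 0)
    (hyz : ∀ t : F, z ≠ t • y) (hpy : D.Perp g d y) (hpz : D.Perp g d z) : D.Pur g d := by
  have hg₂ := D.s2
  by_cases hyy : f₂ y y = 0
  · exact D.pur_singular S hg hd hy hyy hpy
  obtain ⟨b, hb⟩ : ∃ b, b = z - (f₂ z y / f₂ y y) • y := ⟨_, rfl⟩
  have hb0 : b ≠ 0 := fun h => hyz _ (sub_eq_zero.1 (hb.symm.trans h))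
  have hpb : D.Perp g d b := by
    have h := hpz.comb D hpy 1 (-(f₂ z y / f₂ y y))
    rwa [one_smul, neg_smul, ← sub_eq_add_neg, ← hb] at h
  have hyb : f₂ y b = 0 := by
    rw [hb, Orth.sym_sub_right hg₂, hg₂.bilinear.smul_right, div_mul_cancel₀ _ hyy, hg₂.symm z y, sub_self]
  by_cases hbb : f₂ b b = 0
  · exact D.pur_singular S hg hd hb0 hbb hpb
  by_cases hsq : IsSquare (-(f₂ y y * f₂ b b))
  · obtain ⟨t, ht⟩ := hsq
    refine D.pur_singular S hg hd (n := t • y + f₂ y y • b) (fun h => hyy ?_) ?_ (hpy.comb D hpb _ _)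
    · have h1 := congrArg (fun w => f₂ w b) h
      simp [hg₂.bilinear.add_left, hg₂.bilinear.smul_left, hyb, Orth.sym_zero_left hg₂, hbb] at h1
      exact h1
    · simp [hg₂.bilinear.add_left, hg₂.bilinear.add_right, hg₂.bilinear.smul_left, hg₂.bilinear.smul_right, hyb,
        hg₂.symm b y]
      linear_combination -f₂ y y * ht
  · exact D.pur_aniso S hg hd hyy hbb hyb hsq hpy hpb

end CfsgLib.Perm.Trans.TensorSO
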