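import Cfsg.Agent.Lib.Perm.Trans.TensorSO.FourPlane

/-!
# The decomposition group of a plane tensor a four-dimensional space of minus type is maximal

Conjugates `x` of reflections are not conjugate to the products `y` of two orthogonal reflections, so some
involution of `⟨x, y⟩` centralises both. It is a tensor product, and its fixed or negated vectors in the second
factor are orthogonal to the image plane of `x`.
-/

set_option autoImplicit false
set_option linter.all false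

namespace CfsgLib.Perm.Trans.TensorSO

open scoped Matrix Kronecker
open Matrix Cfsg.Geo CfsgLib.Perm.Asch CfsgLib.Perm.Trans CfsgLib.Perm.Trans.TensorFrame
open CfsgLib.Perm.Trans.TensorMax

variable {ι : Type} [Fintype ι] [DecidableEq ι] {F : Type*} [Field F] [Fintype F] {r s : ℕ}
variable {e : ι ≃ Fin r × Fin s} {P : GL ι F}
variable {f : (ι → F) → (ι → F) → F} {f₁ : (Fin r → F) → (Fin r → F) → F} {f₂ : (Fin s → F) → (Fin s → F) → F}
variable {k : F} {M : Subgroup (GL ι F)}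

local notation "T" => tvec e P

variable (D : SO f f₁ f₂ e P k M)
include D

theorem SO.ne_smul_of_perp {a b : Fin s → F} (hbb : f₂ b b ≠ 0) (hab : f₂ a b = 0) (t : F) : b ≠ t • a := fun h =>
  hbb (by nth_rw 1 [h]; rw [D.s2.bilinear.smul_left, hab, mul_zero])

theorem SO.exists_perp_ne (S : D.Four) {a b : Fin s → F} (hb : b ≠ 0) (hbb : f₂ b b = 0) (hba : f₂ b a = 0) :
    ∃ q, f₂ q b = 1 := by
  obtain ⟨q, hq⟩ := exists_dot_ne_zero hb D.s2
  exact ⟨(f₂ b q)⁻¹ • q, by rw [D.s2.bilinear.smul_left, D.s2.symm q b, inv_mul_cancel₀ hq]⟩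

/-- the image of a vector orthogonal to two pure-imaged vectors is pure -/
theorem SO.pur_two (S : D.Four) {g : GL ι F} (hg : g ∈ M) {d c c' : Fin s → F} (hd : f₂ d d ≠ 0)
    (hc : f₂ c c ≠ 0) (hc' : f₂ c' c' ≠ 0) (hcc : f₂ c c' = 0) (hpc : D.Pur g c) (hpc' : D.Pur g c')
    (hdc : f₂ d c = 0) (hdc' : f₂ d c' = 0) : D.Pur g d := by
  have hg₂ := D.s2
  have hsurj : ∀ c, f₂ c c ≠ 0 → ∀ m, f₂ m m ≠ 0 → (∀ u, ∃ u', (g : Matrix ι ι F) *ᵥ T u c = T u' m) →
      ∀ v, ∃ v', (g : Matrix ι ι F) *ᵥ T v' c = T v m := fun c hc m hm h => by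
    choose A hA using h
    have hc0 : c ≠ 0 := fun h0 => hc (by rw [h0, Orth.sym_zero_left hg₂])
    have hm0 : m ≠ 0 := fun h0 => hm (by rw [h0, Orth.sym_zero_left hg₂])
    let Al : (Fin r → F) →ₗ[F] (Fin r → F) :=
      { toFun := A
        map_add' := fun u v => tvec_left_inj (e := e) (P := P) hm0
          (by rw [← hA, tvec_add_left, tvec_add_left, mulVec_add, hA, hA])
        map_smul' := fun t u => tvec_left_inj (e := e) (P := P) hm0
          (by rw [← hA, tvec_smul_left, mulVec_smul, hA, ← tvec_smul_left]; rfl) }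
    have hinj : Function.Injective Al := (injective_iff_map_eq_zero Al).2 fun u hu => by
      have h1 := hA u
      rw [show A u = 0 from hu, tvec_zero_left, gl_mulVec_eq_zero] at h1
      exact tvec_left_inj (e := e) (P := P) hc0 (h1.trans (tvec_zero_left _).symm)
    intro v
    obtain ⟨v', hv'⟩ := LinearMap.injective_iff_surjective.1 hinj v
    exact ⟨v', by rw [hA, show A v' = v from hv']⟩
  obtain ⟨m, hm, hmap⟩ := hpc
  obtain ⟨m', hm', hmap'⟩ := hpc'
  have hperp : ∀ c, f₂ c c ≠ 0 → f₂ d c = 0 → ∀ m, f₂ m m ≠ 0 →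
      (∀ u, ∃ u', (g : Matrix ι ι F) *ᵥ T u c = T u' m) → D.Perp g d m := fun c hc hdc m hm h u => D.f1_ext fun v => by
    obtain ⟨v', hv'⟩ := hsurj c hc m hm h v
    have h1 := Symp.mem_isoSub.1 (D.le hg) (T u d) (T v' c)
    rw [hv', D.pol_cod, D.pol, hdc, mul_zero, mul_zero] at h1
    exact (mul_eq_zero.1 h1).resolve_left D.kne
  have hmm : f₂ m m' = 0 := by
    obtain ⟨a, ha⟩ : ∃ a : Fin r → F, a ≠ 0 := ⟨Pi.single ⟨0, D.rpos⟩ 1, by simp⟩
    obtain ⟨p, hp⟩ := D.exists_partner ha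
    obtain ⟨a', ha'⟩ := hsurj c hc m hm hmap p
    obtain ⟨b', hb'⟩ := hsurj c' hc' m' hm' hmap' a
    have h1 := Symp.mem_isoSub.1 (D.le hg) (T a' c) (T b' c')
    rw [ha', hb', D.pol, D.pol, hp, hcc, mul_zero, mul_zero, one_mul] at h1
    exact (mul_eq_zero.1 h1).resolve_left D.kne
  exact D.pur_plane S hg hd (fun h => hm (by rw [h, Orth.sym_zero_left hg₂])) (D.ne_smul_of_perp hm' hmm)
    (hperp c hc hdc m hm hmap) (hperp c' hc' hdc' m' hm' hmap')

/-- a second vector orthogonal to `d` when the part of `d` orthogonal to `⟨a, b⟩` is singular -/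
theorem SO.second_vec {X X' d n n' : Fin s → F} (hX : f₂ X X ≠ 0) (hnn : f₂ n n = 0) (hn'n' : f₂ n' n' = 0)
    (hn'n : f₂ n' n = 1) (hXn : f₂ X n = 0) (hXn' : f₂ X n' = 0) (hd : d = X + n)
    (hX' : X' = n' + (1 / (2 * f₂ X X)) • n) :
    f₂ (-(1 / f₂ X X) • X + X') d = 0 ∧ f₂ X' X' ≠ 0 ∧ f₂ (-(1 / f₂ X X) • X + X') (-(1 / f₂ X X) • X + X') ≠ 0 := by
  have hg := D.s2
  have h2 := D.two
  have e1 : f₂ X' X = 0 := by
    simp [hX', hg.bilinear.add_left, hg.bilinear.smul_left, hg.symm n X, hg.symm n' X, hXn, hXn']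
  have e2 : f₂ X' n = 1 := by
    simp [hX', hg.bilinear.add_left, hg.bilinear.smul_left, hn'n, hnn]
  have e3 : f₂ X' X' = 1 / f₂ X X := by
    have e4 : f₂ X' n' = 1 / (2 * f₂ X X) := by
      simp [hX', hg.bilinear.add_left, hg.bilinear.smul_left, hg.symm n n', hn'n, hn'n']
    nth_rw 2 [hX']
    rw [hg.bilinear.add_right, hg.bilinear.smul_right, e4, e2]
    field_simp
    ring
  refine ⟨?_, by rw [e3]; exact one_div_ne_zero hX, ?_⟩
  · rw [hd]
    simp [Orth.sym_neg_left hg, hg.bilinear.add_left, hg.bilinear.add_right, hg.bilinear.smul_left, hXn, e1, e2, hX]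
  · rw [hg.bilinear.add_left, hg.bilinear.smul_left, hg.bilinear.add_right, hg.bilinear.add_right (v := X'),
      hg.bilinear.smul_right, hg.bilinear.smul_right, hg.symm X X', e1, e3]
    field_simp
    simpa [hX, one_add_one_eq_two] using h2

/-- pure images on two complementary planes give pure images everywhere -/
theorem SO.pres (S : D.Four) {g : GL ι F} (hg : g ∈ M) {a b : Fin s → F} (haa : f₂ a a ≠ 0) (hbb : f₂ b b ≠ 0)
    (hab : f₂ a b = 0) {p q : Fin s → F} (hp : f₂ p p ≠ 0) (hq : f₂ q q ≠ 0) (hpq : f₂ p q = 0)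
    (hout : ∀ d, f₂ d a = 0 → f₂ d b = 0 → D.Perp g d p ∧ D.Perp g d q)
    {p' q' : Fin s → F} (hp' : p' ≠ 0) (hpq' : ∀ t : F, q' ≠ t • p')
    (hin : ∀ i j : F, D.Perp g (i • a + j • b) p' ∧ D.Perp g (i • a + j • b) q') :
    g ∈ tensorProductSubgroup r s e P := by
  have hg₂ := D.s2
  have h2 := D.two
  -- two more vectors
  obtain ⟨c, hca, hcb, hcc⟩ : ∃ c, f₂ c a = 0 ∧ f₂ c b = 0 ∧ f₂ c c ≠ 0 := by
    obtain ⟨c, hc, hca, hcb, -⟩ := D.exists_perp3 S a b 0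
    by_cases hcc : f₂ c c = 0
    swap
    · exact ⟨c, hca, hcb, hcc⟩
    obtain ⟨q0, hq0⟩ := D.exists_perp_ne S hc hcc hca
    obtain ⟨q1, hq1⟩ : ∃ q1, q1 = q0 - (f₂ q0 a / f₂ a a) • a - (f₂ q0 b / f₂ b b) • b := ⟨_, rfl⟩
    have e1 : f₂ q1 a = 0 := by simp [hq1, Orth.sym_sub_left hg₂, hg₂.bilinear.smul_left, hg₂.symm b a, hab, haa]
    have e2 : f₂ q1 b = 0 := by simp [hq1, Orth.sym_sub_left hg₂, hg₂.bilinear.smul_left, hab, hbb]
    have e3 : f₂ q1 c = 1 := by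
      simp [hq1, Orth.sym_sub_left hg₂, hg₂.bilinear.smul_left, hg₂.symm a c, hg₂.symm b c, hca, hcb, hq0]
    by_cases e4 : f₂ q1 q1 = 0
    · refine ⟨q1 + c, ?_, ?_, ?_⟩
      · simp [hg₂.bilinear.add_left, e1, hca]
      · simp [hg₂.bilinear.add_left, e2, hcb]
      · simp [hg₂.bilinear.add_left, hg₂.bilinear.add_right, e4, hg₂.symm c q1, e3, hcc]
        rw [one_add_one_eq_two]; exact h2
    · exact ⟨q1, e1, e2, e4⟩
  obtain ⟨w, hw0, hwa, hwb, hwc⟩ := D.exists_perp3 S a b c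
  have hww : f₂ w w ≠ 0 := by
    intro h0
    -- a singular vector independent of `w` orthogonal to it
    obtain ⟨i, j, hij⟩ := exists_binary h2 haa hbb (-f₂ c c) (neg_ne_zero.2 hcc)
    obtain ⟨l, hl⟩ := S.minus w (i • a + j • b + c) hw0 h0
      (by simp [hg₂.bilinear.add_left, hg₂.bilinear.add_right, hg₂.bilinear.smul_left, hg₂.bilinear.smul_right, hab,
          hg₂.symm b a, hg₂.symm a c, hg₂.symm b c, hca, hcb]
          linear_combination hij)
      (by simp [hg₂.bilinear.add_right, hg₂.bilinear.smul_right, hwa, hwb, hwc])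
    have h1 := congrArg (fun z => f₂ z c) hl
    simp [hg₂.bilinear.add_left, hg₂.bilinear.smul_left, hg₂.symm a c, hg₂.symm b c, hca, hcb, hwc, hcc] at h1
  have hdec : ∀ y, y = ((f₂ y a / f₂ a a) • a + (f₂ y b / f₂ b b) • b) +
      ((f₂ y c / f₂ c c) • c + (f₂ y w / f₂ w w) • w) := fun y => by
    refine sub_eq_zero.1 (D.four_zero S ![a, b, c, w]
      ![(f₂ a a)⁻¹ • a, (f₂ b b)⁻¹ • b, (f₂ c c)⁻¹ • c, (f₂ w w)⁻¹ • w] ?_ ?_)
    · intro i j
      fin_cases i <;> fin_cases j <;>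
        simp [hg₂.bilinear.smul_left, haa, hbb, hcc, hww, hab, hg₂.symm b a, hg₂.symm a c, hg₂.symm b c, hg₂.symm a w,
          hg₂.symm b w, hg₂.symm c w, hca, hcb, hwa, hwb, hwc]
    · intro j
      fin_cases j <;>
        simp [Orth.sym_sub_left hg₂, hg₂.bilinear.add_left, hg₂.bilinear.smul_left, haa, hbb, hcc, hww, hab,
          hg₂.symm b a, hg₂.symm a c, hg₂.symm b c, hg₂.symm a w, hg₂.symm b w, hg₂.symm c w, hca, hcb, hwa, hwb, hwc]
  -- the two planes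
  have hinP : ∀ i j : F, f₂ (i • a + j • b) (i • a + j • b) ≠ 0 → D.Pur g (i • a + j • b) := fun i j h =>
    D.pur_plane S hg h hp' hpq' (hin i j).1 (hin i j).2
  have houtP : ∀ d, f₂ d a = 0 → f₂ d b = 0 → f₂ d d ≠ 0 → D.Pur g d := fun d h1 h2' h =>
    D.pur_plane S hg h (fun h0 => hp (by rw [h0, Orth.sym_zero_left hg₂])) (D.ne_smul_of_perp hq hpq)
      (hout d h1 h2').1 (hout d h1 h2').2
  -- a general vector
  have key : ∀ (X Y d : Fin s → F), d = X + Y → (∃ i j : F, X = i • a + j • b) → f₂ Y a = 0 → f₂ Y b = 0 →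
      f₂ X X ≠ 0 → f₂ Y Y ≠ 0 → f₂ d d ≠ 0 → D.Pur g d := by
    rintro X Y d hd ⟨i, j, hX⟩ hYa hYb hXX hYY hdd
    obtain ⟨c', hc', hc'a, hc'b, hc'Y⟩ := D.exists_perp3 S a b Y
    have hc'0 : f₂ c' c' ≠ 0 := fun h0 => by
      obtain ⟨i', j', hij⟩ := exists_binary h2 haa hbb (-f₂ Y Y) (neg_ne_zero.2 hYY)
      obtain ⟨l, hl⟩ := S.minus c' (i' • a + j' • b + Y) hc' h0
        (by simp [hg₂.bilinear.add_left, hg₂.bilinear.add_right, hg₂.bilinear.smul_left, hg₂.bilinear.smul_right, hab,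
            hg₂.symm b a, hg₂.symm a Y, hg₂.symm b Y, hYa, hYb]
            linear_combination hij)
        (by simp [hg₂.bilinear.add_right, hg₂.bilinear.smul_right, hc'a, hc'b, hc'Y])
      have h1 := congrArg (fun z => f₂ z Y) hl
      simp [hg₂.bilinear.add_left, hg₂.bilinear.smul_left, hg₂.symm a Y, hg₂.symm b Y, hYa, hYb, hc'Y, hYY] at h1
    have hXX' : f₂ X X = i * i * f₂ a a + j * j * f₂ b b := by
      simp [hX, hg₂.bilinear.add_left, hg₂.bilinear.add_right, hg₂.bilinear.smul_left, hg₂.bilinear.smul_right, hab,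
        hg₂.symm b a]
      ring
    have hcin : f₂ ((-(j * f₂ b b)) • a + (i * f₂ a a) • b) ((-(j * f₂ b b)) • a + (i * f₂ a a) • b) ≠ 0 := by
      rw [show f₂ ((-(j * f₂ b b)) • a + (i * f₂ a a) • b) ((-(j * f₂ b b)) • a + (i * f₂ a a) • b) =
        f₂ a a * f₂ b b * f₂ X X by
          simp only [hXX', hg₂.bilinear.add_left, hg₂.bilinear.add_right, hg₂.bilinear.smul_left,
            hg₂.bilinear.smul_right, hab, hg₂.symm b a]
          ring]
      exact mul_ne_zero (mul_ne_zero haa hbb) hXX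
    refine D.pur_two S hg hdd hcin hc'0 ?_ (hinP _ _ hcin) (houtP c' hc'a hc'b hc'0) ?_ ?_
    · simp only [hg₂.bilinear.add_left, hg₂.bilinear.smul_left, hg₂.symm a c', hg₂.symm b c', hc'a, hc'b]
      ring
    · simp only [hd, hX, hg₂.bilinear.add_left, hg₂.bilinear.add_right, hg₂.bilinear.smul_left,
        hg₂.bilinear.smul_right, hab, hg₂.symm b a, hYa, hYb]
      ring
    · rw [hd, hX, hg₂.bilinear.add_left, hg₂.bilinear.add_left, hg₂.bilinear.smul_left, hg₂.bilinear.smul_left,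
        hg₂.symm a c', hg₂.symm b c', hc'a, hc'b, hg₂.symm Y c', hc'Y]
      ring
  refine D.frame_tensor hg fun d hd => ?_
  obtain ⟨X, hX⟩ : ∃ X, X = (f₂ d a / f₂ a a) • a + (f₂ d b / f₂ b b) • b := ⟨_, rfl⟩
  obtain ⟨Y, hY⟩ : ∃ Y, Y = (f₂ d c / f₂ c c) • c + (f₂ d w / f₂ w w) • w := ⟨_, rfl⟩
  have hdXY : d = X + Y := by rw [hX, hY]; exact hdec d
  have hYa : f₂ Y a = 0 := by simp [hY, hg₂.bilinear.add_left, hg₂.bilinear.smul_left, hca, hwa]
  have hYb : f₂ Y b = 0 := by simp [hY, hg₂.bilinear.add_left, hg₂.bilinear.smul_left, hcb, hwb]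
  have hXc : f₂ X c = 0 := by simp [hX, hg₂.bilinear.add_left, hg₂.bilinear.smul_left, hg₂.symm a c, hg₂.symm b c, hca, hcb]
  have hXw : f₂ X w = 0 := by simp [hX, hg₂.bilinear.add_left, hg₂.bilinear.smul_left, hg₂.symm a w, hg₂.symm b w, hwa, hwb]
  have hXY : f₂ X Y = 0 := by simp [hY, hg₂.bilinear.add_right, hg₂.bilinear.smul_right, hXc, hXw]
  have hQ : f₂ d d = f₂ X X + f₂ Y Y := by
    simp [hdXY, hg₂.bilinear.add_left, hg₂.bilinear.add_right, hXY, hg₂.symm Y X]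
  by_cases hXX : f₂ X X = 0
  · have hYY : f₂ Y Y ≠ 0 := fun h => hd (by rw [hQ, hXX, h, add_zero])
    by_cases hX0 : X = 0
    · exact houtP d (by rw [hdXY, hX0, zero_add, hYa]) (by rw [hdXY, hX0, zero_add, hYb]) hd
    -- `d` has a singular part in the first plane
    obtain ⟨z, hz⟩ : ∃ z, z = (-(f₂ d w)) • c + (f₂ d c) • w := ⟨_, rfl⟩
    have hzz : f₂ z z = f₂ c c * f₂ w w * f₂ Y Y := by
      simp [hz, hY, hg₂.bilinear.add_left, hg₂.bilinear.add_right, hg₂.bilinear.smul_left, hg₂.bilinear.smul_right,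
        Orth.sym_neg_left hg₂, Orth.sym_neg_right hg₂, hwc, hg₂.symm c w]
      field_simp
      ring
    have hz0 : f₂ z z ≠ 0 := hzz ▸ mul_ne_zero (mul_ne_zero hcc hww) hYY
    have hza : f₂ z a = 0 := by simp [hz, Orth.sym_neg_left hg₂, hg₂.bilinear.add_left, hg₂.bilinear.smul_left, hca, hwa]
    have hzb : f₂ z b = 0 := by simp [hz, Orth.sym_neg_left hg₂, hg₂.bilinear.add_left, hg₂.bilinear.smul_left, hcb, hwb]
    have hdz : f₂ d z = 0 := by
      simp [hz, Orth.sym_neg_right hg₂, hg₂.bilinear.add_right, hg₂.bilinear.smul_right]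
      ring
    obtain ⟨i, j, hij⟩ : ∃ i j : F, X = i • a + j • b := ⟨_, _, hX⟩
    obtain ⟨q0, hq0⟩ := D.exists_perp_ne S hX0 hXX hXc
    obtain ⟨q1, hq1⟩ : ∃ q1, q1 = (f₂ q0 a / f₂ a a) • a + (f₂ q0 b / f₂ b b) • b := ⟨_, rfl⟩
    have hq1X : f₂ q1 X = 1 := by
      rw [← hq0, hij]
      simp [hq1, hg₂.bilinear.add_left, hg₂.bilinear.add_right, hg₂.bilinear.smul_left, hg₂.bilinear.smul_right, hab,
        hg₂.symm b a, haa, hbb]
      field_simp
    have hq1c : f₂ q1 c = 0 := by simp [hq1, hg₂.bilinear.add_left, hg₂.bilinear.smul_left, hg₂.symm a c, hg₂.symm b c, hca, hcb]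
    have hq1w : f₂ q1 w = 0 := by simp [hq1, hg₂.bilinear.add_left, hg₂.bilinear.smul_left, hg₂.symm a w, hg₂.symm b w, hwa, hwb]
    obtain ⟨X', hX'⟩ : ∃ X', X' = (q1 - (f₂ q1 q1 / 2) • X) + (1 / (2 * f₂ Y Y)) • X := ⟨_, rfl⟩
    have hYX : f₂ Y X = 0 := by rw [hg₂.symm, hXY]
    have hYq : f₂ Y q1 = 0 := by
      simp [hY, hg₂.bilinear.add_left, hg₂.bilinear.smul_left, hg₂.symm c q1, hg₂.symm w q1, hq1c, hq1w]
    obtain ⟨e1, e2, e3⟩ := D.second_vec (X := Y) (d := d) (n := X) (n' := q1 - (f₂ q1 q1 / 2) • X) hYY hXX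
      (by simp [Orth.sym_sub_left hg₂, Orth.sym_sub_right hg₂, hg₂.bilinear.smul_left, hg₂.bilinear.smul_right, hXX,
            hg₂.symm X q1, hq1X]; field_simp; ring)
      (by simp [Orth.sym_sub_left hg₂, hg₂.bilinear.smul_left, hXX, hq1X]) hYX
      (by simp [Orth.sym_sub_right hg₂, hg₂.bilinear.smul_right, hYX, hYq]) (by rw [hdXY, add_comm]) hX'
    have hX'in : ∃ i' j' : F, X' = i' • a + j' • b := by
      rw [hX', hij, hq1]
      exact ⟨f₂ q0 a / f₂ a a + (1 / (2 * f₂ Y Y) - f₂ q1 q1 / 2) * i,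
        f₂ q0 b / f₂ b b + (1 / (2 * f₂ Y Y) - f₂ q1 q1 / 2) * j, by rw [← hq1, ← hij]; rw [hq1, hij]; module⟩
    have hYY' : f₂ (-(1 / f₂ Y Y) • Y) (-(1 / f₂ Y Y) • Y) ≠ 0 := by
      rw [hg₂.bilinear.smul_left, hg₂.bilinear.smul_right]
      exact mul_ne_zero (neg_ne_zero.2 (one_div_ne_zero hYY)) (mul_ne_zero (neg_ne_zero.2 (one_div_ne_zero hYY)) hYY)
    refine D.pur_two S hg hd hz0 e3 ?_ (houtP z hza hzb hz0)
      (key X' (-(1 / f₂ Y Y) • Y) _ (add_comm _ _) hX'in (by rw [hg₂.bilinear.smul_left, hYa, mul_zero])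
        (by rw [hg₂.bilinear.smul_left, hYb, mul_zero]) e2 hYY' e3) hdz ?_
    · have hzY : f₂ z Y = 0 := by
        simp [hz, hY, hg₂.bilinear.add_left, hg₂.bilinear.add_right, hg₂.bilinear.smul_left, hg₂.bilinear.smul_right,
          Orth.sym_neg_left hg₂, hwc, hg₂.symm c w]
        field_simp
        ring
      obtain ⟨i', j', h'⟩ := hX'in
      rw [hg₂.bilinear.add_right, hg₂.bilinear.smul_right, hzY, h', hg₂.bilinear.add_right, hg₂.bilinear.smul_right,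
        hg₂.bilinear.smul_right, hza, hzb]
      ring
    · rw [hg₂.symm]; exact e1
  by_cases hYY : f₂ Y Y = 0
  swap
  · exact key X Y d hdXY ⟨_, _, hX⟩ hYa hYb hXX hYY hd
  by_cases hY0 : Y = 0
  · rw [hdXY, hY0, add_zero, hX]
    exact hinP _ _ (by rw [← hX]; exact hXX)
  -- `d` has a singular part in the second plane
  obtain ⟨z, hz⟩ : ∃ z, z = (-(f₂ d b)) • a + (f₂ d a) • b := ⟨_, rfl⟩
  have hzz : f₂ z z = f₂ a a * f₂ b b * f₂ X X := by
    simp [hz, hX, hg₂.bilinear.add_left, hg₂.bilinear.add_right, hg₂.bilinear.smul_left, hg₂.bilinear.smul_right,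
      Orth.sym_neg_left hg₂, Orth.sym_neg_right hg₂, hab, hg₂.symm b a]
    field_simp
    ring
  have hz0 : f₂ z z ≠ 0 := hzz ▸ mul_ne_zero (mul_ne_zero haa hbb) hXX
  have hdz : f₂ d z = 0 := by
    simp [hz, Orth.sym_neg_right hg₂, hg₂.bilinear.add_right, hg₂.bilinear.smul_right]
    ring
  obtain ⟨q0, hq0⟩ := D.exists_perp_ne S hY0 hYY hYa
  obtain ⟨q1, hq1⟩ : ∃ q1, q1 = (f₂ q0 c / f₂ c c) • c + (f₂ q0 w / f₂ w w) • w := ⟨_, rfl⟩
  have hq1Y : f₂ q1 Y = 1 := by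
    rw [← hq0, hY]
    simp [hq1, hg₂.bilinear.add_left, hg₂.bilinear.add_right, hg₂.bilinear.smul_left, hg₂.bilinear.smul_right, hwc,
      hg₂.symm c w, hcc, hww]
    ring
  have hq1a : f₂ q1 a = 0 := by simp [hq1, hg₂.bilinear.add_left, hg₂.bilinear.smul_left, hca, hwa]
  have hq1b : f₂ q1 b = 0 := by simp [hq1, hg₂.bilinear.add_left, hg₂.bilinear.smul_left, hcb, hwb]
  obtain ⟨Y', hY'⟩ : ∃ Y', Y' = (q1 - (f₂ q1 q1 / 2) • Y) + (1 / (2 * f₂ X X)) • Y := ⟨_, rfl⟩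
  have hXq : f₂ X q1 = 0 := by
    simp [hX, hg₂.bilinear.add_left, hg₂.bilinear.smul_left, hg₂.symm a q1, hg₂.symm b q1, hq1a, hq1b]
  obtain ⟨e1, e2, e3⟩ := D.second_vec (X := X) (d := d) (n := Y) (n' := q1 - (f₂ q1 q1 / 2) • Y) hXX hYY
    (by simp [Orth.sym_sub_left hg₂, Orth.sym_sub_right hg₂, hg₂.bilinear.smul_left, hg₂.bilinear.smul_right, hYY,
          hg₂.symm Y q1, hq1Y]; field_simp; ring)
    (by simp [Orth.sym_sub_left hg₂, hg₂.bilinear.smul_left, hYY, hq1Y]) hXY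
    (by simp [Orth.sym_sub_right hg₂, hg₂.bilinear.smul_right, hXY, hXq]) hdXY hY'
  have hY'a : f₂ Y' a = 0 := by
    simp [hY', hg₂.bilinear.add_left, Orth.sym_sub_left hg₂, hg₂.bilinear.smul_left, hq1a, hYa]
  have hY'b : f₂ Y' b = 0 := by
    simp [hY', hg₂.bilinear.add_left, Orth.sym_sub_left hg₂, hg₂.bilinear.smul_left, hq1b, hYb]
  have hXX' : f₂ (-(1 / f₂ X X) • X) (-(1 / f₂ X X) • X) ≠ 0 := by
    rw [hg₂.bilinear.smul_left, hg₂.bilinear.smul_right]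
    exact mul_ne_zero (neg_ne_zero.2 (one_div_ne_zero hXX)) (mul_ne_zero (neg_ne_zero.2 (one_div_ne_zero hXX)) hXX)
  refine D.pur_two S hg hd hz0 e3 ?_ (by rw [hz]; exact hinP _ _ (hz ▸ hz0))
    (key (-(1 / f₂ X X) • X) Y' _ rfl ⟨-(1 / f₂ X X) * (f₂ d a / f₂ a a), -(1 / f₂ X X) * (f₂ d b / f₂ b b),
      by rw [hX]; module⟩ hY'a hY'b hXX' e2 e3) hdz ?_
  · have hzY : f₂ z Y' = 0 := by
      rw [hz, hg₂.bilinear.add_left, hg₂.bilinear.smul_left, hg₂.bilinear.smul_left, hg₂.symm a Y', hg₂.symm b Y',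
        hY'a, hY'b]
      ring
    have hzX : f₂ z X = 0 := by
      simp [hz, hX, hg₂.bilinear.add_left, hg₂.bilinear.add_right, hg₂.bilinear.smul_left, hg₂.bilinear.smul_right,
        Orth.sym_neg_left hg₂, hab, hg₂.symm b a]
      field_simp
      ring
    rw [hg₂.bilinear.add_right, hg₂.bilinear.smul_right, hzY, hzX]
    ring
  · rw [hg₂.symm]; exact e1

/-- an element commuting with two orthogonal reflections is a tensor product -/
theorem SO.cen_pair (S : D.Four) {g : GL ι F} (hg : g ∈ M) {a b : Fin s → F} (haa : f₂ a a ≠ 0) (hbb : f₂ b b ≠ 0)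
    (hab : f₂ a b = 0) (hc : g * (D.R a haa * D.R b hbb) = D.R a haa * D.R b hbb * g) :
    g ∈ tensorProductSubgroup r s e P := by
  have hg₂ := D.s2
  have h2 := D.two
  obtain ⟨y, hy⟩ : ∃ y, y = D.R a haa * D.R b hbb := ⟨_, rfl⟩
  have hyM : y ∈ M := hy ▸ mul_mem (D.R_mem a haa) (D.R_mem b hbb)
  have hyT : ∀ u d, (y : Matrix ι ι F) *ᵥ T u d =
      T u d - T ((2 / f₂ a a) • f₂ d a • u) a - T ((2 / f₂ b b) • f₂ d b • u) b := fun u d => by
    rw [hy, gl_mul_mulVec, D.R_mulVec b hbb, mulVec_sub, D.R_mulVec a haa, D.R_mulVec a haa, D.cod_tvec, D.cod_tvec,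
      D.cod_tvec, hg₂.symm b a, hab, zero_smul, smul_zero, tvec_zero_left, sub_zero]
  have hyg : ∀ z, (y : Matrix ι ι F) *ᵥ ((g : Matrix ι ι F) *ᵥ z) = (g : Matrix ι ι F) *ᵥ ((y : Matrix ι ι F) *ᵥ z) :=
    fun z => by rw [← gl_mul_mulVec, ← gl_mul_mulVec, hy, hc]
  obtain ⟨a', hca, hcb, hcc, b', hwa, hwb, hwc, hww⟩ : ∃ a', f₂ a' a = 0 ∧ f₂ a' b = 0 ∧ a' ≠ 0 ∧
      ∃ b', f₂ b' a = 0 ∧ f₂ b' b = 0 ∧ (∀ t : F, b' ≠ t • a') ∧ True := by
    obtain ⟨a', ha', h1, h3, -⟩ := D.exists_perp3 S a b 0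
    obtain ⟨γ, hγ⟩ := exists_dot_ne_zero ha' hg₂
    obtain ⟨b', hb', h4, h5, h6⟩ := D.exists_perp3 S a b γ
    refine ⟨a', h1, h3, ha', b', h4, h5, fun t h => ?_, trivial⟩
    rw [h, hg₂.bilinear.smul_left, mul_eq_zero] at h6
    rcases h6 with h6 | h6
    · exact hb' (by rw [h, h6, zero_smul])
    · exact hγ h6
  refine D.pres S hg haa hbb hab haa hbb hab (fun d hda hdb => ?_) hcc hwc fun i j => ?_
  · have hfix : ∀ u, (y : Matrix ι ι F) *ᵥ ((g : Matrix ι ι F) *ᵥ T u d) = (g : Matrix ι ι F) *ᵥ T u d := fun u => by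
      rw [hyg, hyT, hda, hdb, zero_smul, smul_zero, smul_zero, tvec_zero_left, tvec_zero_left, sub_zero,
        sub_zero]
    have hneg : ∀ m, (∀ v, (y : Matrix ι ι F) *ᵥ T v m = -T v m) → D.Perp g d m := fun m hm u => D.f1_ext fun v => by
      have h1 := Symp.mem_isoSub.1 (D.le hyM) ((g : Matrix ι ι F) *ᵥ T u d) (T v m)
      rw [hfix, hm, Symp.neg_right D.hf, D.pol_cod] at h1
      exact (mul_eq_zero.1 ((mul_eq_zero.1 (show (2 : F) * (k * f₁ (D.cod m ((g : Matrix ι ι F) *ᵥ T u d)) v) = 0 by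
        linear_combination -h1)).resolve_left h2)).resolve_left D.kne
    refine ⟨hneg a fun v => ?_, hneg b fun v => ?_⟩
    · rw [hyT, hab, zero_smul, smul_zero, tvec_zero_left, sub_zero, smul_smul, div_mul_cancel₀ _ haa, tvec_smul_left,
        two_smul]
      abel
    · rw [hyT, hg₂.symm b a, hab, zero_smul, smul_zero, tvec_zero_left, sub_zero, smul_smul, div_mul_cancel₀ _ hbb,
        tvec_smul_left, two_smul]
      abel
  · have hneg : ∀ u, (y : Matrix ι ι F) *ᵥ ((g : Matrix ι ι F) *ᵥ T u (i • a + j • b)) =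
        -((g : Matrix ι ι F) *ᵥ T u (i • a + j • b)) := fun u => by
      rw [hyg, ← mulVec_neg, hyT]
      congr 1
      simp only [hg₂.bilinear.add_left, hg₂.bilinear.smul_left, hab, hg₂.symm b a, mul_zero, add_zero, zero_add,
        smul_smul, tvec_smul_left, tvec_add_right, tvec_smul_right]
      match_scalars <;> field_simp <;> ring
    have hfix : ∀ m, f₂ m a = 0 → f₂ m b = 0 → D.Perp g (i • a + j • b) m := fun m hma hmb u => D.f1_ext fun v => by
      have h1 := Symp.mem_isoSub.1 (D.le hyM) ((g : Matrix ι ι F) *ᵥ T u (i • a + j • b)) (T v m)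
      rw [hneg, hyT, hma, hmb, zero_smul, smul_zero, smul_zero, tvec_zero_left, tvec_zero_left, sub_zero,
        sub_zero, Symp.neg_left D.hf, D.pol_cod] at h1
      exact (mul_eq_zero.1 ((mul_eq_zero.1 (show (2 : F) *
        (k * f₁ (D.cod m ((g : Matrix ι ι F) *ᵥ T u (i • a + j • b))) v) = 0 by
        linear_combination -h1)).resolve_left h2)).resolve_left D.kne
    exact ⟨hfix _ hca hcb, hfix _ hwa hwb⟩

end CfsgLib.Perm.Trans.TensorSO
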